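import Cfsg.Agent.H11.PMinFF.Lift

/-!
A p-minimal group with an offender moves the fixed points of its Sylow subgroup, and has blocks.
-/

set_option autoImplicit false

namespace Cfsg.Agent.H11.PMinFF

open Subgroup Cfsg.Agent.H63 Cfsg.Agent.H31.SL2Pair

universe u v

variable {P : Type u} [Group P] [Finite P] {p : ℕ} [Fact p.Prime] {T : Sylow p P} {M : Subgroup P}

theorem setting_of {V W : Type v} [AddCommGroup V] [DistribMulAction P V] [AddCommGroup W]
    [DistribMulAction P W] (hs : Setting p V T M) (hW : ∀ w : W, p • w = 0)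
    (hf : ∀ g : P, (∀ w : W, g • w = w) → g = 1) : Setting p W T M :=
  ⟨hW, hf, hs.coatom, hs.le, hs.above, hs.core⟩

theorem moves_of_disp_top : ∀ (n : ℕ) (V : Type v) [AddCommGroup V] [Finite V] [DistribMulAction P V],
    Nat.card V ≤ n → Setting p V T M → (offs p V (T : Subgroup P)).Nonempty →
    disp V (Cfsg.pResidual p P) = ⊤ → Moves p V T M := by
  intro n
  induction n with
  | zero =>
    intro V _ _ _ h
    have : 0 < Nat.card V := Nat.card_pos
    omega
  | succ n ih =>
    intro V _ _ _ hn hs hne hd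
    classical
    set H := Cfsg.pResidual p P
    refine ⟨?_, disp_moves hs (by rw [hd, top_sup_eq])⟩
    obtain ⟨A, hA⟩ := hne
    have hAT := hA.2
    suffices hx : ∃ x ∈ fixS V (T : Subgroup P), ∃ g : P, g • x ≠ x by
      by_contra hne'
      obtain ⟨x, hx, g, hg⟩ := hx
      have htop : fixOf P (fixS V (T : Subgroup P)) = ⊤ :=
        by_contra fun h' => hne' (hs.above _ (fun t ht v hv => hv t ht) h')
      exact hg ((htop ▸ mem_top g : g ∈ fixOf P (fixS V (T : Subgroup P))) x hx)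
    obtain ⟨a, ha, ha1⟩ := A.bot_or_exists_ne_one.resolve_left hA.1.1.1
    obtain ⟨v₀, hv₀⟩ : ∃ v : V, v ≠ 0 := by
      by_contra hno
      push_neg at hno
      exact ha1 (hs.faith a fun v => by rw [hno v, smul_zero])
    by_cases hD : fixS V H = ⊥
    · obtain ⟨x, -, hx0, hxT⟩ := exists_fixed_ne_zero T.2 hs.char (S := (⊤ : AddSubgroup V))
        (fun _ _ _ _ => trivial) (AddSubgroup.mem_top v₀) hv₀
      refine ⟨x, hxT, ?_⟩
      by_contra hno
      push_neg at hno
      exact hx0 (AddSubgroup.mem_bot.mp (hD ▸ (fun g _ => hno g : x ∈ fixS V H)))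
    obtain ⟨d, hd', hd0⟩ : ∃ d ∈ fixS V H, d ≠ 0 := by
      by_contra hno
      push_neg at hno
      exact hD ((AddSubgroup.eq_bot_iff_forall _).mpr hno)
    obtain ⟨z, hzD, hz0, hzT⟩ := exists_fixed_ne_zero T.2 hs.char
      (fun g _ v hv => smul_mem_fixS_normal inferInstance g hv) hd' hd0
    have hzP : ∀ g : P, g • z = z := fun g => by
      have : (T : Subgroup P) ⊔ H ≤ MulAction.stabilizer P z := sup_le hzT fun g hg => hzD g hg
      exact this ((Fusion.sylow_sup_pResidual T).symm ▸ mem_top g)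
    set Z0 := AddSubgroup.zmultiples z
    have hZfix : ∀ v ∈ Z0, ∀ g : P, g • v = v := fun v hv g => by
      obtain ⟨m, rfl⟩ := AddSubgroup.mem_zmultiples_iff.mp hv
      rw [smul_comm, hzP]
    letI : DistribMulAction P (V ⧸ Z0) := quotSmul Z0 fun g v hv => (hZfix v hv g).symm ▸ hv
    set π := QuotientAddGroup.mk' Z0
    have hπ : ∀ (g : P) (v : V), π (g • v) = g • π v := fun _ _ => rfl
    have hπs : Function.Surjective π := QuotientAddGroup.mk'_surjective Z0
    have hker : ∀ v : V, π v = 0 → ∀ g : P, g • v = v := fun v hv =>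
      hZfix v ((QuotientAddGroup.eq_zero_iff v).mp hv)
    have hs' : Setting p (V ⧸ Z0) T M := setting_of hs (fun x => by
        obtain ⟨v, rfl⟩ := hπs x
        rw [← map_nsmul, hs.char, map_zero]) fun g hg => by
      have hinv : ∀ (g : P), ∀ v ∈ Z0, g • v ∈ Z0 := fun g v hv => (hZfix v hv g).symm ▸ hv
      haveI := normal_fixOf hinv
      haveI := normal_trivOn hinv
      refine Subgroup.mem_bot.mp ((Cores.le_pCore (isPGroup_series hs.char hs.faith Z0)).trans_eq hs.core
        (mem_inf.mpr ⟨fun v hv => hZfix v hv g, fun v => ?_⟩))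
      exact QuotientAddGroup.eq_iff_sub_mem.mp (hg (π v))
    have hzne : Z0 ≠ ⊥ := fun e => hz0 (AddSubgroup.mem_bot.mp (e ▸ AddSubgroup.mem_zmultiples z))
    have hcardZ : 1 < Nat.card Z0 := AddSubgroup.one_lt_card_iff_ne_bot Z0 |>.mpr hzne
    have hcq := card_quot Z0
    have hlt : Nat.card (V ⧸ Z0) ≤ n := by
      have h0 : 0 < Nat.card (V ⧸ Z0) := Nat.card_pos
      have := lt_mul_right h0 hcardZ
      omega
    have hd2 : disp (V ⧸ Z0) H = ⊤ := by
      refine eq_top_iff.mpr fun x _ => ?_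
      obtain ⟨v, rfl⟩ := hπs x
      have h1 : disp V H ≤ (disp (V ⧸ Z0) H).comap π := disp_le.mpr fun g hg v => by
        rw [AddSubgroup.mem_comap, map_sub, hπ]
        exact mem_disp hg _
      exact h1 (hd ▸ AddSubgroup.mem_top v)
    set f : fixS V A →+ fixS (V ⧸ Z0) A := AddMonoidHom.mk'
      (fun c => ⟨π c, fun a ha => by rw [← hπ, c.2 a ha]⟩) fun c c' => Subtype.ext (map_add π c.1 c'.1) with hf
    have hkerf : Nat.card f.ker ≤ Nat.card Z0 :=
      Nat.card_le_card_of_injective (fun c : f.ker => (⟨(c.1 : V),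
          (QuotientAddGroup.eq_zero_iff _).mp (congrArg Subtype.val c.2)⟩ : Z0))
        fun c c' h => Subtype.ext (Subtype.ext (congrArg Subtype.val h :))
    have hcardf : Nat.card (fixS V A) = Nat.card f.ker * Nat.card f.range := by
      rw [← AddSubgroup.index_ker, AddSubgroup.card_mul_index]
    have hoffA : IsOff p (V ⧸ Z0) A := by
      refine ⟨hA.1.1.1, hA.1.1.2.1, hA.1.1.2.2.1, ?_⟩
      have h1 := hA.1.1.2.2.2
      unfold mS at h1 ⊢
      refine Nat.le_of_mul_le_mul_right (c := Nat.card Z0) ?_ Nat.card_pos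
      rw [← hcq]
      refine h1.trans ?_
      rw [hcardf, mul_assoc]
      refine Nat.mul_le_mul_left _ ?_
      rw [mul_comm]
      exact Nat.mul_le_mul (Nat.card_le_card_of_injective _ Subtype.val_injective) hkerf
    have hne' := exists_offs_of_isOff (T := T) hoffA
    have hm' := ih (V ⧸ Z0) hlt hs' hne' hd2
    -- the preimage of the fixed space of `A`
    have hfull : ∀ s : V, π s ∈ fixS (V ⧸ Z0) A → ∀ a ∈ A, a • s = s := by
      have hmax := (mS_le_and_le_sSup hs' hm' hAT hA.1.1.2.1 hA.1.1.2.2.1).1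
      unfold mS at hmax
      have h1 := hA.1.1.2.2.2
      unfold mS at h1
      rw [hcq, hcardf] at h1
      have h2 : Nat.card (fixS (V ⧸ Z0) A) * Nat.card Z0 ≤ Nat.card f.ker * Nat.card f.range := by
        refine Nat.le_of_mul_le_mul_left (?_ : Nat.card A * _ ≤ Nat.card A * _) Nat.card_pos
        exact (mul_assoc _ _ _).symm.trans_le ((Nat.mul_le_mul_right _ hmax).trans h1)
      have h3 : Nat.card f.range ≤ Nat.card (fixS (V ⧸ Z0) A) := Nat.card_le_card_of_injective _ Subtype.val_injective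
      have hker' : Nat.card Z0 ≤ Nat.card f.ker := by
        refine Nat.le_of_mul_le_mul_left (h2.trans ?_ : Nat.card (fixS (V ⧸ Z0) A) * _ ≤ Nat.card (fixS (V ⧸ Z0) A) * _) Nat.card_pos
        rw [mul_comm]
        exact Nat.mul_le_mul_right _ h3
      have hran : f.range = ⊤ := AddSubgroup.eq_top_of_card_eq _ (le_antisymm h3 (by
        refine Nat.le_of_mul_le_mul_right (c := Nat.card Z0) (h2.trans ?_) Nat.card_pos
        rw [mul_comm]
        exact Nat.mul_le_mul_left _ hkerf))
      intro s hs a ha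
      obtain ⟨c, hc⟩ := (hran ▸ AddSubgroup.mem_top (⟨π s, hs⟩ : fixS (V ⧸ Z0) A) : _ ∈ f.range)
      have h4 : s - c ∈ Z0 := QuotientAddGroup.eq_iff_sub_mem.mp (congrArg Subtype.val hc).symm
      rw [show s = (c : V) + (s - c) by abel, smul_add, c.2 a ha, hZfix _ h4]
    obtain ⟨B, hBA, hB⟩ := exists_minOff_le hoffA
    have hBm : B ∈ offs p (V ⧸ Z0) (T : Subgroup P) := ⟨hB, hBA.trans hAT⟩
    have hfix : ∀ B' ∈ offs p (V ⧸ Z0) (T : Subgroup P), ∀ s : V, π s ∈ disp (V ⧸ Z0) B' →
        ∀ b ∈ B', b • s = s := by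
      intro B' hB' s hs1 b hb
      obtain ⟨t, ht, rfl⟩ := offs_conj hs' hm' hB' hBm
      obtain ⟨b, hb, rfl⟩ := hb
      have hquadA : disp (V ⧸ Z0) B ≤ fixS (V ⧸ Z0) A := disp_le.mpr fun b hb w => by
        obtain ⟨v, rfl⟩ := hπs w
        intro a ha
        rw [← hπ, ← map_sub, ← hπ]
        exact congrArg π (hA.1.quad hs.char hs.faith b (hBA hb) v a ha)
      rw [disp_cnj, mem_tr, ← hπ] at hs1
      have h1 := hfull _ (hquadA hs1) b (hBA hb)
      show (t * b * t⁻¹) • s = s
      rw [mul_smul, mul_smul, h1, smul_inv_smul]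
    by_cases hq : 3 ≤ Nat.card B
    · exact exists_moved_of_family hs' hm' hs.char hπ ⟨B, hBm⟩ (torus_family hs' hm' hs.char hπ hπs hker hfix
        fun X hX => card_offs_eq hs' hm' hBm hX ▸ hq)
    · exact exists_moved_of_family hs' hm' hs.char hπ ⟨B, hBm⟩ (rot_family hs' hm' hs.char hπ hπs hker
        fun X hX => (card_offs_eq hs' hm' hX hBm).trans (le_antisymm (by omega) (two_le hBm)))

/-- The hypotheses on the fixed points and on the commutator space hold for every FF-module. -/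
theorem moves_of_offs {V : Type v} [AddCommGroup V] [Finite V] [DistribMulAction P V]
    (hs : Setting p V T M) (hne : (offs p V (T : Subgroup P)).Nonempty) : Moves p V T M := by
  classical
  set H := Cfsg.pResidual p P
  set S := disp V H with hS
  have hinv : ∀ (g : P), ∀ v ∈ S, g • v ∈ S := fun g v hv => smul_mem_disp_normal inferInstance g hv
  letI := subSmul S hinv
  have hcoe : ∀ (g : P) (w : S), ((g • w : S) : V) = g • (w : V) := fun _ _ => rfl
  have hs0 : Setting p S T M := setting_of hs (fun w => Subtype.ext (by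
      rw [AddSubgroup.coe_nsmul, hs.char]; rfl)) fun g hg =>
    faith_sub hs fun v hv => congrArg Subtype.val (hg ⟨v, hv⟩)
  have hd0 : disp S H = ⊤ := by
    refine eq_top_iff.mpr fun w _ => ?_
    have h1 := disp_disp_residual (P := P) hs.char (w : V) w.2
    have h2 : AddSubgroup.closure {x | ∃ g ∈ H, ∃ u ∈ disp V H, x = g • u - u} ≤
        (disp S H).map S.subtype := by
      refine (AddSubgroup.closure_le _).mpr ?_
      rintro _ ⟨g, hg, u, hu, rfl⟩
      exact ⟨_, mem_disp hg (⟨u, hu⟩ : S), rfl⟩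
    obtain ⟨x, hx, he⟩ := h2 h1
    rwa [← Subtype.ext he]
  obtain ⟨A, hA⟩ := hne
  set CA := fixS V A
  have hfixA : Nat.card (fixS (V := S) A) = Nat.card ↥(S ⊓ CA) := Nat.card_congr
    { toFun := fun w => ⟨w.1, AddSubgroup.mem_inf.mpr ⟨w.1.2, fun a ha => congrArg Subtype.val (w.2 a ha)⟩⟩
      invFun := fun w => ⟨⟨w.1, (AddSubgroup.mem_inf.mp w.2).1⟩, fun a ha =>
        Subtype.ext ((AddSubgroup.mem_inf.mp w.2).2 a ha)⟩
      left_inv := fun _ => rfl
      right_inv := fun _ => rfl }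
  have hsum := card_sup_inf_add S CA
  have hoffA : IsOff p S A := by
    refine ⟨hA.1.1.1, hA.1.1.2.1, hA.1.1.2.2.1, ?_⟩
    have h1 := hA.1.1.2.2.2
    unfold mS at h1 ⊢
    rw [hfixA]
    refine Nat.le_of_mul_le_mul_right (c := Nat.card CA) ?_ Nat.card_pos
    rw [hsum]
    calc Nat.card ↥(S ⊔ CA) * Nat.card ↥(S ⊓ CA) ≤ Nat.card V * Nat.card ↥(S ⊓ CA) :=
          Nat.mul_le_mul_right _ (Nat.card_le_card_of_injective _ Subtype.val_injective)
      _ ≤ Nat.card A * Nat.card CA * Nat.card ↥(S ⊓ CA) := Nat.mul_le_mul_right _ h1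
      _ = _ := by ring
  have hne0 := exists_offs_of_isOff (T := T) hoffA
  have hm0 := moves_of_disp_top (Nat.card S) S le_rfl hs0 hne0 hd0
  have hmax := (mS_le_and_le_sSup hs0 hm0 hA.2 hA.1.1.2.1 hA.1.1.2.2.1).1
  have hVA : S ⊔ CA = ⊤ := by
    refine AddSubgroup.eq_top_of_card_eq _ (le_antisymm (Nat.card_le_card_of_injective _ Subtype.val_injective) ?_)
    have h1 := hA.1.1.2.2.2
    unfold mS at h1 hmax
    rw [hfixA] at hmax
    refine Nat.le_of_mul_le_mul_right (c := Nat.card ↥(S ⊓ CA)) ?_ Nat.card_pos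
    rw [← hsum]
    calc Nat.card V * Nat.card ↥(S ⊓ CA) ≤ Nat.card A * Nat.card CA * Nat.card ↥(S ⊓ CA) :=
          Nat.mul_le_mul_right _ h1
      _ = Nat.card A * Nat.card ↥(S ⊓ CA) * Nat.card CA := by ring
      _ ≤ _ := Nat.mul_le_mul_right _ hmax
  obtain ⟨B₁, hB₁A, hB₁⟩ := exists_minOff_le hoffA
  have hB₁m : B₁ ∈ offs p S (T : Subgroup P) := ⟨hB₁, hB₁A.trans hA.2⟩
  haveI : Fintype ↥(offs p S (T : Subgroup P)) := Fintype.ofFinite _
  have hVB : ∀ B ∈ offs p S (T : Subgroup P), S ⊔ fixS V B = ⊤ := by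
    intro B hB
    obtain ⟨t, ht, rfl⟩ := offs_conj hs0 hm0 hB hB₁m
    refine eq_top_iff.mpr fun v _ => ?_
    obtain ⟨s, hsS, c, hc, e⟩ := AddSubgroup.mem_sup.mp (hVA ▸ AddSubgroup.mem_top (t⁻¹ • v))
    rw [show v = t • s + t • c by rw [← smul_add, e, smul_inv_smul]]
    refine AddSubgroup.add_mem_sup (hinv t s hsS) ?_
    rw [fixS_cnj]
    exact smul_mem_tr (fixS_anti hB₁A hc)
  -- every vector splits at every block
  have hloc : ∀ B ∈ offs p S (T : Subgroup P), ∀ v : V, ∃ w : S, w ∈ disp S (blk p S (T : Subgroup P) B) ∧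
      v - w ∈ fixS V (blk p S (T : Subgroup P) B) := by
    intro B hB
    have dB := block_blk hs0 hm0 hB
    have d := dB.toPairBase
    set L := blk p S (T : Subgroup P) B
    have hlift : ∀ (x : S), x ∈ fixS S L → (x : V) ∈ fixS V L := fun x hx g hg =>
      congrArg Subtype.val (hx g hg)
    obtain ⟨y, hy, hyM⟩ := SetLike.not_le_iff_exists.mp d.notM
    set CB := fixS V B
    have htop : ∀ x : V, x ∈ S ⊔ CB := fun x => hVB B hB ▸ AddSubgroup.mem_top x
    -- `V` is the sum of `S` and the vectors fixed by `B` and its conjugate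
    intro v
    obtain ⟨s, hsS, c, hc, rfl⟩ := AddSubgroup.mem_sup.mp (htop v)
    obtain ⟨s', hs'S, c', hc', he⟩ := AddSubgroup.mem_sup.mp (htop (y⁻¹ • c))
    have hyc : c = y • s' + y • c' := by rw [← smul_add, he, smul_inv_smul]
    -- `y • c'` is fixed by the conjugate; correct it into the fixed space of `B`
    set x : V := y • c'
    have hxS : x - c ∈ S := by
      rw [hyc, show x - (y • s' + x) = -(y • s') by abel]
      exact neg_mem (hinv y s' hs'S)
    obtain ⟨ws, hws, zs, hzs, hsp⟩ := AddSubgroup.mem_sup.mp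
      (d.disp_sup_fix ▸ AddSubgroup.mem_top (⟨x - c, hxS⟩ : S))
    -- the part of `x - c` in `[S, L]` splits into a part in `C(B)` and one in the translate
    obtain ⟨p1, hp1, p2, hp2, hpe⟩ := AddSubgroup.mem_sup.mp (d.dispL_eq hy hyM ▸ hws)
    have hp1' : (p1 : V) ∈ CB := fun b hb => congrArg Subtype.val (d.disp_le_fix hp1 b hb)
    have hp2' : y⁻¹ • (p2 : V) ∈ CB := fun b hb =>
      congrArg Subtype.val (d.disp_le_fix (mem_tr.mp hp2) b hb)
    have hsp' : x - c = (p1 : V) + (p2 : V) + (zs : V) := by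
      have := congrArg Subtype.val hsp
      rw [← hpe] at this
      exact this.symm
    set z := c + (p1 : V) with hz
    have hzC : z ∈ CB := add_mem hc hp1'
    have hzy : y⁻¹ • z ∈ CB := by
      rw [show z = x - (p2 : V) - (zs : V) by rw [hz, show x = (x - c) + c by abel, hsp']; abel,
        smul_sub, smul_sub]
      refine sub_mem (sub_mem ?_ hp2') ?_
      · show y⁻¹ • y • c' ∈ CB
        rw [inv_smul_smul]; exact hc'
      · rw [hlift zs hzs y⁻¹ (inv_mem hy)]
        exact fun b hb => hlift zs hzs b (d.leL hb)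
    have hzL : z ∈ fixS V L := by
      rw [← d.gen y hy hyM, fixS_sup, fixS_cnj]
      exact AddSubgroup.mem_inf.mpr ⟨hzC, mem_tr.mpr hzy⟩
    obtain ⟨w, hw, zw, hzw, hwe⟩ := AddSubgroup.mem_sup.mp
      (d.disp_sup_fix ▸ AddSubgroup.mem_top ((⟨s, hsS⟩ : S) - p1))
    refine ⟨w, hw, ?_⟩
    have e : s + c - (w : V) = (zw : V) + z := by
      have h5 : (w : V) + (zw : V) = s - (p1 : V) := congrArg Subtype.val hwe
      rw [hz, show s = (w : V) + (zw : V) + (p1 : V) by rw [h5]; abel]
      abel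
    rw [e]
    exact add_mem (hlift zw hzw) hzL
  -- the fixed points
  have hfix : fixOf P (fixS V (T : Subgroup P)) ≤ M := fun g hg => hm0.fix fun w hw =>
    Subtype.ext (hg (w : V) fun t ht => congrArg Subtype.val (hw t ht))
  refine ⟨hfix, disp_moves hs (eq_top_iff.mpr fun v _ => ?_)⟩
  choose w hw hwz using fun B : ↥(offs p S (T : Subgroup P)) => hloc B B.2 v
  have hcC : ∀ B : ↥(offs p S (T : Subgroup P)), ∃ d : S, d ∈ disp S (B : Subgroup P) ∧
      v - ((∑ X, w X : S) : V) - d ∈ fixS V (blk p S (T : Subgroup P) B) := by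
    intro B
    have dB := block_blk hs0 hm0 B.2
    have hcB : v - ((∑ X, w X : S) : V) ∈ fixS V (B : Subgroup P) := by
      rw [← Finset.add_sum_erase _ _ (Finset.mem_univ B), AddSubgroup.coe_add, sub_add_eq_sub_sub]
      refine sub_mem (fixS_anti dB.leL (hwz B)) ?_
      intro b hb
      have : (∑ X ∈ Finset.univ.erase B, w X) ∈ fixS S (B : Subgroup P) := sum_mem fun X hX =>
        dispBlk_le_fixS hs0 hm0 X.2 B.2 (fun e => (Finset.mem_erase.mp hX).1 (Subtype.ext e.symm)) (hw X)
      exact congrArg Subtype.val (this b hb)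
    obtain ⟨w', hw', hw'z⟩ := hloc B B.2 (v - ((∑ X, w X : S) : V))
    have hw'C : w' ∈ fixS S (B : Subgroup P) := fun b hb => Subtype.ext (by
      have h1 : b • (v - ((∑ X, w X : S) : V) - (w' : V)) = v - ((∑ X, w X : S) : V) - (w' : V) :=
        hw'z b (dB.leL hb)
      rw [smul_sub, hcB b hb, sub_right_inj] at h1
      exact h1)
    exact ⟨w', dB.disp_inf_fix.le (AddSubgroup.mem_inf.mpr ⟨hw', hw'C⟩), hw'z⟩
  choose x hx hxz using hcC
  set u : S := (∑ X, w X) + ∑ X, x X with hu
  have hall : ∀ B : ↥(offs p S (T : Subgroup P)), v - (u : V) ∈ fixS V (blk p S (T : Subgroup P) B) := by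
    intro B
    rw [hu, AddSubgroup.coe_add, ← Finset.add_sum_erase _ x (Finset.mem_univ B), AddSubgroup.coe_add,
      sub_add_eq_sub_sub, sub_add_eq_sub_sub]
    refine sub_mem (hxz B) ?_
    intro g hg
    have : (∑ X ∈ Finset.univ.erase B, x X) ∈ fixS S (blk p S (T : Subgroup P) B) := sum_mem fun X hX =>
      disp_le_fixS_blk hs0 hm0 B.2 X.2 (fun e => (Finset.mem_erase.mp hX).1 (Subtype.ext e)) (hx X)
    exact congrArg Subtype.val (this g hg)
  set N := ⨆ B : ↥(offs p S (T : Subgroup P)), blk p S (T : Subgroup P) B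
  have htopN : N ⊔ (T : Subgroup P) = ⊤ := sup_blk_eq_top hs0 hm0 ⟨B₁, hB₁m⟩
  haveI : N.Normal := normalizer_eq_top_iff.mp (top_le_iff.mp (htopN.ge.trans (sup_le le_normalizer
    fun t ht => mem_normalizer_of_le (by
      rw [cnj_le_iff]
      refine iSup_le fun B => ?_
      rw [← cnj_le_iff, cnj_blk (B : Subgroup P) ht]
      exact le_iSup (fun B : ↥(offs p S (T : Subgroup P)) => blk p S (T : Subgroup P) B)
        ⟨cnj B t, cnj_mem_offs B.2 ht⟩))))
  rw [show v = (u : V) + (v - u) by abel]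
  refine AddSubgroup.add_mem_sup u.2 ?_
  exact fixS_anti (residual_le_of_sup htopN) (fixS_le_iff_iSup.mpr hall)

/-- Blocks of a p-minimal group with offenders. -/
theorem exists_blocks_of_offs {V : Type v} [AddCommGroup V] [Finite V] [DistribMulAction P V]
    (hs : Setting p V T M) (hne : (offs p V (T : Subgroup P)).Nonempty) :
    ∃ (r : ℕ) (E : Fin r → Subgroup P), 1 ≤ r ∧ Blocks p V (T : Subgroup P) E :=
  exists_blocks hs (moves_of_offs hs hne) hne

end Cfsg.Agent.H11.PMinFF
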