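import Cfsg.Agent.H11.PMinFF.Apply
import Cfsg.Prelude.Def_Transfer
import Cfsg.Prelude.Def_PLocal

/-!
A p-minimal subgroup acting faithfully by conjugation on an elementary abelian subgroup.
-/

set_option autoImplicit false

namespace Cfsg.Agent.H11.PMinFF

open Subgroup Cfsg.Agent.H63 Cfsg.Agent.H31.SL2Pair
open scoped commutatorElement IsMulCommutative

universe w

variable {G : Type w} [Group G]

/-- The inclusion of the additive copy of a subgroup. -/
def emb (V : Subgroup G) (m : Additive V) : G := (m.toMul : V)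

theorem conj_self {V P : Subgroup G} [IsMulCommutative V] (hPV : P ≤ normalizer (V : Set G)) :
    letI := conjAction hPV
    Conj P V (MonoidHom.id P) (emb V) := by
  letI := conjAction hPV
  exact
    { surj := fun x => ⟨x, rfl⟩
      inj := fun a b h => Additive.toMul.injective (Subtype.ext h)
      range := fun v => ⟨fun hv => ⟨Additive.ofMul ⟨v, hv⟩, rfl⟩, fun ⟨m, e⟩ => e ▸ m.toMul.2⟩
      add := fun _ _ => rfl
      act := fun _ _ => rfl }

theorem ambient_setup [Finite G] {p : ℕ} [Fact p.Prime] {V P : Subgroup G} [IsMulCommutative V]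
    (hV : ∀ a ∈ V, a ^ p = 1) (hPV : P ≤ normalizer (V : Set G))
    (hfaith : P ⊓ centralizer (V : Set G) = ⊥) (hmin : Cfsg.IsPMinimal p P) (hOp : Cfsg.pCore p P = ⊥)
    (hoff : ∃ A : Subgroup G, A ≤ P ∧ ¬ A ≤ centralizer (V : Set G) ∧ Cfsg.IsBestOffenderOn p V A)
    {T : Sylow p P} {M : Subgroup P} (hM : IsCoatom M) (hTM : (T : Subgroup P) ≤ M) :
    letI := conjAction hPV
    Setting p (Additive V) T M ∧ (offs p (Additive V) (T : Subgroup P)).Nonempty := by
  letI := conjAction hPV
  have c := conj_self hPV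
  have hf : ∀ g : P, (∀ m : Additive V, g • m = m) → g = 1 := fun g hg => by
    refine Subtype.ext (Subgroup.mem_bot.mp (hfaith ▸ mem_inf.mpr ⟨g.2, ?_⟩))
    exact mem_centralizer_iff.mpr fun v hv => ((c.fixed_iff g (Additive.ofMul ⟨v, hv⟩)).mp (hg _)).symm
  have hchar : ∀ m : Additive V, p • m = 0 := fun m => Additive.toMul.injective (Subtype.ext (hV _ m.toMul.2))
  refine ⟨setting_of_isPMinimal hchar hf (hmin T).2 hM hTM hOp, ?_⟩
  obtain ⟨A, hAP, hAC, hbest, hder, hpow⟩ := hoff
  have hmem : ∀ x ∈ P, x ∈ centralizer (V : Set G) → x = 1 := fun x hx hxc =>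
    Subgroup.mem_bot.mp (hfaith ▸ mem_inf.mpr ⟨hx, hxc⟩)
  have hmapA : (A.subgroupOf P).map P.subtype = A := by rw [subgroupOf_map_subtype, inf_eq_left.mpr hAP]
  refine exists_offs_of_isOff (A := A.subgroupOf P) ⟨?_, fun a ha b hb => Subtype.ext ?_, fun a ha => Subtype.ext ?_, ?_⟩
  · intro e
    rw [e, Subgroup.map_bot] at hmapA
    exact hAC (hmapA ▸ bot_le)
  · exact commutatorElement_eq_one_iff_mul_comm.mp
      (hmem _ (mul_mem (mul_mem (mul_mem a.2 b.2) (inv_mem a.2)) (inv_mem b.2))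
        (hder (commutator_mem_commutator (mem_subgroupOf.mp ha) (mem_subgroupOf.mp hb))))
  · rw [SubgroupClass.coe_pow]
    exact hmem _ (pow_mem a.2 p) (hpow _ (mem_subgroupOf.mp ha))
  · have h1 := hbest ⊥ bot_le
    have h2 : V ⊓ centralizer (((⊥ : Subgroup G)) : Set G) = V := inf_eq_left.mpr fun v _ =>
      mem_centralizer_iff.mpr fun g hg => by simp [Subgroup.mem_bot.mp hg]
    rw [h2, card_bot, one_mul, c.card_V] at h1
    refine h1.trans (le_of_eq ?_)
    have e1 := c.img_fixS (A.subgroupOf P)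
    rw [Subgroup.map_id, hmapA] at e1
    unfold mS
    rw [← c.card_img, e1, ← Nat.card_congr (subgroupOfEquivOfLe hAP).toEquiv]

end Cfsg.Agent.H11.PMinFF
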