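import Cfsg.Agent.H11.PMinFF.Bridge

/-!
The blocks of a p-minimal group, transferred to subgroups of an ambient group.
-/

set_option autoImplicit false

namespace Cfsg.Agent.H11.PMinFF

open Subgroup Cfsg.Agent.H63
open scoped commutatorElement

universe u v w

theorem setting_of_isPMinimal {P : Type u} [Group P] [Finite P] {p : ℕ} {A : Type v} [AddCommGroup A]
    [DistribMulAction P A] {T : Sylow p P} {M : Subgroup P} (hchar : ∀ m : A, p • m = 0)
    (hfaith : ∀ g : P, (∀ m : A, g • m = m) → g = 1) (hu : ∃! N : Subgroup P, IsCoatom N ∧ (T : Subgroup P) ≤ N)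
    (hM : IsCoatom M) (hTM : (T : Subgroup P) ≤ M) (hOp : Cfsg.pCore p P = ⊥) : Setting p A T M :=
  ⟨hchar, hfaith, hM, hTM, fun N hTN hN => by
    obtain ⟨K, hK, hNK⟩ := (eq_top_or_exists_le_coatom N).resolve_left hN
    exact (hu.unique ⟨hK, hTN.trans hNK⟩ ⟨hM, hTM⟩) ▸ hNK, hOp⟩

theorem normal_iSup_of_blocks {P : Type u} [Group P] {r : ℕ} {E : Fin r → Subgroup P} {T : Subgroup P}
    (htop : (⨆ i, E i) ⊔ T = ⊤) (hconj : ∀ t ∈ T, cnj (⨆ i, E i) t ≤ ⨆ i, E i) [Finite P] :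
    (⨆ i, E i).Normal :=
  normalizer_eq_top_iff.mp (top_le_iff.mp (htop.ge.trans (sup_le le_normalizer fun t ht =>
    mem_normalizer_of_le (hconj t ht))))

variable {G : Type w} [Group G] {H V : Subgroup G} {P : Type u} [Group P] {A : Type v} [AddCommGroup A]
  [DistribMulAction P A] {π : H →* P} {em : A → G}

namespace Conj

variable (c : Conj H V π em)
include c

theorem pre_le (E : Subgroup P) : c.pre E ≤ H := map_subtype_le _

theorem ker_le_pre (E : Subgroup P) : π.ker.map H.subtype ≤ c.pre E :=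
  map_mono fun x hx => show π x ∈ E by rw [MonoidHom.mem_ker.mp hx]; exact one_mem _

theorem mem_pre_coe {E : Subgroup P} {h : H} : (h : G) ∈ c.pre E ↔ π h ∈ E :=
  ⟨fun hh => (c.mem_pre.mp hh).choose_spec, fun hh => ⟨h, hh, rfl⟩⟩

theorem mem_ker_map {h : H} : (h : G) ∈ π.ker.map H.subtype ↔ π h = 1 :=
  ⟨fun ⟨_, hx, e⟩ => Subtype.ext e ▸ hx, fun hh => ⟨h, hh, rfl⟩⟩

theorem pre_mono {E F : Subgroup P} (h : E ≤ F) : c.pre E ≤ c.pre F := map_mono (comap_mono h)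

theorem pre_bot : c.pre ⊥ = π.ker.map H.subtype := by rw [pre, ← MonoidHom.comap_bot]

theorem pre_sup (E : Subgroup P) (S : Subgroup H) : c.pre E ⊔ S.map H.subtype = c.pre (E ⊔ S.map π) := by
  rw [pre, pre, ← Subgroup.map_sup]
  congr 1
  refine le_antisymm (sup_le (comap_mono le_sup_left) ?_) fun x hx => ?_
  · exact (le_comap_map π S).trans (comap_mono le_sup_right)
  · have h1 : (E.comap π ⊔ S).map π = E ⊔ S.map π := by
      rw [Subgroup.map_sup, map_comap_eq_self_of_surjective c.surj]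
    rw [← h1, comap_map_eq] at hx
    refine (sup_le le_rfl ?_ : (E.comap π ⊔ S) ⊔ π.ker ≤ E.comap π ⊔ S) hx
    refine le_trans (fun y hy => ?_) le_sup_left
    show π y ∈ E
    rw [MonoidHom.mem_ker.mp hy]; exact one_mem _

theorem pre_iSup {ι : Type*} [Nonempty ι] (E : ι → Subgroup P) : c.pre (⨆ i, E i) = ⨆ i, c.pre (E i) := by
  simp only [pre]
  rw [← Subgroup.map_iSup]
  congr 1
  conv_lhs => rw [show (⨆ i, E i) = (⨆ i, (E i).comap π).map π by
    rw [Subgroup.map_iSup]; exact iSup_congr fun i => (map_comap_eq_self_of_surjective c.surj _).symm]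
  rw [comap_map_eq]
  refine sup_eq_left.mpr (le_trans (fun y hy => ?_) (le_iSup _ (Classical.arbitrary ι)))
  show π y ∈ E _
  rw [MonoidHom.mem_ker.mp hy]; exact one_mem _

theorem pre_cnj (E : Subgroup P) (h : H) :
    (c.pre E).map (MulAut.conj (h : G)).toMonoidHom = c.pre (cnj E (π h)) := by
  ext g
  rw [c.mem_pre]
  constructor
  · rintro ⟨x, hx, rfl⟩
    obtain ⟨hxH, hxE⟩ := c.mem_pre.mp hx
    refine ⟨mul_mem (mul_mem h.2 hxH) (inv_mem h.2), ?_⟩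
    rw [mem_cnj]
    have : π ⟨(h : G) * x * (h : G)⁻¹, mul_mem (mul_mem h.2 hxH) (inv_mem h.2)⟩ =
        π h * π ⟨x, hxH⟩ * (π h)⁻¹ := by rw [← map_inv, ← map_mul, ← map_mul]; rfl
    rw [show π ⟨(MulAut.conj (h : G)).toMonoidHom x, _⟩ = _ from this]
    rwa [show (π h)⁻¹ * (π h * π ⟨x, hxH⟩ * (π h)⁻¹) * π h = π ⟨x, hxH⟩ by group]
  · rintro ⟨hg, hgE⟩
    rw [mem_cnj, ← map_inv, ← map_mul, ← map_mul] at hgE
    refine ⟨_, c.mem_pre_coe.mpr hgE, ?_⟩
    show (h : G) * ((h : G)⁻¹ * g * h) * (h : G)⁻¹ = g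
    group

theorem pre_comm_le {E F : Subgroup P} (hcomm : ∀ g ∈ E, ∀ g' ∈ F, g * g' = g' * g) :
    ⁅c.pre E, c.pre F⁆ ≤ π.ker.map H.subtype := by
  rw [commutator_le]
  intro g hg g' hg'
  obtain ⟨hgH, hgE⟩ := c.mem_pre.mp hg
  obtain ⟨hg'H, hg'F⟩ := c.mem_pre.mp hg'
  refine ⟨⁅(⟨g, hgH⟩ : H), ⟨g', hg'H⟩⁆, ?_, map_commutatorElement H.subtype _ _⟩
  show π _ = 1
  rw [map_commutatorElement, commutatorElement_eq_one_iff_mul_comm]
  exact hcomm _ hgE _ hg'F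

theorem pre_inf_le {E F : Subgroup P} (h : E ⊓ F = ⊥) : c.pre E ⊓ c.pre F ≤ π.ker.map H.subtype := by
  intro x hx
  obtain ⟨h1, h2⟩ := mem_inf.mp hx
  obtain ⟨hxH, hxE⟩ := c.mem_pre.mp h1
  refine (c.mem_ker_map (h := ⟨x, hxH⟩)).mpr (Subgroup.mem_bot.mp (h ▸ mem_inf.mpr ⟨hxE, ?_⟩))
  exact (c.mem_pre_coe (h := ⟨x, hxH⟩)).mp h2

theorem pre_orth {E F : Subgroup P} (h : PMinFF.disp A E ≤ fixS A F) : ⁅⁅V, c.pre E⁆, c.pre F⁆ = ⊥ := by
  rw [commutator_eq_bot_iff_le_centralizer, c.pre_disp]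
  rintro _ ⟨m, hm, rfl⟩
  have h1 := c.mem_img.mpr (h hm)
  rw [← c.pre_fix] at h1
  exact (mem_inf.mp h1).2

theorem pre_decomp {r : ℕ} [Nonempty (Fin r)] (E : Fin r → Subgroup P)
    (h : ∀ m : A, ∃ u : Fin r → A, (∀ i, u i ∈ PMinFF.disp A (E i)) ∧ ∀ i, m - ∑ j, u j ∈ fixS A (E i)) :
    (V ⊓ centralizer (((⨆ i, c.pre (E i)) : Subgroup G) : Set G)) ⊔ (⨆ i, ⁅V, c.pre (E i)⁆) = V := by
  simp only [c.pre_disp]
  rw [← c.pre_iSup, c.pre_fix, ← c.img_iSup, ← c.img_sup]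
  conv_rhs => rw [← c.img_top]
  congr 1
  refine eq_top_iff.mpr fun m _ => ?_
  obtain ⟨u, hu, hv⟩ := h m
  rw [show m = (m - ∑ j, u j) + ∑ j, u j by abel]
  exact AddSubgroup.add_mem_sup (fixS_le_iff_iSup.mpr hv)
    (sum_mem fun i _ => AddSubgroup.mem_iSup_of_mem i (hu i))

/-- The two kinds of block, seen inside the ambient group. -/
theorem pre_type {p : ℕ} {E : Subgroup P} (h : TypeSL p A E ∨ TypeSym p A E) :
    ∃ n : ℕ, 1 ≤ n ∧ ((∃ (F : Type) (_ : Field F) (_ : Fintype F), Fintype.card F = p ^ n ∧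
      (∃ f : c.pre E →* Matrix.SpecialLinearGroup (Fin 2) F, Function.Surjective f ∧
        f.ker = (π.ker.map H.subtype).subgroupOf (c.pre E)) ∧
      Cfsg.ActsAsSL2OnSection F ⊤ (c.pre E) ⁅V, c.pre E⁆
        (⁅V, c.pre E⁆ ⊓ centralizer ((c.pre E : Subgroup G) : Set G))) ∨
      (p = 2 ∧ (∃ f : c.pre E →* Equiv.Perm (Fin (2 ^ n + 1)), Function.Surjective f ∧
        f.ker = (π.ker.map H.subtype).subgroupOf (c.pre E)) ∧
      Cfsg.ActsAsOddPermModuleOnSection (2 ^ n + 1) ⊤ (c.pre E) ⁅V, c.pre E⁆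
        (⁅V, c.pre E⁆ ⊓ centralizer ((c.pre E : Subgroup G) : Set G)))) := by
  rcases h with ⟨n, hn, F, iF, iFt, hF, ρ, ψ, h0, hs, he⟩ | ⟨hp, n, hn, ρ, Φ, h0, hsum, hs, he⟩
  · refine ⟨n, hn, Or.inl ⟨F, iF, iFt, hF, ⟨ρ.toMonoidHom.comp (c.preHom E),
      ρ.surjective.comp (c.preHom_surjective E), ?_⟩, c.acts_sl ρ ψ h0 hs he⟩⟩
    rw [← c.preHom_ker]
    exact MonoidHom.ker_mulEquiv_comp (c.preHom E) ρ
  · refine ⟨n, hn, Or.inr ⟨hp, ⟨ρ.toMonoidHom.comp (c.preHom E),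
      ρ.surjective.comp (c.preHom_surjective E), ?_⟩, c.acts_sym ρ Φ h0 hsum hs he⟩⟩
    rw [← c.preHom_ker]
    exact MonoidHom.ker_mulEquiv_comp (c.preHom E) ρ

end Conj

/-- A group normalising an elementary abelian subgroup acts on it additively. -/
@[reducible]
def conjAction {H V : Subgroup G} [IsMulCommutative V] (hH : H ≤ normalizer (V : Set G)) :
    DistribMulAction H (Additive V) where
  smul g m := Additive.ofMul ⟨(g : G) * (m.toMul : V) * (g : G)⁻¹, (mem_normalizer_iff.mp (hH g.2) _).mp m.toMul.2⟩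
  one_smul m := Additive.toMul.injective (Subtype.ext (by
    show ((1 : H) : G) * (m.toMul : V) * ((1 : H) : G)⁻¹ = _
    simp))
  mul_smul g g' m := Additive.toMul.injective (Subtype.ext (by
    show ((g * g' : H) : G) * (m.toMul : V) * ((g * g' : H) : G)⁻¹ =
      (g : G) * ((g' : G) * (m.toMul : V) * (g' : G)⁻¹) * (g : G)⁻¹
    rw [Subgroup.coe_mul]
    group))
  smul_zero g := Additive.toMul.injective (Subtype.ext (by
    show (g : G) * 1 * (g : G)⁻¹ = 1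
    simp))
  smul_add g a b := Additive.toMul.injective (Subtype.ext (by
    show (g : G) * ((a.toMul : V) * (b.toMul : V) : G) * (g : G)⁻¹ =
      ((g : G) * (a.toMul : V) * (g : G)⁻¹) * ((g : G) * (b.toMul : V) * (g : G)⁻¹)
    group))

end Cfsg.Agent.H11.PMinFF
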