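import Cfsg.Agent.H31.SL2Pair.Offender
import Cfsg.Agent.Cores.PCore

/-!
Offenders in p-minimal groups: conjugation, displacement spaces and subgroups lying in a single
conjugate of the maximal subgroup.
-/

set_option autoImplicit false

namespace Cfsg.Agent.H11.PMinFF

open Subgroup Cfsg.Agent.H63 Cfsg.Agent.H31.SL2Pair

universe u v

variable {P : Type u} [Group P]

/-! ### Conjugates -/

/-- The conjugate `g A g⁻¹`. -/
def cnj (A : Subgroup P) (g : P) : Subgroup P := A.map (MulAut.conj g).toMonoidHom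

theorem mem_cnj {A : Subgroup P} {g x : P} : x ∈ cnj A g ↔ g⁻¹ * x * g ∈ A := by
  constructor
  · rintro ⟨a, ha, rfl⟩
    show g⁻¹ * (g * a * g⁻¹) * g ∈ A
    rwa [show g⁻¹ * (g * a * g⁻¹) * g = a by group]
  · intro h
    exact ⟨_, h, show g * (g⁻¹ * x * g) * g⁻¹ = x by group⟩

theorem conj_mem_cnj {A : Subgroup P} (g : P) {a : P} (ha : a ∈ A) : g * a * g⁻¹ ∈ cnj A g :=
  ⟨a, ha, rfl⟩

theorem cnj_cnj (A : Subgroup P) (g h : P) : cnj (cnj A g) h = cnj A (h * g) := by
  ext x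
  simp only [mem_cnj, mul_inv_rev, mul_assoc]

theorem cnj_one (A : Subgroup P) : cnj A 1 = A := by
  ext x; simp [mem_cnj]

theorem cnj_inv_cnj (A : Subgroup P) (g : P) : cnj (cnj A g) g⁻¹ = A := by
  rw [cnj_cnj, inv_mul_cancel, cnj_one]

theorem cnj_cnj_inv (A : Subgroup P) (g : P) : cnj (cnj A g⁻¹) g = A := by
  rw [cnj_cnj, mul_inv_cancel, cnj_one]

theorem cnj_mono {A B : Subgroup P} (h : A ≤ B) (g : P) : cnj A g ≤ cnj B g := Subgroup.map_mono h

theorem cnj_le_iff {A B : Subgroup P} {g : P} : cnj A g ≤ B ↔ A ≤ cnj B g⁻¹ := by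
  refine ⟨fun h => ?_, fun h => ?_⟩
  · simpa [cnj_inv_cnj] using cnj_mono h g⁻¹
  · simpa [cnj_cnj_inv] using cnj_mono h g

theorem cnj_injective (g : P) : Function.Injective fun A : Subgroup P => cnj A g :=
  Subgroup.map_injective (MulAut.conj g).injective

theorem cnj_bot (g : P) : cnj (⊥ : Subgroup P) g = ⊥ := Subgroup.map_bot _

theorem cnj_sup (A B : Subgroup P) (g : P) : cnj (A ⊔ B) g = cnj A g ⊔ cnj B g := Subgroup.map_sup A B _

theorem cnj_sSup (S : Set (Subgroup P)) (g : P) :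
    cnj (sSup S) g = sSup ((fun A => cnj A g) '' S) := by
  rw [sSup_image, sSup_eq_iSup]
  exact (Subgroup.map_iSup _ _).trans (iSup_congr fun A => Subgroup.map_iSup _ _)

theorem card_cnj (A : Subgroup P) (g : P) : Nat.card (cnj A g) = Nat.card A :=
  Subgroup.card_map_of_injective (MulAut.conj g).injective

theorem isPGroup_cnj {p : ℕ} {A : Subgroup P} (h : IsPGroup p A) (g : P) : IsPGroup p (cnj A g) :=
  h.map _

theorem cnj_eq_self {A : Subgroup P} {g : P} (hg : g ∈ normalizer (A : Set P)) : cnj A g = A := by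
  ext x
  rw [mem_cnj]
  have := mem_normalizer_iff.mp (inv_mem hg) x
  rw [inv_inv] at this
  exact this.symm

theorem mem_normalizer_of_cnj {A : Subgroup P} {g : P} (h : cnj A g = A) :
    g ∈ normalizer (A : Set P) := by
  refine mem_normalizer_iff.mpr fun x => ⟨fun hx => h ▸ conj_mem_cnj g hx, fun hx => ?_⟩
  rw [← h, mem_cnj] at hx
  rwa [show g⁻¹ * (g * x * g⁻¹) * g = x by group] at hx

theorem mem_normalizer_of_le [Finite P] {A : Subgroup P} {g : P} (h : cnj A g ≤ A) :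
    g ∈ normalizer (A : Set P) :=
  mem_normalizer_of_cnj (Subgroup.eq_of_le_of_card_ge h (card_cnj A g).ge)

/-! ### Displacements -/

variable {V : Type v} [AddCommGroup V] [DistribMulAction P V]

/-- The elements acting trivially modulo `S`. -/
def trivOn (P : Type u) [Group P] [DistribMulAction P V] (S : AddSubgroup V) : Subgroup P where
  carrier := {g | ∀ v : V, g • v - v ∈ S}
  one_mem' := fun v => by rw [one_smul, sub_self]; exact zero_mem _
  mul_mem' := fun {g h} hg hh v => by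
    rw [show (g * h) • v - v = (g • (h • v) - h • v) + (h • v - v) by rw [mul_smul]; abel]
    exact add_mem (hg _) (hh v)
  inv_mem' := fun {g} hg v => by
    have := neg_mem (hg (g⁻¹ • v))
    rwa [smul_inv_smul, neg_sub] at this

theorem mem_trivOn {S : AddSubgroup V} {g : P} : g ∈ trivOn P S ↔ ∀ v : V, g • v - v ∈ S := Iff.rfl

theorem smul_mem_of_trivOn {S : AddSubgroup V} {g : P} (hg : g ∈ trivOn P S) {v : V} (hv : v ∈ S) :
    g • v ∈ S := by
  have := add_mem (hg v) hv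
  rwa [sub_add_cancel] at this

/-- The elements fixing `S` pointwise. -/
def fixOf (P : Type u) [Group P] [DistribMulAction P V] (S : AddSubgroup V) : Subgroup P where
  carrier := {g | ∀ v ∈ S, g • v = v}
  one_mem' := fun v _ => one_smul P v
  mul_mem' := fun {g h} hg hh v hv => by rw [mul_smul, hh v hv, hg v hv]
  inv_mem' := fun {g} hg v hv => by rw [inv_smul_eq_iff, hg v hv]

theorem le_fixS_iff {R : Subgroup P} {S : AddSubgroup V} : S ≤ fixS V R ↔ R ≤ fixOf P S :=
  ⟨fun h _ hr _ hv => h hv _ hr, fun h _ hv _ hr => h hr _ hv⟩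

theorem fixS_anti {R S : Subgroup P} (h : R ≤ S) : fixS V S ≤ fixS V R :=
  fun _ hv g hg => hv g (h hg)

/-- The displacement space `[V, R]`. -/
def disp (V : Type v) [AddCommGroup V] [DistribMulAction P V] (R : Subgroup P) : AddSubgroup V :=
  AddSubgroup.closure {x | ∃ r ∈ R, ∃ v : V, x = r • v - v}

theorem mem_disp {R : Subgroup P} {r : P} (hr : r ∈ R) (v : V) : r • v - v ∈ disp V R :=
  AddSubgroup.subset_closure ⟨r, hr, v, rfl⟩

theorem disp_le {R : Subgroup P} {S : AddSubgroup V} : disp V R ≤ S ↔ R ≤ trivOn P S :=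
  ⟨fun h _ hr v => h (mem_disp hr v), fun h => (AddSubgroup.closure_le _).mpr
    (by rintro _ ⟨r, hr, v, rfl⟩; exact h hr v)⟩

theorem le_trivOn_disp (R : Subgroup P) : R ≤ trivOn P (disp V R) := fun _ hr v => mem_disp hr v

theorem disp_mono {R S : Subgroup P} (h : R ≤ S) : disp V R ≤ disp V S :=
  disp_le.mpr (h.trans (le_trivOn_disp S))

theorem disp_sup (R S : Subgroup P) : disp V (R ⊔ S) = disp V R ⊔ disp V S :=
  le_antisymm (disp_le.mpr (sup_le (disp_le.mp le_sup_left) (disp_le.mp le_sup_right)))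
    (sup_le (disp_mono le_sup_left) (disp_mono le_sup_right))

theorem disp_cnj (R : Subgroup P) (g : P) : disp V (cnj R g) = tr g (disp V R) := by
  refine le_antisymm (disp_le.mpr ?_) ?_
  · rintro _ ⟨r, hr, rfl⟩ v
    show (g * r * g⁻¹) • v - v ∈ tr g (disp V R)
    rw [mem_tr, smul_sub, mul_smul, mul_smul, inv_smul_smul]
    exact mem_disp hr _
  · rw [tr, disp, AddMonoidHom.map_closure, AddSubgroup.closure_le]
    rintro _ ⟨_, ⟨r, hr, v, rfl⟩, rfl⟩
    show g • (r • v - v) ∈ disp V (cnj R g)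
    have := mem_disp (conj_mem_cnj g hr) (g • v)
    rwa [mul_smul, mul_smul, inv_smul_smul, ← smul_sub] at this

theorem fixS_cnj (R : Subgroup P) (g : P) : fixS V (cnj R g) = tr g (fixS V R) := by
  ext v
  rw [mem_tr]
  constructor
  · intro hv r hr
    have h1 : (g * r * g⁻¹) • v = v := hv _ (conj_mem_cnj g hr)
    rw [mul_smul, mul_smul] at h1
    exact eq_inv_smul_iff.mpr h1
  · rintro hv _ ⟨r, hr, rfl⟩
    show (g * r * g⁻¹) • v = v
    rw [mul_smul, mul_smul, hv r hr, smul_inv_smul]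

theorem smul_mem_disp {R : Subgroup P} {g : P} (hg : g ∈ normalizer (R : Set P)) {x : V}
    (hx : x ∈ disp V R) : g • x ∈ disp V R := by
  have := smul_mem_tr (g := g) hx
  rwa [← disp_cnj, cnj_eq_self hg] at this

theorem smul_mem_fixS {R : Subgroup P} {g : P} (hg : g ∈ normalizer (R : Set P)) {x : V}
    (hx : x ∈ fixS V R) : g • x ∈ fixS V R := by
  have := smul_mem_tr (g := g) hx
  rwa [← fixS_cnj, cnj_eq_self hg] at this

theorem mS_cnj (R : Subgroup P) (g : P) : mS V (cnj R g) = mS V R := by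
  unfold mS
  rw [card_cnj, fixS_cnj, card_tr]

/-! ### Offenders -/

/-- An elementary abelian offender. -/
def IsOff (p : ℕ) (V : Type v) [AddCommGroup V] [DistribMulAction P V] (A : Subgroup P) : Prop :=
  A ≠ ⊥ ∧ (∀ a ∈ A, ∀ b ∈ A, a * b = b * a) ∧ (∀ a ∈ A, a ^ p = 1) ∧ Nat.card V ≤ mS V A

/-- A minimal offender. -/
def IsMinOff (p : ℕ) (V : Type v) [AddCommGroup V] [DistribMulAction P V] (A : Subgroup P) : Prop :=
  IsOff p V A ∧ ∀ A₀ ≤ A, A₀ ≠ ⊥ → A₀ ≠ A → mS V A₀ < mS V A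

variable {p : ℕ}

theorem IsOff.isPGroup {A : Subgroup P} (h : IsOff p V A) : IsPGroup p A := fun a =>
  ⟨1, Subtype.ext (by rw [pow_one, SubgroupClass.coe_pow]; exact h.2.2.1 a a.2)⟩

theorem IsOff.cnj {A : Subgroup P} (h : IsOff p V A) (g : P) : IsOff p V (cnj A g) := by
  refine ⟨fun e => h.1 (cnj_injective g (e.trans (cnj_bot g).symm)), ?_, ?_, by rw [mS_cnj]; exact h.2.2.2⟩
  · rintro _ ⟨a, ha, rfl⟩ _ ⟨b, hb, rfl⟩
    rw [← map_mul, ← map_mul, h.2.1 a ha b hb]
  · rintro _ ⟨a, ha, rfl⟩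
    rw [← map_pow, h.2.2.1 a ha, map_one]

theorem IsMinOff.cnj {A : Subgroup P} (h : IsMinOff p V A) (g : P) :
    IsMinOff p V (PMinFF.cnj A g) := by
  refine ⟨h.1.cnj g, fun A₀ h0 h1 h2 => ?_⟩
  rw [← cnj_cnj_inv A₀ g, mS_cnj _ g, mS_cnj A g]
  refine h.2 _ (cnj_le_iff.mpr (by rwa [inv_inv])) (fun e => h1 ?_) (fun e => h2 ?_)
  · rw [← cnj_cnj_inv A₀ g, e, cnj_bot]
  · rw [← cnj_cnj_inv A₀ g, e]

theorem exists_minOff_le [Finite P] {A : Subgroup P} (h : IsOff p V A) :
    ∃ B ≤ A, IsMinOff p V B := by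
  classical
  haveI : Fintype P := Fintype.ofFinite P
  obtain ⟨B, hB, hmin⟩ := Finset.exists_min_image
    (Finset.univ.filter fun B : Subgroup P => B ≤ A ∧ IsOff p V B) (fun B => Nat.card B)
    ⟨A, Finset.mem_filter.mpr ⟨Finset.mem_univ _, le_rfl, h⟩⟩
  obtain ⟨-, hBA, hBoff⟩ := Finset.mem_filter.mp hB
  refine ⟨B, hBA, hBoff, fun B₀ h0 h1 h2 => lt_of_not_ge fun hle => ?_⟩
  exact h2 (Subgroup.eq_of_le_of_card_ge h0 (hmin B₀ (Finset.mem_filter.mpr ⟨Finset.mem_univ _, h0.trans hBA, h1,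
    fun a ha b hb => hBoff.2.1 a (h0 ha) b (h0 hb), fun a ha => hBoff.2.2.1 a (h0 ha),
    hBoff.2.2.2.trans hle⟩)))

theorem IsMinOff.quad [Finite P] [Finite V] [Fact p.Prime] (hV : ∀ v : V, p • v = 0)
    (hfaith : ∀ g : P, (∀ v : V, g • v = v) → g = 1) {A : Subgroup P} (h : IsMinOff p V A) :
    ∀ a ∈ A, ∀ v : V, a • v - v ∈ fixS V A := by
  obtain ⟨⟨hA, hcomm, hexp, hoff⟩, hstrict⟩ := h
  obtain ⟨B, hB, hB0, hBe, hq⟩ := replacement hV A hcomm hexp (fun a _ => hfaith a) hA (fun B hB => by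
    rcases eq_or_ne B ⊥ with rfl | h0
    · refine le_trans ?_ hoff
      simp only [mS, Subgroup.card_bot, one_mul]
      exact Nat.card_le_card_of_injective _ Subtype.val_injective
    rcases eq_or_ne B A with rfl | h1
    · exact le_rfl
    exact (hstrict B hB h0 h1).le)
  have : B = A := by_contra fun h => (hstrict B hB hB0 h).ne hBe
  subst this
  exact fun a ha v b hb => hq b hb a ha v

/-! ### The setting -/

/-- Every conjugate of `Q` inside `M` comes from `M`: `Q` lies in only one conjugate of `M`. -/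
def Only (M Q : Subgroup P) : Prop := ∀ g : P, cnj Q g ≤ M → g ∈ M

theorem Only.mono {M Q R : Subgroup P} (h : Only M Q) (hQR : Q ≤ R) : Only M R :=
  fun g hg => h g ((cnj_mono hQR g).trans hg)

theorem Only.cnj {M Q : Subgroup P} (h : Only M Q) {m : P} (hm : m ∈ M) : Only M (PMinFF.cnj Q m) :=
  fun g hg => by
    have := h (g * m) (by rwa [← cnj_cnj])
    simpa using mul_mem this (inv_mem hm)

/-- The hypotheses on a p-minimal group acting faithfully. -/
structure Setting (p : ℕ) (V : Type v) [AddCommGroup V] [DistribMulAction P V] (T : Sylow p P)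
    (M : Subgroup P) : Prop where
  char : ∀ v : V, p • v = 0
  faith : ∀ g : P, (∀ v : V, g • v = v) → g = 1
  coatom : IsCoatom M
  le : (T : Subgroup P) ≤ M
  above : ∀ N : Subgroup P, (T : Subgroup P) ≤ N → N ≠ ⊤ → N ≤ M
  core : Cfsg.pCore p P = ⊥

/-- `C_P(C_V(T))` and `C_P(V / [V,T])` lie in `M`. -/
structure Moves (p : ℕ) (V : Type v) [AddCommGroup V] [DistribMulAction P V] (T : Sylow p P)
    (M : Subgroup P) : Prop where
  fix : fixOf P (fixS V (T : Subgroup P)) ≤ M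
  disp : trivOn P (disp V (T : Subgroup P)) ≤ M

section setting

variable [Finite P] [Fact p.Prime] {T : Sylow p P} {M : Subgroup P}

theorem Setting.huniq (hs : Setting p V T M) :
    ∀ N, IsCoatom N → (T : Subgroup P) ≤ N → N = M := fun N hN hTN => by
  rcases (hs.above N hTN hN.1).lt_or_eq with h | h
  · exact absurd (hN.2 M h) hs.coatom.1
  · exact h

/-- A p-subgroup of `M` is conjugate in `M` into `T`. -/
theorem Setting.exists_conj (hs : Setting p V T M) {H : Subgroup P} (hH : IsPGroup p H) (hHM : H ≤ M) :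
    ∃ m ∈ M, cnj H m ≤ (T : Subgroup P) := by
  obtain ⟨R, hR⟩ := (hH.of_equiv (subgroupOfEquivOfLe hHM).symm).exists_le_sylow
  obtain ⟨m, hm⟩ := MulAction.exists_smul_eq M R (T.subtype hs.le)
  refine ⟨m, m.2, ?_⟩
  rintro _ ⟨x, hx, rfl⟩
  have : m * ⟨x, hHM hx⟩ * m⁻¹ ∈ ((m • R : Sylow p M) : Subgroup M) := by
    rw [Sylow.coe_subgroup_smul]
    exact ⟨_, hR (show (⟨x, hHM hx⟩ : M) ∈ H.subgroupOf M from hx), rfl⟩
  rw [hm] at this
  exact this

theorem Only.pgroup_le (hs : Setting p V T M) {Q H : Subgroup P} (hQ : Only M Q)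
    (hH : IsPGroup p H) (hQH : Q ≤ H) : H ≤ M := by
  obtain ⟨R, hR⟩ := hH.exists_le_sylow
  obtain ⟨g, hg⟩ := MulAction.exists_smul_eq P T R
  have hgM : g⁻¹ ∈ M := hQ g⁻¹ (by
    refine le_trans ?_ hs.le
    rw [cnj_le_iff, inv_inv]
    refine (hQH.trans hR).trans ?_
    rw [← hg, Sylow.coe_subgroup_smul]
    exact le_refl _)
  refine hR.trans ?_
  rw [← hg, Sylow.coe_subgroup_smul]
  rintro _ ⟨t, ht, rfl⟩
  exact mul_mem (mul_mem (inv_mem_iff.mp hgM) (hs.le ht)) hgM

/-- A p-subgroup of `M` has fixed points moved by every subgroup outside `M`. -/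
theorem Moves.exists_fix (hm : Moves p V T M) (hs : Setting p V T M) {H L : Subgroup P}
    (hH : IsPGroup p H) (hHM : H ≤ M) (hL : ¬ L ≤ M) :
    ∃ v ∈ fixS V H, ∃ g ∈ L, g • v ≠ v := by
  obtain ⟨m, hmM, hmT⟩ := hs.exists_conj hH hHM
  obtain ⟨g, hgL, hgM⟩ := SetLike.not_le_iff_exists.mp hL
  have hg' : m * g * m⁻¹ ∉ M := fun h => hgM (by
    have := mul_mem (mul_mem (inv_mem hmM) h) hmM
    rwa [show m⁻¹ * (m * g * m⁻¹) * m = g by group] at this)
  by_contra hne
  push_neg at hne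
  refine hg' (hm.fix fun v hv => ?_)
  have h1 : g • (m⁻¹ • v) = m⁻¹ • v := hne _ (fun x hx => by
    have := hv _ (hmT (conj_mem_cnj m hx))
    rw [mul_smul, mul_smul] at this
    exact eq_inv_smul_iff.mpr this) g hgL
  rw [mul_smul, mul_smul, h1, smul_inv_smul]

/-- No subgroup outside `M` is trivial on `V / [V,H]` for a p-subgroup `H` of `M`. -/
theorem Moves.not_trivOn (hm : Moves p V T M) (hs : Setting p V T M) {H L : Subgroup P}
    (hH : IsPGroup p H) (hHM : H ≤ M) (hL : ¬ L ≤ M) : ¬ L ≤ trivOn P (PMinFF.disp V H) := by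
  obtain ⟨m, hmM, hmT⟩ := hs.exists_conj hH hHM
  obtain ⟨g, hgL, hgM⟩ := SetLike.not_le_iff_exists.mp hL
  intro hLS
  have hg' : m * g * m⁻¹ ∈ M := hm.disp fun v => by
    refine disp_mono hmT ?_
    rw [disp_cnj, mem_tr, smul_sub, mul_smul, mul_smul, inv_smul_smul]
    exact hLS hgL _
  refine hgM ?_
  have := mul_mem (mul_mem (inv_mem hmM) hg') hmM
  rwa [show m⁻¹ * (m * g * m⁻¹) * m = g by group] at this

end setting

end Cfsg.Agent.H11.PMinFF
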