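import Cfsg.Agent.H11.PMinFF.Symmetric

/-!
The blocks of a p-minimal group with offenders.
-/

set_option autoImplicit false

namespace Cfsg.Agent.H11.PMinFF

open Subgroup Cfsg.Agent.H63 Cfsg.Agent.H31.SL2Pair

universe u v

variable {P : Type u} [Group P] {V : Type v} [AddCommGroup V] [DistribMulAction P V]

/-- `E` is a special linear group of dimension two on its natural module `V / C_V(E)`. -/
def TypeSL (p : ℕ) (V : Type v) [AddCommGroup V] [DistribMulAction P V] (E : Subgroup P) : Prop :=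
  ∃ n : ℕ, 1 ≤ n ∧ ∃ (F : Type) (_ : Field F) (_ : Fintype F), Fintype.card F = p ^ n ∧
    ∃ (ρ : E ≃* Matrix.SpecialLinearGroup (Fin 2) F) (ψ : V →+ (Fin 2 → F)),
      (∀ v, ψ v = 0 ↔ v ∈ fixS V E) ∧ (∀ y, ∃ v ∈ disp V E, ψ v = y) ∧
      ∀ (g : E) (v : V), ψ ((g : P) • v) =
        ((ρ g : Matrix.SpecialLinearGroup (Fin 2) F) : Matrix (Fin 2) (Fin 2) F).mulVec (ψ v)

/-- `E` is a symmetric group of degree `2ⁿ + 1` on its even-weight module `V / C_V(E)`. -/
def TypeSym (p : ℕ) (V : Type v) [AddCommGroup V] [DistribMulAction P V] (E : Subgroup P) : Prop :=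
  p = 2 ∧ ∃ n : ℕ, 1 ≤ n ∧ ∃ (ρ : E ≃* Equiv.Perm (Fin (2 ^ n + 1)))
      (Φ : V →+ (Fin (2 ^ n + 1) → ZMod 2)),
      (∀ v, Φ v = 0 ↔ v ∈ fixS V E) ∧ (∀ v, ∑ i, Φ v i = 0) ∧
      (∀ u, ∑ i, u i = 0 → ∃ v ∈ disp V E, Φ v = u) ∧
      ∀ (g : E) (v : V) (i : Fin (2 ^ n + 1)), Φ ((g : P) • v) i = Φ v ((ρ g)⁻¹ i)

/-- The block decomposition. -/
structure Blocks (p : ℕ) (V : Type v) [AddCommGroup V] [DistribMulAction P V] (T : Subgroup P) {r : ℕ}
    (E : Fin r → Subgroup P) : Prop where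
  comm : ∀ i j, i ≠ j → ∀ g ∈ E i, ∀ g' ∈ E j, g * g' = g' * g
  inf : ∀ i, E i ⊓ (⨆ j ∈ {j | j ≠ i}, E j) = ⊥
  top : (⨆ i, E i) ⊔ T = ⊤
  conj : ∀ i j, ∃ t ∈ T, cnj (E i) t = E j
  decomp : ∀ v : V, ∃ u : Fin r → V, (∀ i, u i ∈ disp V (E i)) ∧ ∀ i, v - ∑ j, u j ∈ fixS V (E i)
  orth : ∀ i j, i ≠ j → disp V (E i) ≤ fixS V (E j)
  type : ∀ i, TypeSL p V (E i) ∨ TypeSym p V (E i)
  offs_le : ∀ A ∈ offs p V T, ∃ i, A ≤ E i
  perm : ∀ t ∈ T, ∀ i, ∃ j, cnj (E i) t = E j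
  le_normal : ∀ N : Subgroup P, N.Normal → (∀ A ∈ offs p V T, A ≤ N) → ∀ i, E i ≤ N

theorem fixS_le_iff_iSup {ι : Sort*} {F : ι → Subgroup P} {v : V} :
    v ∈ fixS V (⨆ i, F i) ↔ ∀ i, v ∈ fixS V (F i) :=
  ⟨fun h i g hg => h g (le_iSup F i hg), fun h g hg =>
    ((iSup_le fun i => fun x hx => h i x hx) : (⨆ i, F i) ≤ MulAction.stabilizer P v) hg⟩

/-- Adjacent offenders. -/
def Adj (p : ℕ) (V : Type v) [AddCommGroup V] [DistribMulAction P V] (T A B : Subgroup P) : Prop :=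
  A = B ∨ ¬ ∀ g ∈ blk p V T A, ∀ g' ∈ blk p V T B, g * g' = g' * g

/-- The block of an offender. -/
def cls (p : ℕ) (V : Type v) [AddCommGroup V] [DistribMulAction P V] (T A : Subgroup P) : Subgroup P :=
  ⨆ B : {B : Subgroup P // B ∈ offs p V T ∧ Adj p V T A B}, blk p V T B

variable {p : ℕ} {T₀ : Subgroup P}

theorem Adj.symm {A B : Subgroup P} (h : Adj p V T₀ A B) : Adj p V T₀ B A :=
  h.imp Eq.symm fun h h' => h fun g hg g' hg' => (h' g' hg' g hg).symm

variable [Finite P] [Finite V] [Fact p.Prime] {T : Sylow p P} {M : Subgroup P}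

section family

variable (hs : Setting p V T M) (hm : Moves p V T M)
include hs hm

theorem card_offs_eq {A B : Subgroup P} (hA : A ∈ offs p V (T : Subgroup P))
    (hB : B ∈ offs p V (T : Subgroup P)) : Nat.card A = Nat.card B := by
  obtain ⟨t, -, rfl⟩ := offs_conj hs hm hA hB
  exact card_cnj B t

omit hs hm [Finite V] in
theorem two_le {A : Subgroup P} (hA : A ∈ offs p V (T : Subgroup P)) : 2 ≤ Nat.card A :=
  A.one_lt_card_iff_ne_bot.mpr hA.1.1.1

theorem adj_two {A B : Subgroup P} {a c a' c' : P} {e f e' f' : V} {φ ψ φ' ψ' : V →+ ZMod 2}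
    (h : TD p V (T : Subgroup P) A a c e f φ ψ) (h' : TD p V (T : Subgroup P) B a' c' e' f' φ' ψ')
    (hA : A ∈ offs p V (T : Subgroup P)) (hB : B ∈ offs p V (T : Subgroup P)) (hne : A ≠ B)
    (h2 : Nat.card A = 2) :
    (ψ' f = 0 → disp V (blk p V (T : Subgroup P) A) ≤ fixS V (blk p V (T : Subgroup P) B)) ∧
      (Adj p V (T : Subgroup P) A B ↔ ψ' f = 1) := by
  have hp := two_eq hs hA h2
  have hsymm : ψ f' = ψ' f := adj_symm hs hm h h' hA h2
  have one_dir : ∀ {A B : Subgroup P} {a c a' c' : P} {e f e' f' : V} {φ ψ φ' ψ' : V →+ ZMod 2},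
      TD p V (T : Subgroup P) A a c e f φ ψ → TD p V (T : Subgroup P) B a' c' e' f' φ' ψ' →
      A ∈ offs p V (T : Subgroup P) → B ∈ offs p V (T : Subgroup P) → A ≠ B → ψ' f = 0 →
      disp V (blk p V (T : Subgroup P) A) ≤ fixS V (blk p V (T : Subgroup P) B) := by
    intro A B a c a' c' e f e' f' φ ψ φ' ψ' h h' hA hB hne h0
    obtain ⟨p1, q1, r1⟩ := h.cross hs hm h' hA hB hne.symm
    rw [h.gen, disp_le]
    refine sup_le (zpowers_le.mpr fun v => ?_) (zpowers_le.mpr fun v => ?_)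
    · rw [h.tva v, add_sub_cancel_left]
      exact nsmul_mem (h'.fix_blk.mpr ⟨p1, r1⟩) _
    · rw [h.tvc v, add_sub_cancel_left]
      exact nsmul_mem (h'.fix_blk.mpr ⟨q1, h0⟩) _
  refine ⟨one_dir h h' hA hB hne, ?_, fun h1 => Or.inr fun hcomm => ?_⟩
  · rintro (rfl | hadj)
    · exact absurd rfl hne
    refine eq_one_of_ne fun h0 => hadj fun g hg g' hg' =>
      blk_comm_of_disp_le hs hm hA (one_dir h h' hA hB hne h0)
        (one_dir h' h hB hA hne.symm (hsymm.trans h0)) hg hg'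
  · have e1 := congrArg (fun g : P => g • f') (hcomm c (h.gen ▸ mem_sup_right (mem_zpowers c))
      c' (h'.gen ▸ mem_sup_right (mem_zpowers c')))
    simp only [mul_smul] at e1
    rw [h'.tvc f', h'.ψf, sm_zero, add_zero, h.tvc f', hsymm, h1, sm_one, h'.tvc (f' + f), map_add,
      h'.ψf, h1, zero_add, sm_one] at e1
    have hf' : f' ≠ 0 := fun e0 => by simpa [e0] using h'.φf
    refine hf' ?_
    rw [add_eq_left.mp e1.symm]

theorem orth_of_not_adj {A B : Subgroup P} (hA : A ∈ offs p V (T : Subgroup P))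
    (hB : B ∈ offs p V (T : Subgroup P)) (hn : ¬ Adj p V (T : Subgroup P) A B) :
    disp V (blk p V (T : Subgroup P) A) ≤ fixS V (blk p V (T : Subgroup P) B) := by
  have hne : A ≠ B := fun e => hn (Or.inl e)
  by_cases hq : 3 ≤ Nat.card A
  · exact dispBlk_le_of_three hs hm hA hq hB hne.symm
  have h2 : Nat.card A = 2 := le_antisymm (by omega) (two_le hA)
  obtain ⟨a, c, e, f, φ, ψ, h⟩ := exists_td hs hm hA h2
  obtain ⟨a', c', e', f', φ', ψ', h'⟩ := exists_td hs hm hB ((card_offs_eq hs hm hB hA).trans h2)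
  obtain ⟨h0, h1⟩ := adj_two hs hm h h' hA hB hne h2
  exact h0 (by_contra fun hx => hn (h1.mpr (eq_one_of_ne hx)))

theorem not_adj_of_three {A B : Subgroup P} (hA : A ∈ offs p V (T : Subgroup P))
    (hB : B ∈ offs p V (T : Subgroup P)) (hq : 3 ≤ Nat.card A) (h : Adj p V (T : Subgroup P) A B) :
    A = B := by
  by_contra hne
  exact (h.resolve_left hne) fun g hg g' hg' => blk_comm_of_disp_le hs hm hA
    (dispBlk_le_of_three hs hm hA hq hB (Ne.symm hne))
    (dispBlk_le_of_three hs hm hB (card_offs_eq hs hm hA hB ▸ hq) hA hne) hg hg'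

theorem Adj.trans' {A B C : Subgroup P} (hA : A ∈ offs p V (T : Subgroup P))
    (hB : B ∈ offs p V (T : Subgroup P)) (hC : C ∈ offs p V (T : Subgroup P))
    (h1 : Adj p V (T : Subgroup P) A B) (h2 : Adj p V (T : Subgroup P) B C) :
    Adj p V (T : Subgroup P) A C := by
  rcases eq_or_ne A B with rfl | nAB
  · exact h2
  rcases eq_or_ne B C with rfl | nBC
  · exact h1
  rcases eq_or_ne A C with hAC | nAC
  · exact Or.inl hAC
  by_cases hq : 3 ≤ Nat.card A
  · exact absurd (not_adj_of_three hs hm hA hB hq h1) nAB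
  have q2 : Nat.card A = 2 := le_antisymm (by omega) (two_le hA)
  have hc : ∀ X ∈ offs p V (T : Subgroup P), Nat.card X = 2 := fun X hX =>
    (card_offs_eq hs hm hX hA).trans q2
  obtain ⟨a₁, c₁, e₁, f₁, φ₁, ψ₁, t₁⟩ := exists_td hs hm hA q2
  obtain ⟨a₂, c₂, e₂, f₂, φ₂, ψ₂, t₂⟩ := exists_td hs hm hB (hc B hB)
  obtain ⟨a₃, c₃, e₃, f₃, φ₃, ψ₃, t₃⟩ := exists_td hs hm hC (hc C hC)
  have x12 : ψ₁ f₂ = 1 := (adj_two hs hm t₂ t₁ hB hA nAB.symm (hc B hB)).2.mp h1.symm
  have x23 : ψ₂ f₃ = 1 := (adj_two hs hm t₃ t₂ hC hB nBC.symm (hc C hC)).2.mp h2.symm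
  exact ((adj_two hs hm t₃ t₁ hC hA nAC.symm (hc C hC)).2.mpr
    (adj_trans hs hm t₁ t₂ t₃ hA hB hC hc nAB nBC nAC x12 x23)).symm

theorem cls_eq_of_adj {A B : Subgroup P} (hA : A ∈ offs p V (T : Subgroup P))
    (hB : B ∈ offs p V (T : Subgroup P)) (h : Adj p V (T : Subgroup P) A B) :
    cls p V (T : Subgroup P) A = cls p V (T : Subgroup P) B := by
  refine le_antisymm (iSup_le fun X => ?_) (iSup_le fun X => ?_)
  · exact le_iSup_of_le ⟨X, X.2.1, Adj.trans' hs hm hB hA X.2.1 h.symm X.2.2⟩ le_rfl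
  · exact le_iSup_of_le ⟨X, X.2.1, Adj.trans' hs hm hA hB X.2.1 h X.2.2⟩ le_rfl

omit hs hm [Finite P] [Finite V] [Fact p.Prime] in
theorem Adj.cnj {A B : Subgroup P} {t : P} (ht : t ∈ (T : Subgroup P))
    (h : Adj p V (T : Subgroup P) A B) :
    Adj p V (T : Subgroup P) (PMinFF.cnj A t) (PMinFF.cnj B t) := by
  refine h.imp (fun e => by rw [e]) fun h h' => h fun g hg g' hg' => ?_
  have := h' _ (cnj_blk (V := V) (p := p) A ht ▸ conj_mem_cnj t hg) _ (cnj_blk (V := V) (p := p) B ht ▸ conj_mem_cnj t hg')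
  rw [show t * g * t⁻¹ * (t * g' * t⁻¹) = t * (g * g') * t⁻¹ by group,
    show t * g' * t⁻¹ * (t * g * t⁻¹) = t * (g' * g) * t⁻¹ by group] at this
  exact mul_left_cancel (mul_right_cancel this)

omit hs hm [Finite P] [Finite V] [Fact p.Prime] in
theorem cnj_cls {A : Subgroup P} {t : P} (ht : t ∈ (T : Subgroup P)) :
    PMinFF.cnj (cls p V (T : Subgroup P) A) t = cls p V (T : Subgroup P) (PMinFF.cnj A t) := by
  have key : ∀ (A : Subgroup P) (t : P), t ∈ (T : Subgroup P) →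
      PMinFF.cnj (cls p V (T : Subgroup P) A) t ≤ cls p V (T : Subgroup P) (PMinFF.cnj A t) := by
    intro A t ht
    rw [cnj_le_iff, cls]
    refine iSup_le fun X => ?_
    rw [← cnj_le_iff, cnj_blk (X : Subgroup P) ht]
    exact le_iSup_of_le ⟨PMinFF.cnj X t, cnj_mem_offs X.2.1 ht, X.2.2.cnj ht⟩ le_rfl
  refine le_antisymm (key A t ht) ?_
  have := cnj_mono (key (PMinFF.cnj A t) t⁻¹ (inv_mem ht)) t
  rwa [cnj_cnj_inv, cnj_inv_cnj] at this

/-- The class of an offender of order two, with coordinates. -/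
theorem cls_sym {A : Subgroup P} (hA : A ∈ offs p V (T : Subgroup P))
    (horth : ∀ B ∈ offs p V (T : Subgroup P), ∀ g : P, g ∈ (T : Subgroup P) →
      cls p V (T : Subgroup P) (PMinFF.cnj A g) = cls p V (T : Subgroup P) B →
      Adj p V (T : Subgroup P) (PMinFF.cnj A g) B) (q2 : Nat.card A = 2) :
    ∃ (n : ℕ) (ρ : cls p V (T : Subgroup P) A ≃* Equiv.Perm (Fin (2 ^ n + 1)))
      (Φ : V →+ (Fin (2 ^ n + 1) → ZMod 2)) (o : Fin (2 ^ n + 1))
      (pt : {B : Subgroup P // B ∈ offs p V (T : Subgroup P) ∧ Adj p V (T : Subgroup P) A B} × Bool →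
        Fin (2 ^ n + 1)),
      1 ≤ n ∧ (∀ v, Φ v = 0 ↔ v ∈ fixS V (cls p V (T : Subgroup P) A)) ∧ (∀ v, ∑ i, Φ v i = 0) ∧
      (∀ u, ∑ i, u i = 0 → ∃ v ∈ disp V (cls p V (T : Subgroup P) A), Φ v = u) ∧
      (∀ (g : cls p V (T : Subgroup P) A) (v : V) (i : Fin (2 ^ n + 1)),
        Φ ((g : P) • v) i = Φ v ((ρ g)⁻¹ i)) ∧
      Function.Injective pt ∧ (∀ x, pt x ≠ o) ∧
      (∀ X (g : cls p V (T : Subgroup P) A), (g : P) ∈ X.1 → g ≠ 1 →
        ρ g = Equiv.swap (pt (X, false)) (pt (X, true))) ∧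
      (∀ X, ∃ g : cls p V (T : Subgroup P) A, X.1 ⊔ zpowers (g : P) = blk p V (T : Subgroup P) X.1 ∧
        ρ g = Equiv.swap o (pt (X, true))) ∧
      Nat.card {B : Subgroup P // B ∈ offs p V (T : Subgroup P) ∧ Adj p V (T : Subgroup P) A B} * 2 = 2 ^ n := by
  classical
  have hp := two_eq hs hA q2
  have hc : ∀ X ∈ offs p V (T : Subgroup P), Nat.card X = 2 := fun X hX =>
    (card_offs_eq hs hm hX hA).trans q2
  let K := {B : Subgroup P // B ∈ offs p V (T : Subgroup P) ∧ Adj p V (T : Subgroup P) A B}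
  haveI : Fintype K := Fintype.ofFinite K
  have htd : ∀ X : K, ∃ a c e f φ ψ, TD p V (T : Subgroup P) X.1 a c e f φ ψ := fun X =>
    exists_td hs hm X.2.1 (hc _ X.2.1)
  choose a c e f φ ψ td using htd
  have hcross : ∀ i j : K, i ≠ j → φ j (e i) = 0 ∧ φ j (f i) = 0 ∧ ψ j (e i) = 0 := fun i j hij =>
    (td i).cross hs hm (td j) i.2.1 j.2.1 fun h => hij (Subtype.ext h.symm)
  have hstar : Star p a c e f φ ψ :=
    { tva := fun i => (td i).tva
      tvc := fun i => (td i).tvc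
      φe := fun i j => by
        rcases eq_or_ne i j with rfl | h
        · exact (td i).φe
        · exact (hcross i j h).1
      φf := fun i => (td i).φf
      φf' := fun i j h => (hcross i j h).2.1
      ψe := fun i => (td i).ψe
      ψe' := fun i j h => (hcross i j h).2.2
      ψf := fun i => (td i).ψf
      ψf' := fun i j h => (adj_two hs hm (td i) (td j) i.2.1 j.2.1 (fun e => h (Subtype.ext e)) (hc _ i.2.1)).2.mp
        (Adj.trans' hs hm i.2.1 hA j.2.1 i.2.2.symm j.2.2) }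
  have hE : cls p V (T : Subgroup P) A = Subgroup.closure (Set.range a ∪ Set.range c) := by
    refine le_antisymm (iSup_le fun X => ?_) ((closure_le _).mpr ?_)
    · rw [(td X).gen]
      exact sup_le (zpowers_le.mpr (subset_closure (Or.inl ⟨X, rfl⟩)))
        (zpowers_le.mpr (subset_closure (Or.inr ⟨X, rfl⟩)))
    · rintro _ (⟨X, rfl⟩ | ⟨X, rfl⟩) <;> refine le_iSup (fun X : K => blk p V (T : Subgroup P) X) X ?_
      · rw [(td X).gen]; exact mem_sup_left (mem_zpowers _)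
      · rw [(td X).gen]; exact mem_sup_right (mem_zpowers _)
  obtain ⟨ρ, hρ, hρ0, hρs⟩ := sym_of_star hstar hs.faith (add_self hs hp) ⟨⟨A, hA, Or.inl rfl⟩⟩ hE
  -- the number of members is a power of two
  obtain ⟨m, hm'⟩ : ∃ m, Fintype.card K = 2 ^ m := by
    let H : Subgroup P := (T : Subgroup P) ⊓ normalizer (cls p V (T : Subgroup P) A : Set P)
    have hmem : ∀ (h : H) (X : K), PMinFF.cnj X.1 (h : P) ∈ offs p V (T : Subgroup P) ∧
        Adj p V (T : Subgroup P) A (PMinFF.cnj X.1 h) := fun h X => by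
      have hT : (h : P) ∈ (T : Subgroup P) := (mem_inf.mp h.2).1
      refine ⟨cnj_mem_offs X.2.1 hT, ?_⟩
      refine Adj.trans' hs hm hA (cnj_mem_offs hA hT) (cnj_mem_offs X.2.1 hT) ?_ (X.2.2.cnj hT)
      refine (horth A hA h hT ?_).symm
      rw [← cnj_cls hT, cnj_eq_self (mem_inf.mp h.2).2]
    letI : MulAction H K :=
      { smul := fun h X => ⟨PMinFF.cnj X.1 h, hmem h X⟩
        one_smul := fun X => Subtype.ext (cnj_one _)
        mul_smul := fun h h' X => Subtype.ext (cnj_cnj _ _ _).symm }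
    haveI : MulAction.IsPretransitive H K := ⟨fun X Y => by
      obtain ⟨t, ht, htY⟩ := offs_conj hs hm Y.2.1 X.2.1
      have : t ∈ normalizer (cls p V (T : Subgroup P) A : Set P) := mem_normalizer_of_cnj (by
        rw [cls_eq_of_adj hs hm hA X.2.1 X.2.2, cnj_cls ht, ← htY,
          ← cls_eq_of_adj hs hm hA Y.2.1 Y.2.2, ← cls_eq_of_adj hs hm hA X.2.1 X.2.2])
      exact ⟨⟨t, mem_inf.mpr ⟨ht, this⟩⟩, Subtype.ext htY.symm⟩⟩
    have hH : IsPGroup p H := T.2.to_le inf_le_left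
    obtain ⟨k, hk⟩ := hH.index (MulAction.stabilizer H (⟨A, hA, Or.inl rfl⟩ : K))
    refine ⟨k, ?_⟩
    rw [← Nat.card_eq_fintype_card, ← MulAction.index_stabilizer_of_transitive H (⟨A, hA, Or.inl rfl⟩ : K), hk, hp]
  have hcard : Fintype.card (Option (K × Bool)) = Fintype.card (Fin (2 ^ (m + 1) + 1)) := by
    rw [Fintype.card_option, Fintype.card_prod, Fintype.card_bool, hm', Fintype.card_fin, pow_succ]
  let ε := Fintype.equivOfCardEq hcard
  let Φ : V →+ (Fin (2 ^ (m + 1) + 1) → ZMod 2) :=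
    AddMonoidHom.mk' (fun v => coord φ ψ v ∘ ⇑ε.symm) fun v w => by rw [map_add]; rfl
  refine ⟨m + 1, ρ.trans ε.permCongrHom, Φ, ε none, fun x => ε (some x), by omega, fun v => ?_,
    fun v => ?_, fun u hu => ?_, fun g v i => ?_, fun x y h => Option.some_injective _ (ε.injective h),
    fun x h => Option.some_ne_none x (ε.injective h), fun X g hgX hg1 => ?_, fun X => ?_, ?_⟩
  · rw [← hρ0]
    refine ⟨fun h => funext fun o => ?_, fun h => funext fun o => ?_⟩
    · have := congrFun h (ε o)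
      rwa [show Φ v (ε o) = coord φ ψ v (ε.symm (ε o)) from rfl, Equiv.symm_apply_apply] at this
    · exact congrFun h (ε.symm o)
  · exact (Equiv.sum_comp ε.symm (coord φ ψ v)).trans (coord_even v)
  · obtain ⟨w, hw, he⟩ := hρs (u ∘ ⇑ε) (by rw [← hu]; exact Equiv.sum_comp ε u)
    refine ⟨w, hw, funext fun i => ?_⟩
    show coord φ ψ w (ε.symm i) = u i
    rw [he, Function.comp_apply, Equiv.apply_symm_apply]
  · show coord φ ψ ((g : P) • v) (ε.symm i) = coord φ ψ v (ε.symm ((ε.permCongr (ρ g))⁻¹ i))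
    rw [hρ, Function.comp_apply]
    refine congrArg (coord φ ψ v) ?_
    apply (ρ g).injective
    apply ε.injective
    rw [Equiv.apply_symm_apply, Equiv.apply_symm_apply]
    exact ((ε.permCongr (ρ g)).apply_symm_apply i).symm.trans (Equiv.permCongr_apply _ _ _)
  · obtain ⟨j, hj⟩ := mem_zpowers_iff.mp ((td X).eqA ▸ hgX : (g : P) ∈ zpowers (a X))
    have hga : (g : P) = a X := by
      have ha2 : a X ^ (2 : ℤ) = 1 := by
        rw [zpow_ofNat, orderOf_dvd_iff_pow_eq_one.symm, ← Nat.card_zpowers, ← (td X).eqA, hc _ X.2.1]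
      rcases Int.emod_two_eq_zero_or_one j with h | h
      · exact absurd (Subtype.ext (by
          rw [← hj, ← Int.emod_add_mul_ediv j 2, h, zero_add, zpow_mul, ha2, one_zpow]; rfl)) hg1
      · rw [← hj, ← Int.emod_add_mul_ediv j 2, h, zpow_add, zpow_mul, ha2, one_zpow, mul_one, zpow_one]
    have hρg : ρ g = Equiv.swap (some (X, false)) (some (X, true)) := by
      refine perm_eq_of_even ?_ fun u hu => ?_
      · rw [Fintype.card_option, Fintype.card_prod, Fintype.card_bool]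
        have : 0 < Fintype.card K := Fintype.card_pos_iff.mpr ⟨X⟩
        omega
      · obtain ⟨v, -, rfl⟩ := hρs u hu
        rw [← hρ g v, hga, coord_a hstar X v, Equiv.symm_swap]
    show ε.permCongr (ρ g) = _
    rw [hρg, Equiv.permCongr_def]
    exact Equiv.symm_trans_swap_trans _ _ ε
  · have hcX : c X ∈ cls p V (T : Subgroup P) A := le_iSup (fun X : K => blk p V (T : Subgroup P) X) X
      (by rw [(td X).gen]; exact mem_sup_right (mem_zpowers _))
    refine ⟨⟨c X, hcX⟩, by rw [(td X).gen, (td X).eqA], ?_⟩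
    have hρc : ρ ⟨c X, hcX⟩ = Equiv.swap none (some (X, true)) := by
      refine perm_eq_of_even ?_ fun u hu => ?_
      · rw [Fintype.card_option, Fintype.card_prod, Fintype.card_bool]
        have : 0 < Fintype.card K := Fintype.card_pos_iff.mpr ⟨X⟩
        omega
      · obtain ⟨v, -, rfl⟩ := hρs u hu
        rw [← hρ ⟨c X, hcX⟩ v, coord_c hstar X v, Equiv.symm_swap]
        first | rfl | rw [Equiv.swap_comm]
    show ε.permCongr (ρ ⟨c X, hcX⟩) = _
    rw [hρc, Equiv.permCongr_def]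
    exact Equiv.symm_trans_swap_trans _ _ ε
  · show Nat.card K * 2 = _
    rw [Nat.card_eq_fintype_card, hm', pow_succ]

theorem cls_type {A : Subgroup P} (hA : A ∈ offs p V (T : Subgroup P))
    (horth : ∀ B ∈ offs p V (T : Subgroup P), ∀ g : P, g ∈ (T : Subgroup P) →
      cls p V (T : Subgroup P) (PMinFF.cnj A g) = cls p V (T : Subgroup P) B →
      Adj p V (T : Subgroup P) (PMinFF.cnj A g) B) :
    TypeSL p V (cls p V (T : Subgroup P) A) ∨ TypeSym p V (cls p V (T : Subgroup P) A) := by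
  classical
  by_cases hq : 3 ≤ Nat.card A
  · left
    have he : cls p V (T : Subgroup P) A = blk p V (T : Subgroup P) A := by
      refine le_antisymm (iSup_le fun X => ?_) (le_iSup_of_le ⟨A, hA, Or.inl rfl⟩ le_rfl)
      rw [← not_adj_of_three hs hm hA X.2.1 hq X.2.2]
    rw [he]
    have d := (block_blk hs hm hA).toPairBase
    obtain ⟨F, iF, iFt, e, ψ, hcard, hψs, hψ0, hψe⟩ := d.sl2
    obtain ⟨n, hn⟩ := (IsPGroup.iff_card (p := p)).mp hA.1.1.isPGroup
    refine ⟨n, ?_, F, iF, iFt, hcard.trans hn, e, ψ, hψ0, fun y => ?_, hψe⟩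
    · rcases n with - | n
      · rw [hn, pow_zero] at hq; omega
      · omega
    · obtain ⟨v, rfl⟩ := hψs y
      obtain ⟨w, hw, z, hz, rfl⟩ := AddSubgroup.mem_sup.mp (d.disp_sup_fix ▸ AddSubgroup.mem_top v)
      exact ⟨w, hw, by rw [map_add, (hψ0 z).mpr hz, add_zero]⟩
  right
  have q2 : Nat.card A = 2 := le_antisymm (by omega) (two_le hA)
  obtain ⟨n, ρ, Φ, -, -, h1, h2, h3, h4, h5, -⟩ := cls_sym hs hm hA horth q2
  exact ⟨two_eq hs hA q2, n, h1, ρ, Φ, h2, h3, h4, h5⟩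

/-- The block decomposition exists. -/
theorem exists_blocks (hne : (offs p V (T : Subgroup P)).Nonempty) :
    ∃ (r : ℕ) (E : Fin r → Subgroup P), 1 ≤ r ∧ Blocks p V (T : Subgroup P) E := by
  classical
  haveI : Fintype ↥(offs p V (T : Subgroup P)) := Fintype.ofFinite _
  set 𝓔 : Set (Subgroup P) := {E | ∃ A ∈ offs p V (T : Subgroup P), E = cls p V (T : Subgroup P) A}
  obtain ⟨r, ⟨ε⟩⟩ := Finite.exists_equiv_fin 𝓔
  set E : Fin r → Subgroup P := fun i => (ε.symm i : Subgroup P)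
  have hEA : ∀ i, ∃ A ∈ offs p V (T : Subgroup P), E i = cls p V (T : Subgroup P) A := fun i => (ε.symm i).2
  have hsurj : ∀ A ∈ offs p V (T : Subgroup P), ∃ i, E i = cls p V (T : Subgroup P) A := fun A hA =>
    ⟨ε ⟨_, A, hA, rfl⟩, by simp [E]⟩
  have hEinj : Function.Injective E := fun i j h => ε.symm.injective (Subtype.ext h)
  have hblk : ∀ A ∈ offs p V (T : Subgroup P), blk p V (T : Subgroup P) A ≤ cls p V (T : Subgroup P) A :=
    fun A hA => le_iSup_of_le ⟨A, hA, Or.inl rfl⟩ le_rfl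
  have horth2 : ∀ A ∈ offs p V (T : Subgroup P), ∀ B ∈ offs p V (T : Subgroup P),
      ¬ Adj p V (T : Subgroup P) A B →
      disp V (cls p V (T : Subgroup P) A) ≤ fixS V (cls p V (T : Subgroup P) B) := by
    intro A hA B hB hn v hv
    rw [cls, fixS_le_iff_iSup]
    intro Y
    refine (?_ : disp V (cls p V (T : Subgroup P) A) ≤ fixS V (blk p V (T : Subgroup P) Y)) hv
    rw [disp_le, cls]
    refine iSup_le fun X => disp_le.mp (orth_of_not_adj hs hm X.2.1 Y.2.1 fun hxy => hn ?_)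
    exact Adj.trans' hs hm hA X.2.1 hB X.2.2 (Adj.trans' hs hm X.2.1 Y.2.1 hB hxy Y.2.2.symm)
  have hcls : ∀ A ∈ offs p V (T : Subgroup P), ∀ B ∈ offs p V (T : Subgroup P),
      cls p V (T : Subgroup P) A = cls p V (T : Subgroup P) B → Adj p V (T : Subgroup P) A B := by
    intro A hA B hB he
    by_contra hn
    have h1 := horth2 A hA B hB hn
    rw [← he] at h1
    exact (block_blk hs hm hA).not_disp_le
      ((disp_mono (hblk A hA)).trans (h1.trans (fixS_anti (hblk A hA))))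
  have hnadj : ∀ i j, i ≠ j → ∀ A ∈ offs p V (T : Subgroup P), ∀ B ∈ offs p V (T : Subgroup P),
      E i = cls p V (T : Subgroup P) A → E j = cls p V (T : Subgroup P) B →
      ¬ Adj p V (T : Subgroup P) A B := fun i j hij A hA B hB ei ej h =>
    hij (hEinj (ei.trans ((cls_eq_of_adj hs hm hA hB h).trans ej.symm)))
  have horth : ∀ i j, i ≠ j → disp V (E i) ≤ fixS V (E j) := by
    intro i j hij
    obtain ⟨A, hA, eA⟩ := hEA i
    obtain ⟨B, hB, eB⟩ := hEA j
    rw [eA, eB]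
    exact horth2 A hA B hB (hnadj i j hij A hA B hB eA eB)
  have hdec : ∀ v : V, ∃ u : Fin r → V, (∀ i, u i ∈ disp V (E i)) ∧ ∀ i, v - ∑ j, u j ∈ fixS V (E i) := by
    intro v
    obtain ⟨u, hu, hv⟩ := exists_sub_mem_fix hs hm v
    choose idx hidx using fun A : ↥(offs p V (T : Subgroup P)) => hsurj A A.2
    refine ⟨fun i => ∑ A ∈ Finset.univ.filter (fun A => idx A = i), u A, fun i => sum_mem fun A hA => ?_,
      fun i => ?_⟩
    · rw [Finset.mem_filter] at hA
      rw [← hA.2, hidx A]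
      exact disp_mono (hblk A A.2) (hu A)
    · obtain ⟨A, hA, eA⟩ := hEA i
      rw [Finset.sum_fiberwise, eA, cls, fixS_le_iff_iSup]
      exact fun X => hv ⟨X, X.2.1⟩
  have hcomm : ∀ i j, i ≠ j → ∀ g ∈ E i, ∀ g' ∈ E j, g * g' = g' * g := by
    intro i j hij
    obtain ⟨A, hA, eA⟩ := hEA i
    obtain ⟨B, hB, eB⟩ := hEA j
    have : cls p V (T : Subgroup P) A ≤ centralizer (cls p V (T : Subgroup P) B : Set P) := by
      refine iSup_le fun X => ?_
      rw [le_centralizer_iff]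
      refine iSup_le fun Y g' hg' g hg => ?_
      have hn : ¬ Adj p V (T : Subgroup P) X Y := fun hxy => hnadj i j hij A hA B hB eA eB
        (Adj.trans' hs hm hA X.2.1 hB X.2.2 (Adj.trans' hs hm X.2.1 Y.2.1 hB hxy Y.2.2.symm))
      exact by_contra fun hne => hn (Or.inr fun h => hne (h g hg g' hg'))
    rw [eA, eB]
    exact fun g hg g' hg' => (mem_centralizer_iff.mp (this hg) g' hg').symm
  obtain ⟨A₀, hA₀⟩ := hne
  refine ⟨r, E, Nat.one_le_iff_ne_zero.mpr ?_, hcomm, ?_, ?_, ?_, hdec, horth, ?_, ?_, ?_, ?_⟩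
  · rintro rfl
    exact (hsurj A₀ hA₀).choose.elim0
  · intro i
    refine (Subgroup.eq_bot_iff_forall _).mpr fun g hg => ?_
    obtain ⟨hgi, hgo⟩ := mem_inf.mp hg
    have hfixW : (⨆ j ∈ {j | j ≠ i}, E j) ≤ fixOf P (disp V (E i)) :=
      iSup₂_le fun j hj => le_fixS_iff.mp (horth i j (Ne.symm hj))
    refine hs.faith g fun v => ?_
    obtain ⟨u, hu, hv⟩ := hdec v
    have h1 : g • u i = u i := hfixW hgo _ (hu i)
    have h2 : g • (v - u i) = v - u i := by
      have e : v - u i = (v - ∑ j, u j) + ∑ j ∈ Finset.univ.erase i, u j := by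
        rw [← Finset.add_sum_erase _ u (Finset.mem_univ i)]; abel
      rw [e, smul_add, hv i g hgi, Finset.smul_sum]
      congr 1
      exact Finset.sum_congr rfl fun j hj => horth j i (Finset.ne_of_mem_erase hj) (hu j) g hgi
    have := congrArg₂ (· + ·) h1 h2
    simpa [← smul_add] using this
  · refine eq_top_iff.mpr ((sup_blk_eq_top hs hm ⟨A₀, hA₀⟩).ge.trans (sup_le_sup_right (iSup_le fun A => ?_) _))
    obtain ⟨i, hi⟩ := hsurj A A.2
    exact (hblk A A.2).trans (hi ▸ le_iSup E i)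
  · intro i j
    obtain ⟨A, hA, eA⟩ := hEA i
    obtain ⟨B, hB, eB⟩ := hEA j
    obtain ⟨t, ht, rfl⟩ := offs_conj hs hm hB hA
    exact ⟨t, ht, by rw [eA, eB, cnj_cls ht]⟩
  · intro i
    obtain ⟨A, hA, eA⟩ := hEA i
    rw [eA]
    exact cls_type hs hm hA fun B hB t ht he => hcls _ (cnj_mem_offs hA ht) B hB he
  · intro A hA
    obtain ⟨i, hi⟩ := hsurj A hA
    exact ⟨i, hi ▸ (block_blk hs hm hA).leL.trans (hblk A hA)⟩
  · intro t ht i
    obtain ⟨A, hA, eA⟩ := hEA i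
    obtain ⟨j, hj⟩ := hsurj _ (cnj_mem_offs hA ht)
    exact ⟨j, by rw [eA, cnj_cls ht, hj]⟩
  · intro N hN hle i
    obtain ⟨A, -, eA⟩ := hEA i
    rw [eA, cls]
    refine iSup_le fun X => iSup_le fun x => ?_
    rintro _ ⟨a, ha, rfl⟩
    exact hN.conj_mem a (hle X X.2.1 ha) x

end family

end Cfsg.Agent.H11.PMinFF
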