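import Cfsg.Agent.H11.PMinFF.Main
import Cfsg.Prelude.Def_LocalEven
import Cfsg.Prelude.Def_BaumannBlocks

/-!
Transfer between a module and an elementary abelian subgroup acted on by conjugation.
-/

set_option autoImplicit false

namespace Cfsg.Agent.H11.PMinFF

open Subgroup Cfsg.Agent.H63
open scoped commutatorElement

universe u v w

variable {G : Type w} [Group G] {H V : Subgroup G} {P : Type u} [Group P] {A : Type v} [AddCommGroup A]
  [DistribMulAction P A]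

/-- `A` is `V` and `P` is the group induced by `H`. -/
structure Conj (H V : Subgroup G) (π : H →* P) (em : A → G) : Prop where
  surj : Function.Surjective π
  inj : Function.Injective em
  range : ∀ v, v ∈ V ↔ ∃ m, em m = v
  add : ∀ a b, em (a + b) = em a * em b
  act : ∀ (h : H) (m : A), em (π h • m) = (h : G) * em m * (h : G)⁻¹

variable {π : H →* P} {em : A → G}

namespace Conj

variable (c : Conj H V π em)
include c

theorem zero : em 0 = 1 := by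
  have h := c.add 0 0
  rw [add_zero] at h
  exact left_eq_mul.mp h

theorem neg (a : A) : em (-a) = (em a)⁻¹ := eq_inv_of_mul_eq_one_left (by
  rw [← c.add, neg_add_cancel, c.zero])

theorem sub (a b : A) : em (a - b) = em a * (em b)⁻¹ := by
  rw [sub_eq_add_neg, c.add, c.neg]

theorem mem (m : A) : em m ∈ V := (c.range _).mpr ⟨m, rfl⟩

theorem le_normalizer : H ≤ normalizer (V : Set G) := fun h hh => by
  have key : ∀ h ∈ H, ∀ v ∈ V, h * v * h⁻¹ ∈ V := fun h hh v hv => by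
    obtain ⟨m, rfl⟩ := (c.range v).mp hv
    have := c.mem (π ⟨h, hh⟩ • m)
    rwa [c.act] at this
  refine mem_normalizer_iff.mpr fun v => ⟨key h hh v, fun hv => ?_⟩
  have := key h⁻¹ (inv_mem hh) _ hv
  rwa [show h⁻¹ * (h * v * h⁻¹) * h⁻¹⁻¹ = v by group] at this

theorem fixed_iff (h : H) (m : A) : π h • m = m ↔ (h : G) * em m = em m * h := by
  rw [← c.inj.eq_iff, c.act, mul_inv_eq_iff_eq_mul]

/-- The subgroup of `G` given by an additive subgroup. -/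
def img (S : AddSubgroup A) : Subgroup G where
  carrier := em '' S
  one_mem' := ⟨0, zero_mem S, c.zero⟩
  mul_mem' := by rintro _ _ ⟨a, ha, rfl⟩ ⟨b, hb, rfl⟩; exact ⟨a + b, add_mem ha hb, c.add a b⟩
  inv_mem' := by rintro _ ⟨a, ha, rfl⟩; exact ⟨-a, neg_mem ha, c.neg a⟩

theorem mem_img {S : AddSubgroup A} {m : A} : em m ∈ c.img S ↔ m ∈ S :=
  ⟨fun ⟨_, hb, e⟩ => c.inj e ▸ hb, fun hm => ⟨m, hm, rfl⟩⟩

theorem img_top : c.img ⊤ = V := SetLike.ext fun v => by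
  rw [c.range]
  exact ⟨fun ⟨m, _, e⟩ => ⟨m, e⟩, fun ⟨m, e⟩ => ⟨m, trivial, e⟩⟩

theorem card_img (S : AddSubgroup A) : Nat.card (c.img S) = Nat.card S :=
  (Nat.card_congr (Equiv.Set.image em S c.inj)).symm

theorem card_V : Nat.card V = Nat.card A := by
  rw [← c.img_top, c.card_img, AddSubgroup.card_top]

theorem img_fixS (B : Subgroup H) :
    c.img (fixS A (B.map π)) = V ⊓ centralizer ((B.map H.subtype : Subgroup G) : Set G) := by
  ext v
  rw [mem_inf, mem_centralizer_iff]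
  constructor
  · rintro ⟨m, hm, rfl⟩
    refine ⟨c.mem m, ?_⟩
    rintro _ ⟨b, hb, rfl⟩
    exact (c.fixed_iff b m).mp (hm _ ⟨b, hb, rfl⟩)
  · rintro ⟨hv, hcent⟩
    obtain ⟨m, rfl⟩ := (c.range v).mp hv
    refine ⟨m, ?_, rfl⟩
    rintro _ ⟨b, hb, rfl⟩
    exact (c.fixed_iff b m).mpr (hcent _ ⟨b, hb, rfl⟩)

theorem img_disp (B : Subgroup H) :
    c.img (disp A (B.map π)) = ⁅V, B.map H.subtype⁆ := by
  refine le_antisymm ?_ ?_
  · rintro _ ⟨m, hm, rfl⟩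
    induction hm using AddSubgroup.closure_induction with
    | mem x hx =>
      obtain ⟨_, ⟨b, hb, rfl⟩, v, rfl⟩ := hx
      rw [c.sub, c.act]
      have h := commutator_mem_commutator (c.mem v) (show (b : G) ∈ B.map H.subtype from ⟨b, hb, rfl⟩)
      rw [commutatorElement_def] at h
      have := inv_mem h
      rwa [mul_inv_rev, mul_inv_rev, mul_inv_rev, inv_inv, inv_inv, ← mul_assoc, ← mul_assoc] at this
    | zero => rw [c.zero]; exact one_mem _
    | add x y _ _ hx hy => rw [c.add]; exact mul_mem hx hy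
    | neg x _ hx => rw [c.neg]; exact inv_mem hx
  · rw [commutator_le]
    rintro v hv _ ⟨b, hb, rfl⟩
    obtain ⟨m, rfl⟩ := (c.range v).mp hv
    show ⁅em m, (b : G)⁆ ∈ _
    rw [show ⁅em m, (b : G)⁆ = em (-(π b • m - m)) by
      rw [c.neg, c.sub, c.act, commutatorElement_def]; group]
    exact c.mem_img.mpr (neg_mem (mem_disp (R := B.map π) ⟨b, hb, rfl⟩ m))

theorem img_iSup {ι : Sort*} (S : ι → AddSubgroup A) : c.img (⨆ i, S i) = ⨆ i, c.img (S i) := by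
  refine le_antisymm ?_ (iSup_le fun i => ?_)
  · rintro _ ⟨m, hm, rfl⟩
    induction hm using AddSubgroup.iSup_induction' with
    | hp i x hx => exact mem_iSup_of_mem i (c.mem_img.mpr hx)
    | h1 => rw [c.zero]; exact one_mem _
    | hadd x y _ _ hx hy => rw [c.add]; exact mul_mem hx hy
  · rintro _ ⟨m, hm, rfl⟩
    exact c.mem_img.mpr (AddSubgroup.mem_iSup_of_mem i hm)

theorem img_sup (S S' : AddSubgroup A) : c.img (S ⊔ S') = c.img S ⊔ c.img S' := by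
  refine le_antisymm ?_ (sup_le ?_ ?_)
  · rintro _ ⟨m, hm, rfl⟩
    obtain ⟨a, ha, b, hb, rfl⟩ := AddSubgroup.mem_sup.mp hm
    rw [c.add]
    exact mul_mem_sup (c.mem_img.mpr ha) (c.mem_img.mpr hb)
  · rintro _ ⟨m, hm, rfl⟩; exact c.mem_img.mpr (AddSubgroup.mem_sup_left hm)
  · rintro _ ⟨m, hm, rfl⟩; exact c.mem_img.mpr (AddSubgroup.mem_sup_right hm)

/-- The preimage in `G` of a subgroup of `P`. -/
def pre (_ : Conj H V π em) (E : Subgroup P) : Subgroup G := (E.comap π).map H.subtype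

theorem mem_pre {E : Subgroup P} {g : G} : g ∈ c.pre E ↔ ∃ h : g ∈ H, π ⟨g, h⟩ ∈ E :=
  ⟨by rintro ⟨h, hh, rfl⟩; exact ⟨h.2, hh⟩, fun ⟨h, hh⟩ => ⟨⟨g, h⟩, hh, rfl⟩⟩

theorem pre_fix (E : Subgroup P) :
    V ⊓ centralizer ((c.pre E : Subgroup G) : Set G) = c.img (fixS A E) := by
  rw [pre, ← c.img_fixS, map_comap_eq_self_of_surjective c.surj]

theorem pre_disp (E : Subgroup P) : ⁅V, c.pre E⁆ = c.img (disp A E) := by
  rw [pre, ← c.img_disp, map_comap_eq_self_of_surjective c.surj]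

theorem pre_fix_disp (E : Subgroup P) :
    ⁅V, c.pre E⁆ ⊓ centralizer ((c.pre E : Subgroup G) : Set G) = c.img (disp A E ⊓ fixS A E) := by
  refine le_antisymm ?_ ?_
  · intro x hx
    obtain ⟨hx1, hx2⟩ := mem_inf.mp hx
    rw [c.pre_disp] at hx1
    obtain ⟨m, hm, rfl⟩ := hx1
    refine c.mem_img.mpr (AddSubgroup.mem_inf.mpr ⟨hm, c.mem_img.mp ?_⟩)
    rw [← c.pre_fix]
    exact mem_inf.mpr ⟨c.mem m, hx2⟩
  · rintro _ ⟨m, hm, rfl⟩
    obtain ⟨h1, h2⟩ := AddSubgroup.mem_inf.mp hm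
    refine mem_inf.mpr ⟨c.pre_disp E ▸ c.mem_img.mpr h1, ?_⟩
    have := c.mem_img.mpr h2
    rw [← c.pre_fix] at this
    exact (mem_inf.mp this).2

/-- The map from the preimage. -/
noncomputable def preHom (E : Subgroup P) : c.pre E →* E :=
  MonoidHom.mk' (fun g => ⟨π ⟨g, (c.mem_pre.mp g.2).choose⟩, (c.mem_pre.mp g.2).choose_spec⟩)
    fun g g' => Subtype.ext (by
      show π ⟨(g : G) * g', _⟩ = π ⟨g, _⟩ * π ⟨g', _⟩
      rw [← map_mul]
      rfl)

theorem preHom_surjective (E : Subgroup P) : Function.Surjective (c.preHom E) := fun e => by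
  obtain ⟨h, hh⟩ := c.surj e
  exact ⟨⟨h, c.mem_pre.mpr ⟨h.2, by rw [show (⟨(h : G), h.2⟩ : H) = h from rfl, hh]; exact e.2⟩⟩,
    Subtype.ext hh⟩

theorem preHom_ker (E : Subgroup P) :
    (c.preHom E).ker = (π.ker.map H.subtype).subgroupOf (c.pre E) := by
  ext g
  rw [MonoidHom.mem_ker, mem_subgroupOf]
  refine ⟨fun h => ⟨⟨g, (c.mem_pre.mp g.2).choose⟩, congrArg Subtype.val h, rfl⟩, ?_⟩
  rintro ⟨x, hx, he⟩
  refine Subtype.ext (?_ : π ⟨(g : G), _⟩ = 1)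
  rw [show (⟨(g : G), (c.mem_pre.mp g.2).choose⟩ : H) = x from Subtype.ext he.symm]
  exact hx

theorem acts_sl {E : Subgroup P} {F : Type} [Field F] (ρ : E ≃* Matrix.SpecialLinearGroup (Fin 2) F)
    (ψ : A →+ (Fin 2 → F)) (h0 : ∀ v, ψ v = 0 ↔ v ∈ fixS A E) (hs : ∀ y, ∃ v ∈ disp A E, ψ v = y)
    (he : ∀ (g : E) (v : A), ψ ((g : P) • v) =
      ((ρ g : Matrix.SpecialLinearGroup (Fin 2) F) : Matrix (Fin 2) (Fin 2) F).mulVec (ψ v)) :
    Cfsg.ActsAsSL2OnSection F ⊤ (c.pre E) ⁅V, c.pre E⁆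
      (⁅V, c.pre E⁆ ⊓ centralizer ((c.pre E : Subgroup G) : Set G)) := by
  have hmem : ∀ g (hg : g ∈ c.pre E) (m : A), m ∈ disp A E →
      g * em m * g⁻¹ = em ((c.preHom E ⟨g, hg⟩ : P) • m) ∧
      (c.preHom E ⟨g, hg⟩ : P) • m ∈ disp A E := fun g hg m hm => by
    refine ⟨?_, smul_mem_disp (Subgroup.le_normalizer (c.preHom E ⟨g, hg⟩).2) hm⟩
    exact (c.act ⟨g, (c.mem_pre.mp hg).choose⟩ m).symm
  have hU : ∀ u : ↥⁅V, c.pre E⁆, ∃ m ∈ disp A E, em m = (u : G) := fun u => by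
    have := SetLike.le_def.mp (c.pre_disp E).le u.2
    exact this
  choose toA htoA htoA' using hU
  refine ⟨?_, inf_le_left, (ρ.toMonoidHom.comp (c.preHom E)),
    MonoidHom.mk' (fun u => Multiplicative.ofAdd (ψ (toA u))) fun u u' => ?_,
    MonoidHom.range_eq_top.mpr (ρ.surjective.comp (c.preHom_surjective E)), fun y => ?_, fun u => ?_,
    fun g u => ?_⟩
  · intro g hg
    refine mem_normalizer_iff.mpr fun x => ?_
    have key : ∀ g ∈ c.pre E, ∀ x ∈ ⁅V, c.pre E⁆, g * x * g⁻¹ ∈ ⁅V, c.pre E⁆ := fun g hg x hx => by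
      rw [c.pre_disp] at hx ⊢
      obtain ⟨m, hm, rfl⟩ := hx
      rw [(hmem g hg m hm).1]
      exact c.mem_img.mpr (hmem g hg m hm).2
    refine ⟨key g hg x, fun hx => ?_⟩
    have := key g⁻¹ (inv_mem hg) _ hx
    rwa [show g⁻¹ * (g * x * g⁻¹) * g⁻¹⁻¹ = x by group] at this
  · rw [← ofAdd_add, ← map_add]
    congr 2
    refine c.inj ?_
    rw [c.add, htoA', htoA', htoA', Subgroup.coe_mul]
  · obtain ⟨m, hm, hme⟩ := hs (Multiplicative.toAdd y)
    refine ⟨⟨em m, c.pre_disp E ▸ c.mem_img.mpr hm⟩, ?_⟩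
    show Multiplicative.ofAdd (ψ (toA _)) = y
    rw [show toA ⟨em m, _⟩ = m from c.inj (htoA' _), hme]
    rfl
  · show Multiplicative.ofAdd (ψ (toA u)) = 1 ↔ _
    rw [c.pre_fix_disp, ← htoA' u, c.mem_img, AddSubgroup.mem_inf]
    exact ⟨fun h => ⟨htoA u, (h0 _).mp (Multiplicative.ofAdd.injective h)⟩,
      fun h => congrArg Multiplicative.ofAdd ((h0 _).mpr h.2)⟩
  · obtain ⟨h1, h2⟩ := hmem g g.2 (toA u) (htoA u)
    refine ⟨⟨em ((c.preHom E g : P) • toA u), c.pre_disp E ▸ c.mem_img.mpr h2⟩, ?_, ?_⟩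
    · rw [← htoA' u]; exact h1.symm
    · show ψ (toA _) = ((ρ (c.preHom E g)).1).mulVec (ψ (toA u))
      rw [show toA ⟨em ((c.preHom E g : P) • toA u), _⟩ = (c.preHom E g : P) • toA u from c.inj (htoA' _), he]

theorem acts_sym {E : Subgroup P} {n : ℕ} (ρ : E ≃* Equiv.Perm (Fin n))
    (Φ : A →+ (Fin n → ZMod 2)) (h0 : ∀ v, Φ v = 0 ↔ v ∈ fixS A E) (hsum : ∀ v, ∑ i, Φ v i = 0)
    (hs : ∀ u, ∑ i, u i = 0 → ∃ v ∈ disp A E, Φ v = u)
    (he : ∀ (g : E) (v : A) (i : Fin n), Φ ((g : P) • v) i = Φ v ((ρ g)⁻¹ i)) :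
    Cfsg.ActsAsOddPermModuleOnSection n ⊤ (c.pre E) ⁅V, c.pre E⁆
      (⁅V, c.pre E⁆ ⊓ centralizer ((c.pre E : Subgroup G) : Set G)) := by
  have hmem : ∀ g (hg : g ∈ c.pre E) (m : A), m ∈ disp A E →
      g * em m * g⁻¹ = em ((c.preHom E ⟨g, hg⟩ : P) • m) ∧
      (c.preHom E ⟨g, hg⟩ : P) • m ∈ disp A E := fun g hg m hm => by
    refine ⟨?_, smul_mem_disp (Subgroup.le_normalizer (c.preHom E ⟨g, hg⟩).2) hm⟩
    exact (c.act ⟨g, (c.mem_pre.mp hg).choose⟩ m).symm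
  have hU : ∀ u : ↥⁅V, c.pre E⁆, ∃ m ∈ disp A E, em m = (u : G) := fun u => by
    have := SetLike.le_def.mp (c.pre_disp E).le u.2
    exact this
  choose toA htoA htoA' using hU
  refine ⟨?_, inf_le_left, (ρ.toMonoidHom.comp (c.preHom E)),
    MonoidHom.mk' (fun u => Multiplicative.ofAdd (Φ (toA u))) fun u u' => ?_,
    MonoidHom.range_eq_top.mpr (ρ.surjective.comp (c.preHom_surjective E)), fun u => hsum _, fun y hy => ?_,
    fun u => ?_, fun g u => ?_⟩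
  · intro g hg
    refine mem_normalizer_iff.mpr fun x => ?_
    have key : ∀ g ∈ c.pre E, ∀ x ∈ ⁅V, c.pre E⁆, g * x * g⁻¹ ∈ ⁅V, c.pre E⁆ := fun g hg x hx => by
      rw [c.pre_disp] at hx ⊢
      obtain ⟨m, hm, rfl⟩ := hx
      rw [(hmem g hg m hm).1]
      exact c.mem_img.mpr (hmem g hg m hm).2
    refine ⟨key g hg x, fun hx => ?_⟩
    have := key g⁻¹ (inv_mem hg) _ hx
    rwa [show g⁻¹ * (g * x * g⁻¹) * g⁻¹⁻¹ = x by group] at this
  · rw [← ofAdd_add, ← map_add]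
    congr 2
    refine c.inj ?_
    rw [c.add, htoA', htoA', htoA', Subgroup.coe_mul]
  · obtain ⟨m, hm, hme⟩ := hs y hy
    refine ⟨⟨em m, c.pre_disp E ▸ c.mem_img.mpr hm⟩, ?_⟩
    show Φ (toA _) = y
    rw [show toA ⟨em m, _⟩ = m from c.inj (htoA' _), hme]
  · show Multiplicative.ofAdd (Φ (toA u)) = 1 ↔ _
    rw [c.pre_fix_disp, ← htoA' u, c.mem_img, AddSubgroup.mem_inf]
    exact ⟨fun h => ⟨htoA u, (h0 _).mp (Multiplicative.ofAdd.injective h)⟩,
      fun h => congrArg Multiplicative.ofAdd ((h0 _).mpr h.2)⟩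
  · obtain ⟨h1, h2⟩ := hmem g g.2 (toA u) (htoA u)
    refine ⟨⟨em ((c.preHom E g : P) • toA u), c.pre_disp E ▸ c.mem_img.mpr h2⟩, ?_, fun i => ?_⟩
    · rw [← htoA' u]; exact h1.symm
    · show Φ (toA _) i = Φ (toA u) ((ρ (c.preHom E g))⁻¹ i)
      rw [show toA ⟨em ((c.preHom E g : P) • toA u), _⟩ = (c.preHom E g : P) • toA u from c.inj (htoA' _), he]

end Conj

end Cfsg.Agent.H11.PMinFF
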