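import Cfsg.Agent.H11.PMinFF.Interaction

/-!
Offenders of order two: the blocks are generated by two transvections, and adjacency of blocks is
symmetric and transitive.
-/

set_option autoImplicit false

namespace Cfsg.Agent.H11.PMinFF

open Subgroup Cfsg.Agent.H63 Cfsg.Agent.H31.SL2Pair

universe u v

variable {P : Type u} [Group P] {V : Type v} [AddCommGroup V]

/-- `x • f` for a scalar in the field with two elements. -/
def sm (x : ZMod 2) (f : V) : V := x.val • f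

@[simp] theorem sm_zero (f : V) : sm 0 f = 0 := by simp [sm]

@[simp] theorem sm_one (f : V) : sm 1 f = f := by simp [sm, show (1 : ZMod 2).val = 1 from rfl]

theorem zmod_two_cases : ∀ x : ZMod 2, x = 0 ∨ x = 1 := by decide

theorem sm_add {f : V} (hf : f + f = 0) (x y : ZMod 2) : sm (x + y) f = sm x f + sm y f := by
  rcases zmod_two_cases x with rfl | rfl <;> rcases zmod_two_cases y with rfl | rfl <;>
    simp [show (1 : ZMod 2) + 1 = 0 from rfl, hf]

theorem sm_eq_zero {f : V} (hf : f ≠ 0) {x : ZMod 2} (h : sm x f = 0) : x = 0 := by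
  rcases zmod_two_cases x with rfl | rfl
  · rfl
  · exact absurd (by simpa using h) hf

theorem eq_one_of_ne {x : ZMod 2} (h : x ≠ 0) : x = 1 := (zmod_two_cases x).resolve_left h

variable [DistribMulAction P V]

/-- `g` is the transvection with centre `f` and axis `φ`. -/
def IsTv (g : P) (f : V) (φ : V →+ ZMod 2) : Prop := ∀ v : V, g • v = v + sm (φ v) f

theorem IsTv.fixed_iff {g : P} {f : V} {φ : V →+ ZMod 2} (h : IsTv g f φ) (hf : f ≠ 0) {v : V} :
    g • v = v ↔ φ v = 0 := by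
  rw [h v, add_eq_left]
  exact ⟨sm_eq_zero hf, fun e => by rw [e, sm_zero]⟩

theorem IsTv.inv_eq {g : P} {f : V} {φ : V →+ ZMod 2} (h : IsTv g f φ)
    (hff : f + f = 0) (hφ : φ f = 0) (hfaith : ∀ x : P, (∀ v : V, x • v = v) → x = 1) : g⁻¹ = g := by
  refine inv_eq_of_mul_eq_one_right (hfaith _ fun v => ?_)
  rw [mul_smul, h v, smul_add, h v]
  rcases eq_or_ne (φ v) 0 with e | e
  · simp [e]
  · rw [eq_one_of_ne e, sm_one, h f, hφ, sm_zero, add_zero, add_assoc, hff, add_zero]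

/-- The axis and centre of the conjugate of a transvection by a transvection. -/
theorem IsTv.conj {s g : P} {fs f : V} {ψ φ : V →+ ZMod 2} (hs : IsTv s fs ψ) (hg : IsTv g f φ)
    (hfs : fs + fs = 0) (hψ : ψ fs = 0) (hfaith : ∀ x : P, (∀ v : V, x • v = v) → x = 1)
    (h1 : φ fs = 1) (h2 : ψ f = 1) (hff : f + f = 0) : IsTv (s * g * s⁻¹) (f + fs) (φ + ψ) := by
  intro v
  rw [hs.inv_eq hfs hψ hfaith, mul_smul, mul_smul, hg (s • v), smul_add, ← mul_smul,
    show s * s = 1 by nth_rw 2 [← hs.inv_eq hfs hψ hfaith]; exact mul_inv_cancel s, one_smul]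
  congr 1
  have e1 : φ (s • v) = φ v + ψ v := by
    rw [hs v, map_add]
    congr 1
    rcases eq_or_ne (ψ v) 0 with e | e
    · simp [e]
    · rw [eq_one_of_ne e, sm_one, h1]
  rw [e1, AddMonoidHom.add_apply]
  rcases eq_or_ne (φ v + ψ v) 0 with e | e
  · simp [e]
  · rw [eq_one_of_ne e, sm_one, sm_one, hs f, h2, sm_one]

theorem IsTv.commute {s g : P} {fs f : V} {ψ φ : V →+ ZMod 2} (hs : IsTv s fs ψ) (hg : IsTv g f φ)
    (hfaith : ∀ x : P, (∀ v : V, x • v = v) → x = 1) (h1 : φ fs = 0) (h2 : ψ f = 0) :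
    s * g = g * s := by
  have hs' : ∀ x : ZMod 2, s • sm x f = sm x f := fun x => by
    rw [hs (sm x f), show ψ (sm x f) = 0 by simp [sm, map_nsmul, h2], sm_zero, add_zero]
  have hg' : ∀ x : ZMod 2, g • sm x fs = sm x fs := fun x => by
    rw [hg (sm x fs), show φ (sm x fs) = 0 by simp [sm, map_nsmul, h1], sm_zero, add_zero]
  refine (inv_mul_eq_one.mp (hfaith ((g * s)⁻¹ * (s * g)) fun v => ?_)).symm
  have key : (s * g) • v = (g * s) • v := by
    rw [mul_smul, mul_smul, hg v, hs v, smul_add, smul_add, hs', hg', hs v, hg v]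
    abel
  rw [mul_smul, key, ← mul_smul, inv_mul_cancel, one_smul]

variable [Finite P] [Finite V] {p : ℕ} [Fact p.Prime] {T : Sylow p P} {M : Subgroup P}

/-- The transvections of a block of an offender of order two. -/
structure TD (p : ℕ) (V : Type v) [AddCommGroup V] [DistribMulAction P V] (T A : Subgroup P)
    (a c : P) (e f : V) (φ ψ : V →+ ZMod 2) : Prop where
  eqA : A = zpowers a
  tva : IsTv a e φ
  tvc : IsTv c f ψ
  offc : IsMinOff p V (zpowers c)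
  φe : φ e = 0
  ψf : ψ f = 0
  φf : φ f = 1
  ψe : ψ e = 1
  gen : blk p V T A = zpowers a ⊔ zpowers c

theorem TD.fix_blk {A : Subgroup P} {a c : P} {e f : V} {φ ψ : V →+ ZMod 2}
    (h : TD p V (T : Subgroup P) A a c e f φ ψ) {v : V} :
    v ∈ fixS V (blk p V (T : Subgroup P) A) ↔ φ v = 0 ∧ ψ v = 0 := by
  have he : e ≠ 0 := fun e0 => by simpa [e0] using h.ψe
  have hf : f ≠ 0 := fun e0 => by simpa [e0] using h.φf
  rw [h.gen, fixS_sup, AddSubgroup.mem_inf]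
  refine and_congr ⟨fun hv => (h.tva.fixed_iff he).mp (hv a (mem_zpowers a)), fun hv g hg => ?_⟩
    ⟨fun hv => (h.tvc.fixed_iff hf).mp (hv c (mem_zpowers c)), fun hv g hg => ?_⟩
  · exact (zpowers_le.mpr (show a ∈ MulAction.stabilizer P v from (h.tva.fixed_iff he).mpr hv)) hg
  · exact (zpowers_le.mpr (show c ∈ MulAction.stabilizer P v from (h.tvc.fixed_iff hf).mpr hv)) hg

section family

variable (hs : Setting p V T M) (hm : Moves p V T M)
include hs hm

omit [Finite V] hm in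
theorem two_eq {A : Subgroup P} (hA : A ∈ offs p V (T : Subgroup P)) (h2 : Nat.card A = 2) : p = 2 := by
  obtain ⟨m, hm⟩ := (IsPGroup.iff_card (p := p)).mp hA.1.1.isPGroup
  rw [h2] at hm
  have := (Fact.out : p.Prime).dvd_of_dvd_pow (m := 2) (n := 1)
  rcases m with - | m
  · simp at hm
  · exact ((Nat.prime_dvd_prime_iff_eq (Fact.out : p.Prime) Nat.prime_two).mp ⟨p ^ m, by rw [hm, pow_succ']⟩)

omit [Finite P] [Finite V] hm in
theorem add_self (h2 : p = 2) (x : V) : x + x = 0 := by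
  rw [← two_nsmul, ← h2]; exact hs.char x

theorem exists_td {A : Subgroup P} (hA : A ∈ offs p V (T : Subgroup P)) (h2 : Nat.card A = 2) :
    ∃ a c e f φ ψ, TD p V (T : Subgroup P) A a c e f φ ψ := by
  classical
  have d := (block_blk hs hm hA).toPairBase
  set L := blk p V (T : Subgroup P) A
  have hp := two_eq hs hA h2
  have hself := add_self hs hp
  obtain ⟨a, ha, ha1⟩ := A.bot_or_exists_ne_one.resolve_left hA.1.1.1
  have hAa : A = zpowers a := by
    refine (Subgroup.eq_of_le_of_card_ge (zpowers_le.mpr ha) ?_).symm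
    rw [h2, Nat.card_zpowers]
    have h1 : orderOf a ≠ 1 := fun h => ha1 (orderOf_eq_one_iff.mp h)
    have h0 := orderOf_pos a
    omega
  obtain ⟨y, hy, hyM⟩ := SetLike.not_le_iff_exists.mp d.notM
  set C := fixS V A
  have hidx : C.index = 2 := by
    have h := AddSubgroup.card_mul_index C
    rw [d.cardV, h2, mul_comm (2 : ℕ)] at h
    exact Nat.eq_of_mul_eq_mul_left Nat.card_pos h
  let φ : V →+ ZMod 2 := AddMonoidHom.mk' (fun v => if v ∈ C then 0 else 1) fun v w => by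
    have := AddSubgroup.add_mem_iff_of_index_two hidx (a := v) (b := w)
    by_cases hv : v ∈ C <;> by_cases hw : w ∈ C <;> simp_all [show (1 : ZMod 2) + 1 = 0 from rfl]
  have hφ : ∀ v, φ v = if v ∈ C then 0 else 1 := fun v => rfl
  obtain ⟨v₀, hv₀⟩ : ∃ v, v ∉ C := by
    by_contra hno
    push_neg at hno
    exact ha1 (hs.faith a fun v => hno v a ha)
  set e := a • v₀ - v₀ with he
  have heC : e ∈ C := d.quad a ha v₀
  have htva : IsTv a e φ := by
    intro v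
    rw [hφ]
    by_cases hv : v ∈ C
    · rw [if_pos hv, sm_zero, add_zero]; exact hv a ha
    · rw [if_neg hv, sm_one]
      have h1 : v - v₀ ∈ C := by
        have := (AddSubgroup.add_mem_iff_of_index_two hidx (a := v) (b := -v₀)).mpr
          (iff_of_false hv (by rwa [neg_mem_iff]))
        rwa [← sub_eq_add_neg] at this
      have h2 := h1 a ha
      rw [smul_sub, sub_eq_sub_iff_sub_eq_sub] at h2
      rw [he, ← h2]; abel
  have heZ : e ∉ fixS V L := fun h => ha1 (d.nosing a ha v₀ hv₀ h)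
  set c := y * a * y⁻¹ with hc
  set f := y • e with hf
  let ψ : V →+ ZMod 2 := φ.comp (DistribSMul.toAddMonoidHom V y⁻¹)
  have hψ : ∀ v, ψ v = φ (y⁻¹ • v) := fun v => rfl
  have htvc : IsTv c f ψ := fun v => by
    rw [hc, mul_smul, mul_smul, htva, smul_add, smul_inv_smul, hψ, hf]
    congr 1
    exact smul_comm y _ e
  have hgen : L = zpowers a ⊔ zpowers c := by
    rw [← d.gen y hy hyM, hAa, cnj, MonoidHom.map_zpowers]
    rfl
  refine ⟨a, c, e, f, φ, ψ, hAa, htva, htvc, ?_, ?_, ?_, ?_, ?_, hgen⟩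
  · have : cnj A y = zpowers c := by rw [hAa, cnj, MonoidHom.map_zpowers]; rfl
    exact this ▸ hA.1.cnj y
  · rw [hφ, if_pos heC]
  · rw [hψ, hf, inv_smul_smul, hφ, if_pos heC]
  · rw [hφ, if_neg fun hC => heZ ?_]
    have h1 : f ∈ fixS V L := d.inter_mem hy hyM hC (by rwa [hf, inv_smul_smul])
    have h2 := h1 y⁻¹ (inv_mem hy)
    rw [hf, inv_smul_smul] at h2
    rwa [hf, ← h2] at h1
  · rw [hψ, hφ, if_neg fun hC => heZ (d.inter_mem hy hyM heC hC)]

variable {A B : Subgroup P} {a c a' c' : P} {e f e' f' : V} {φ ψ φ' ψ' : V →+ ZMod 2}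

omit [Finite V] hs hm in
theorem TD.mem_disp {A : Subgroup P} {a c : P} {e f : V} {φ ψ : V →+ ZMod 2}
    (h : TD p V (T : Subgroup P) A a c e f φ ψ) :
    e ∈ disp V A ∧ f ∈ disp V (blk p V (T : Subgroup P) A) := by
  constructor
  · have := PMinFF.mem_disp (V := V) (h.eqA ▸ mem_zpowers a) f
    rwa [h.tva f, h.φf, sm_one, add_sub_cancel_left] at this
  · have := PMinFF.mem_disp (V := V) (h.gen ▸ mem_sup_right (mem_zpowers c)) e
    rwa [h.tvc e, h.ψe, sm_one, add_sub_cancel_left] at this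

/-- The relations between the transvections of two different blocks. -/
theorem TD.cross (h : TD p V (T : Subgroup P) A a c e f φ ψ) (h' : TD p V (T : Subgroup P) B a' c' e' f' φ' ψ')
    (hA : A ∈ offs p V (T : Subgroup P)) (hB : B ∈ offs p V (T : Subgroup P)) (hne : B ≠ A) :
    φ' e = 0 ∧ φ' f = 0 ∧ ψ' e = 0 := by
  have h1 := h'.fix_blk.mp (disp_le_fixS_blk hs hm hB hA hne.symm h.mem_disp.1)
  refine ⟨h1.1, ?_, h1.2⟩
  have he' : e' ≠ 0 := fun e0 => by simpa [e0] using h'.ψe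
  refine (h'.tva.fixed_iff he').mp ?_
  exact dispBlk_le_fixS hs hm hA hB hne h.mem_disp.2 a' (h'.eqA ▸ mem_zpowers a')

/-- Two offenders lying in a common p-group commute. -/
theorem comm_of_pgroup {X Y : Subgroup P} (hX : IsMinOff p V X) (hY : IsMinOff p V Y)
    (hp : IsPGroup p ↥(X ⊔ Y)) {x y : P} (hx : x ∈ X) (hy : y ∈ Y) : x * y = y * x := by
  obtain ⟨R, hR⟩ := hp.exists_le_sylow
  obtain ⟨g, hg⟩ := MulAction.exists_smul_eq P T R
  have hmem : ∀ Z : Subgroup P, Z ≤ X ⊔ Y → cnj Z g⁻¹ ≤ (T : Subgroup P) := fun Z hZ => by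
    rw [cnj_le_iff, inv_inv]
    refine (hZ.trans hR).trans ?_
    rw [← hg, Sylow.coe_subgroup_smul]
    exact le_refl _
  have := offs_comm hs hm ⟨hX.cnj g⁻¹, hmem X le_sup_left⟩ ⟨hY.cnj g⁻¹, hmem Y le_sup_right⟩
    (conj_mem_cnj g⁻¹ hx) (conj_mem_cnj g⁻¹ hy)
  rw [show g⁻¹ * x * g⁻¹⁻¹ * (g⁻¹ * y * g⁻¹⁻¹) = g⁻¹ * (x * y) * g by group,
    show g⁻¹ * y * g⁻¹⁻¹ * (g⁻¹ * x * g⁻¹⁻¹) = g⁻¹ * (y * x) * g by group] at this
  exact mul_left_cancel (mul_right_cancel this)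

/-- An offender generating a p-group with all offenders in `T` is one of them. -/
theorem mem_offs_of_pgroup {X : Subgroup P} (hX : IsMinOff p V X) (hne : (offs p V (T : Subgroup P)).Nonempty)
    (hp : IsPGroup p ↥(sSup (offs p V (T : Subgroup P)) ⊔ X)) : X ∈ offs p V (T : Subgroup P) := by
  set J := sSup (offs p V (T : Subgroup P)) with hJ
  obtain ⟨R, hR⟩ := hp.exists_le_sylow
  obtain ⟨g, hg⟩ := MulAction.exists_smul_eq P T R
  have hmem : ∀ Z : Subgroup P, Z ≤ J ⊔ X → cnj Z g⁻¹ ≤ (T : Subgroup P) := fun Z hZ => by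
    rw [cnj_le_iff, inv_inv]
    refine (hZ.trans hR).trans ?_
    rw [← hg, Sylow.coe_subgroup_smul]
    exact le_refl _
  have hgJ : cnj J g⁻¹ = J := Subgroup.eq_of_le_of_card_ge (by
    conv_lhs => rw [hJ, cnj_sSup]
    refine sSup_le ?_
    rintro _ ⟨A, hA, rfl⟩
    exact le_sSup ⟨hA.1.cnj _, hmem A ((le_sSup hA).trans le_sup_left)⟩) (card_cnj J g⁻¹).ge
  refine ⟨hX, ?_⟩
  have h1 : cnj X g⁻¹ ≤ J := le_sSup ⟨hX.cnj _, hmem X le_sup_right⟩
  rw [← cnj_cnj_inv X g]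
  refine (cnj_mono h1 g).trans ?_
  rw [← hgJ, cnj_cnj_inv]
  exact sSup_offs_le _ le_rfl

/-- Adjacency is symmetric. -/
theorem adj_symm (h : TD p V (T : Subgroup P) A a c e f φ ψ) (h' : TD p V (T : Subgroup P) B a' c' e' f' φ' ψ')
    (hA : A ∈ offs p V (T : Subgroup P)) (h2 : Nat.card A = 2) : ψ f' = ψ' f := by
  have hp := two_eq hs hA h2
  have hself := add_self hs hp
  have key : ∀ {c c' : P} {f f' : V} {ψ ψ' : V →+ ZMod 2}, IsTv c f ψ → IsTv c' f' ψ' → ψ f = 0 → ψ' f' = 0 →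
      ψ f' = 1 → ψ' f = 0 → ∀ v, ψ' v = 1 → IsMinOff p V (zpowers c) → IsMinOff p V (zpowers c') → False := by
    intro c c' f f' ψ ψ' hc hc' hf hf' h1 h0 v hv hX hY
    have hf0 : f ≠ 0 := fun e0 => by
      have := hX.1.1
      refine this ((zpowers_eq_bot).mpr (hs.faith c fun v => ?_))
      rw [hc v, e0, sm, smul_zero, add_zero]
    have hi := hc.inv_eq (hself f) hf hs.faith
    have hi' := hc'.inv_eq (hself f') hf' hs.faith
    set d := c * c' * c with hd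
    have htd : IsTv d (f' + f) ψ' := by
      intro v
      rw [hd, mul_smul, mul_smul, hc' (c • v), smul_add, ← mul_smul, show c * c = 1 by
        nth_rw 2 [← hi]; exact mul_inv_cancel c, one_smul]
      congr 1
      rw [show ψ' (c • v) = ψ' v by rw [hc v, map_add, show ψ' (sm (ψ v) f) = 0 by simp [sm, map_nsmul, h0], add_zero]]
      rcases eq_or_ne (ψ' v) 0 with e | e
      · simp [e]
      · rw [eq_one_of_ne e, sm_one, sm_one, hc f', h1, sm_one]
    have hdc : d * c' = c' * d := htd.commute hc' hs.faith (by rw [map_add, hf', h0, add_zero]) hf'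
    have hρ : (c * c') ^ 4 = 1 := by
      have e1 : (c * c') * (c * c') = (c' * c) * (c' * c) := by
        rw [show (c * c') * (c * c') = d * c' by rw [hd]; group, hdc, hd]; group
      have e2 : (c' * c) = (c * c')⁻¹ := by rw [mul_inv_rev, hi, hi']
      rw [e2] at e1
      rw [show (4 : ℕ) = 2 + 2 from rfl, pow_add, pow_two]
      nth_rw 2 [e1]
      group
    have hpow : IsPGroup p (zpowers (c * c')) := by
      intro x
      refine ⟨2, Subtype.ext ?_⟩
      obtain ⟨n, hn⟩ := x.2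
      rw [SubgroupClass.coe_pow, ← hn, hp, show (2 : ℕ) ^ 2 = 4 from rfl, ← zpow_natCast,
        ← zpow_mul, mul_comm, zpow_mul, zpow_natCast, hρ, one_zpow, OneMemClass.coe_one]
    have hcn : zpowers c ≤ normalizer (zpowers (c * c') : Set P) := zpowers_le.mpr
      (mem_normalizer_of_le (by
        rw [cnj, MonoidHom.map_zpowers]
        refine zpowers_le.mpr ?_
        show c * (c * c') * c⁻¹ ∈ zpowers (c * c')
        rw [show c * (c * c') * c⁻¹ = (c * c')⁻¹ by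
          rw [mul_inv_rev, hi', hi, ← mul_assoc c c c', show c * c = 1 by
            nth_rw 2 [← hi]; exact mul_inv_cancel c, one_mul]]
        exact inv_mem (mem_zpowers _)))
    have hsup : IsPGroup p ↥(zpowers (c * c') ⊔ zpowers c) := hpow.to_sup_of_normal_left' hX.1.isPGroup hcn
    have hle : zpowers c ⊔ zpowers c' ≤ zpowers (c * c') ⊔ zpowers c := by
      refine sup_le le_sup_right (zpowers_le.mpr ?_)
      have hm' : c⁻¹ * (c * c') ∈ zpowers (c * c') ⊔ zpowers c :=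
        mul_mem (mem_sup_right (inv_mem (mem_zpowers c))) (mem_sup_left (mem_zpowers _))
      rwa [inv_mul_cancel_left] at hm'
    have hcomm := comm_of_pgroup hs hm hX hY (hsup.to_le hle) (mem_zpowers c) (mem_zpowers c')
    have e1 := congrArg (fun g : P => g • v) hcomm
    have hsmv : ψ' (v + sm (ψ v) f) = 1 := by simp [sm, map_nsmul, h0, hv]
    simp only [mul_smul] at e1
    rw [hc' v, hv, sm_one, hc (v + f'), hc v, hc' (v + sm (ψ v) f), hsmv, sm_one, map_add, h1,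
      sm_add (hself f), sm_one] at e1
    refine hf0 (add_left_cancel (a := v + sm (ψ v) f + f') ?_)
    rw [add_zero]
    nth_rw 2 [← e1]
    abel
  by_contra hne
  rcases eq_or_ne (ψ f') 0 with h0 | h0
  · exact key h'.tvc h.tvc h'.ψf h.ψf (eq_one_of_ne fun e => hne (h0.trans e.symm)) h0 e h.ψe h'.offc h.offc
  · refine key h.tvc h'.tvc h.ψf h'.ψf (eq_one_of_ne h0) ?_ e' h'.ψe h.offc h'.offc
    by_contra h1
    exact hne ((eq_one_of_ne h0).trans (eq_one_of_ne h1).symm)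

omit hm in
theorem root_step {r s : P} {fr fs : V} {φr ψs : V →+ ZMod 2} (hp : p = 2)
    (hr : IsTv r fr φr) (hoff : IsMinOff p V (zpowers r)) (hst : IsTv s fs ψs) (hψ : ψs fs = 0)
    (h1 : φr fs = 1) (h2 : ψs fr = 1) :
    ∃ g : P, IsTv g (fr + fs) (φr + ψs) ∧ IsMinOff p V (zpowers g) := by
  refine ⟨s * r * s⁻¹, hst.conj hr (add_self hs hp fs) hψ hs.faith h1 h2 (add_self hs hp fr), ?_⟩
  have : cnj (zpowers r) s = zpowers (s * r * s⁻¹) := by rw [cnj, MonoidHom.map_zpowers]; rfl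
  exact this ▸ hoff.cnj s

/-- Adjacency is transitive. -/
theorem adj_trans {A₁ A₂ A₃ : Subgroup P} {a₁ c₁ a₂ c₂ a₃ c₃ : P} {e₁ f₁ e₂ f₂ e₃ f₃ : V}
    {φ₁ ψ₁ φ₂ ψ₂ φ₃ ψ₃ : V →+ ZMod 2} (h₁ : TD p V (T : Subgroup P) A₁ a₁ c₁ e₁ f₁ φ₁ ψ₁)
    (h₂ : TD p V (T : Subgroup P) A₂ a₂ c₂ e₂ f₂ φ₂ ψ₂) (h₃ : TD p V (T : Subgroup P) A₃ a₃ c₃ e₃ f₃ φ₃ ψ₃)
    (hA₁ : A₁ ∈ offs p V (T : Subgroup P)) (hA₂ : A₂ ∈ offs p V (T : Subgroup P))
    (hA₃ : A₃ ∈ offs p V (T : Subgroup P)) (hc : ∀ X ∈ offs p V (T : Subgroup P), Nat.card X = 2)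
    (n12 : A₁ ≠ A₂) (n23 : A₂ ≠ A₃) (n13 : A₁ ≠ A₃) (x12 : ψ₁ f₂ = 1) (x23 : ψ₂ f₃ = 1) :
    ψ₁ f₃ = 1 := by
  refine eq_one_of_ne fun x13 => ?_
  have hp := two_eq hs hA₁ (hc _ hA₁)
  have h2 := hc _ hA₁
  have x21 : ψ₂ f₁ = 1 := (adj_symm hs hm h₂ h₁ hA₂ (hc _ hA₂)).trans x12
  have x32 : ψ₃ f₂ = 1 := (adj_symm hs hm h₃ h₂ hA₃ (hc _ hA₃)).trans x23
  have x31 : ψ₃ f₁ = 0 := (adj_symm hs hm h₃ h₁ hA₃ (hc _ hA₃)).trans x13
  obtain ⟨p12, q12, r12⟩ := h₁.cross hs hm h₂ hA₁ hA₂ n12.symm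
  obtain ⟨p13, q13, r13⟩ := h₁.cross hs hm h₃ hA₁ hA₃ n13.symm
  obtain ⟨p21, q21, r21⟩ := h₂.cross hs hm h₁ hA₂ hA₁ n12
  obtain ⟨p23, q23, r23⟩ := h₂.cross hs hm h₃ hA₂ hA₃ n23.symm
  obtain ⟨p31, q31, r31⟩ := h₃.cross hs hm h₁ hA₃ hA₁ n13
  obtain ⟨p32, q32, r32⟩ := h₃.cross hs hm h₂ hA₃ hA₂ n23
  have o1 : IsMinOff p V (zpowers a₁) := h₁.eqA ▸ hA₁.1
  have o11 : (1 : ZMod 2) + 1 = 0 := rfl
  obtain ⟨g1, t1, m1⟩ := root_step hs hp h₂.tvc h₂.offc h₁.tvc h₁.ψf (by simp [x21]) (by simp [x12])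
  obtain ⟨g2, t2, m2⟩ := root_step hs hp t1 m1 h₃.tvc h₃.ψf (by simp [x13, x23])
    (by simp [x31, x32])
  obtain ⟨g3, t3, m3⟩ := root_step hs hp t2 m2 h₁.tva h₁.φe (by simp [h₁.ψe, r12, r13])
    (by simp [h₁.φf, q21, q31])
  obtain ⟨g4, t4, m4⟩ := root_step hs hp t3 m3 h₂.tva h₂.φe (by simp [h₂.ψe, r21, r23, p21])
    (by simp [h₂.φf, q12, q32, p12])
  obtain ⟨g5, t5, m5⟩ := root_step hs hp t4 m4 h₃.tva h₃.φe (by simp [h₃.ψe, r31, r32, p31, p32])
    (by simp [h₃.φf, q13, q23, p13, p23])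
  obtain ⟨g6, t6, m6⟩ := root_step hs hp t5 m5 h₂.tvc h₂.ψf
    (by simp [x12, x32, h₂.ψf, q21, q23, h₂.φf, o11])
    (by simp [x21, x23, h₂.ψf, r12, r32, h₂.ψe, o11])
  obtain ⟨g7, t7, m7⟩ := root_step hs hp t6 m6 h₁.tvc h₁.ψf
    (by simp [x21, x31, h₁.ψf, h₁.φf, q12, q13, o11])
    (by simp [x12, x13, h₁.ψf, h₁.ψe, r21, r31, o11])
  obtain ⟨g8, t8, m8⟩ := root_step hs hp t7 m7 h₃.tvc h₃.ψf
    (by simp [x13, x23, h₃.ψf, h₃.φf, q31, q32, o11])
    (by simp [x31, x32, h₃.ψf, h₃.ψe, r13, r23, o11])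
  set F := ((((((f₂ + f₁) + f₃) + e₁) + e₂) + e₃) + f₂) + f₁ + f₃ with hF
  set Φ := ((((((ψ₂ + ψ₁) + ψ₃) + φ₁) + φ₂) + φ₃) + ψ₂) + ψ₁ + ψ₃ with hΦ
  have self := add_self hs hp
  have eF : F = e₁ + e₂ + e₃ := by
    rw [hF, show ((((((f₂ + f₁) + f₃) + e₁) + e₂) + e₃) + f₂) + f₁ + f₃ =
      (f₁ + f₁) + (f₂ + f₂) + (f₃ + f₃) + (e₁ + e₂ + e₃) by abel, self f₁, self f₂, self f₃]
    simp
  have eΦ : ∀ v, Φ v = φ₁ v + φ₂ v + φ₃ v := fun v => by
    rw [hΦ]
    simp only [AddMonoidHom.add_apply]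
    rw [show ((((((ψ₂ v + ψ₁ v) + ψ₃ v) + φ₁ v) + φ₂ v) + φ₃ v) + ψ₂ v) + ψ₁ v + ψ₃ v =
      (ψ₁ v + ψ₁ v) + (ψ₂ v + ψ₂ v) + (ψ₃ v + ψ₃ v) + (φ₁ v + φ₂ v + φ₃ v) by abel,
      CharTwo.add_self_eq_zero (ψ₁ v), CharTwo.add_self_eq_zero (ψ₂ v), CharTwo.add_self_eq_zero (ψ₃ v)]
    simp
  set J := sSup (offs p V (T : Subgroup P)) with hJ
  have hcJ : J ≤ centralizer {g8} := sSup_le fun X hX x hx => by
    obtain ⟨a, cX, eX, fX, φX, ψX, hX'⟩ := exists_td hs hm hX (hc X hX)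
    have hz : zpowers a ≤ centralizer {g8} := zpowers_le.mpr (mem_centralizer_singleton_iff.mpr ?_)
    · exact hz (hX'.eqA ▸ hx)
    have he : ∀ {Y : Subgroup P} {aY cY : P} {eY fY : V} {φY ψY : V →+ ZMod 2},
        TD p V (T : Subgroup P) Y aY cY eY fY φY ψY → Y ∈ offs p V (T : Subgroup P) →
        φX eY = 0 ∧ φY eX = 0 := by
      intro Y aY cY eY fY φY ψY hY hYm
      rcases eq_or_ne Y X with rfl | hne
      · have hax : aY = a := by
          have h1 : aY ∈ zpowers a := hX'.eqA ▸ (hY.eqA.symm ▸ mem_zpowers aY : aY ∈ Y)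
          obtain ⟨n, hn⟩ := h1
          have ha2 : a ^ (2 : ℕ) = 1 := by
            have := hYm.1.1.2.2.1 a (hX'.eqA.symm ▸ mem_zpowers a : a ∈ Y)
            rwa [hp] at this
          rcases Int.even_or_odd n with ⟨k, rfl⟩ | ⟨k, rfl⟩
          · exfalso
            have : aY = 1 := by
              rw [← hn]
              show a ^ (k + k) = 1
              rw [← two_mul, zpow_mul, show a ^ (2 : ℤ) = 1 by exact_mod_cast ha2, one_zpow]
            exact hYm.1.1.1 (by rw [hY.eqA, this, zpowers_one_eq_bot])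
          · rw [← hn]
            show a ^ (2 * k + 1) = a
            rw [zpow_add, zpow_mul, show a ^ (2 : ℤ) = 1 by exact_mod_cast ha2, one_zpow, one_mul, zpow_one]
        subst hax
        have e1 := hY.tva fX
        rw [hX'.tva fX, hX'.φf, sm_one] at e1
        have hee : eX = eY := by
          rcases eq_or_ne (φY fX) 0 with e0 | e0
          · rw [e0, sm_zero, add_zero, add_eq_left] at e1
            exact absurd e1 fun e => by simpa [e] using hX'.ψe
          · rw [eq_one_of_ne e0, sm_one, add_right_inj] at e1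
            exact e1
        exact ⟨hee ▸ hX'.φe, hee ▸ hY.φe⟩
      · exact ⟨(hY.cross hs hm hX' hYm hX hne.symm).1, (hX'.cross hs hm hY hX hYm hne).1⟩
    refine hX'.tva.commute t8 hs.faith ?_ ?_
    · rw [eΦ, (he h₁ hA₁).2, (he h₂ hA₂).2, (he h₃ hA₃).2]; simp
    · rw [eF, map_add, map_add, (he h₁ hA₁).1, (he h₂ hA₂).1, (he h₃ hA₃).1]; simp
  have hgJ : zpowers g8 ≤ normalizer (J : Set P) := zpowers_le.mpr (mem_normalizer_of_le (by
    rintro _ ⟨x, hx, rfl⟩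
    show g8 * x * g8⁻¹ ∈ J
    rwa [← mem_centralizer_singleton_iff.mp (hcJ hx), mul_inv_cancel_right]))
  have hX := mem_offs_of_pgroup hs hm m8 ⟨A₁, hA₁⟩
    ((T.2.to_le (sSup_offs_le _ le_rfl)).to_sup_of_normal_left' m8.1.isPGroup hgJ)
  obtain ⟨a, cX, eX, fX, φX, ψX, hX'⟩ := exists_td hs hm hX (hc _ hX)
  have hg8 : g8 ∈ zpowers g8 := mem_zpowers g8
  have key : ∀ {Y : Subgroup P} {aY cY : P} {eY fY : V} {φY ψY : V →+ ZMod 2},
      TD p V (T : Subgroup P) Y aY cY eY fY φY ψY → Y ∈ offs p V (T : Subgroup P) → ψY F = 1 →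
      Y = zpowers g8 := by
    intro Y aY cY eY fY φY ψY hY hYm h1
    by_contra hne
    have hFd : F ∈ disp V (zpowers g8) := by
      have := PMinFF.mem_disp (V := V) hg8 f₁
      rwa [t8 f₁, eΦ, h₁.φf, q12, q13, show (1 : ZMod 2) + 0 + 0 = 1 from rfl, sm_one,
        add_sub_cancel_left] at this
    have := (hY.fix_blk.mp (disp_le_fixS_blk hs hm hYm hX (Ne.symm hne) hFd)).2
    rw [h1] at this
    exact one_ne_zero this
  have k1 : A₁ = zpowers g8 := key h₁ hA₁ (by rw [eF, map_add, map_add, h₁.ψe, r21, r31]; simp)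
  have k2 : A₂ = zpowers g8 := key h₂ hA₂ (by rw [eF, map_add, map_add, h₂.ψe, r12, r32]; simp)
  exact n12 (k1.trans k2.symm)

end family

end Cfsg.Agent.H11.PMinFF
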