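import Cfsg.Agent.H11.PMinFF.Offs

/-!
The blocks of different offenders: decomposition of the module, and commutation when the field has
more than two elements.
-/

set_option autoImplicit false

namespace Cfsg.Agent.H11.PMinFF

open Subgroup Cfsg.Agent.H63 Cfsg.Agent.H31.SL2Pair

universe u v

variable {P : Type u} [Group P] {V : Type v} [AddCommGroup V] [DistribMulAction P V]
variable [Finite P] [Finite V] {p : ℕ}

omit [Finite P] [Finite V] in
theorem nsmul_of_smul_sub {h : P} {v k : V} (he : h • v - v = k) (hk : h • k = k) (n : ℕ) :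
    h ^ n • v = v + n • k := by
  induction n with
  | zero => simp
  | succ n ih =>
    rw [pow_succ', mul_smul, ih, smul_add, smul_comm h n k, hk, succ_nsmul, ← he]
    abel

/-- An element normalising `L` and trivial modulo `C_V(L)` centralises `L`. -/
theorem PairBase.comm_of_trivOn {M B L : Subgroup P} (d : PairBase p V M B L) {a : P}
    (ha : a ∈ normalizer (L : Set P)) (haZ : a ∈ trivOn P (fixS V L)) {g : P} (hg : g ∈ L) :
    g * a = a * g := by
  have h1 : g * a * g⁻¹ * a⁻¹ ∈ trivOn P (fixS V L) := by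
    refine mul_mem (fun v => ?_) (inv_mem haZ)
    rw [mul_smul, mul_smul, show g • a • g⁻¹ • v - v = g • (a • g⁻¹ • v - g⁻¹ • v) by
      rw [smul_sub, smul_inv_smul]]
    rw [(haZ (g⁻¹ • v)) g hg]
    exact haZ _
  have h2 : g * a * g⁻¹ * a⁻¹ ∈ L := by
    rw [show g * a * g⁻¹ * a⁻¹ = g * (a * g⁻¹ * a⁻¹) by group]
    exact mul_mem hg ((mem_normalizer_iff.mp ha _).mp (inv_mem hg))
  have h3 := mul_inv_eq_one.mp (d.eq_one_of_trivial h2 h1)
  exact mul_inv_eq_iff_eq_mul.mp h3

variable [Fact p.Prime] {T : Sylow p P} {M : Subgroup P}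

section family

variable (hs : Setting p V T M) (hm : Moves p V T M)
include hs hm

theorem disp_le_fixS_blk {A B : Subgroup P} (hA : A ∈ offs p V (T : Subgroup P))
    (hB : B ∈ offs p V (T : Subgroup P)) (hne : B ≠ A) :
    disp V B ≤ fixS V (blk p V (T : Subgroup P) A) :=
  (disp_mono ((le_others hB hne).trans (isPair_others hs hm hA).Q_le_rx)).trans (block_blk hs hm hA).rx_disp

theorem dispBlk_le_fixS {A B : Subgroup P} (hA : A ∈ offs p V (T : Subgroup P))
    (hB : B ∈ offs p V (T : Subgroup P)) (hne : B ≠ A) :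
    disp V (blk p V (T : Subgroup P) A) ≤ fixS V B :=
  (block_blk hs hm hA).rx_fix.trans
    (fixS_anti ((le_others hB hne).trans (isPair_others hs hm hA).Q_le_rx))

theorem blk_comm_offs {A B : Subgroup P} (hA : A ∈ offs p V (T : Subgroup P))
    (hB : B ∈ offs p V (T : Subgroup P)) (hne : B ≠ A) {g b : P}
    (hg : g ∈ blk p V (T : Subgroup P) A) (hb : b ∈ B) : b * g = g * b :=
  (block_blk hs hm hA).rx_comm b ((isPair_others hs hm hA).Q_le_rx (le_others hB hne hb)) g hg

omit hs hm [Finite P] [Finite V] [Fact p.Prime] in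
theorem cnj_blk (A : Subgroup P) {t : P} (ht : t ∈ (T : Subgroup P)) :
    cnj (blk p V (T : Subgroup P) A) t = blk p V (T : Subgroup P) (cnj A t) := by
  have key : ∀ (A : Subgroup P) (t : P), t ∈ (T : Subgroup P) →
      cnj (blk p V (T : Subgroup P) A) t ≤ blk p V (T : Subgroup P) (cnj A t) := by
    intro A t ht
    rw [cnj_le_iff, blk]
    refine iSup_le fun x => ?_
    rw [← cnj_le_iff, cnj_cnj]
    have hx : t * (x : P) * t⁻¹ ∈ normalizer (others p V (T : Subgroup P) (cnj A t) : Set P) := by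
      rw [← cnj_others ht, ← cnj_normalizer]
      exact conj_mem_cnj t x.2
    refine le_trans (le_of_eq ?_)
      (le_iSup (fun y : normalizer (others p V (T : Subgroup P) (cnj A t) : Set P) => cnj (cnj A t) y)
        ⟨_, hx⟩)
    rw [cnj_cnj]; congr 1; group
  refine le_antisymm (key A t ht) ?_
  have := cnj_mono (key (cnj A t) t⁻¹ (inv_mem ht)) t
  rwa [cnj_cnj_inv, cnj_inv_cnj] at this

omit hm in
theorem sup_blk_eq_top (hm : Moves p V T M) (hne : (offs p V (T : Subgroup P)).Nonempty) :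
    (⨆ A : ↥(offs p V (T : Subgroup P)), blk p V (T : Subgroup P) A) ⊔ (T : Subgroup P) = ⊤ := by
  by_contra h
  obtain ⟨A, hA⟩ := hne
  refine (block_blk hs hm hA).notM (le_trans ?_ (hs.above _ le_sup_right h))
  exact (le_iSup (fun A : ↥(offs p V (T : Subgroup P)) => blk p V (T : Subgroup P) A) ⟨A, hA⟩).trans le_sup_left

/-- Every vector is a sum of block displacements and a vector fixed by all blocks. -/
theorem exists_sub_mem_fix [Fintype ↥(offs p V (T : Subgroup P))] (v : V) :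
    ∃ u : ↥(offs p V (T : Subgroup P)) → V,
      (∀ A : ↥(offs p V (T : Subgroup P)), u A ∈ disp V (blk p V (T : Subgroup P) A)) ∧
      ∀ A : ↥(offs p V (T : Subgroup P)), v - ∑ B, u B ∈ fixS V (blk p V (T : Subgroup P) A) := by
  classical
  have h1 : ∀ A : ↥(offs p V (T : Subgroup P)), ∃ w ∈ disp V (blk p V (T : Subgroup P) A),
      v - w ∈ fixS V (blk p V (T : Subgroup P) A) := fun A => by
    obtain ⟨w, hw, z, hz, e⟩ :=
      AddSubgroup.mem_sup.mp ((block_blk hs hm A.2).disp_sup_fix ▸ AddSubgroup.mem_top v)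
    exact ⟨w, hw, by rwa [← e, add_sub_cancel_left]⟩
  choose w hw hwz using h1
  have h2 : ∀ A : ↥(offs p V (T : Subgroup P)), ∃ x ∈ disp V (A : Subgroup P),
      v - ∑ B, w B - x ∈ fixS V (blk p V (T : Subgroup P) A) := fun A => by
    have hc : v - ∑ B, w B ∈ fixS V (A : Subgroup P) := by
      rw [← Finset.add_sum_erase _ _ (Finset.mem_univ A), sub_add_eq_sub_sub]
      refine sub_mem ((block_blk hs hm A.2).fixL_le (hwz A)) (sum_mem fun B hB => ?_)
      exact dispBlk_le_fixS hs hm B.2 A.2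
        (fun e => (Finset.mem_erase.mp hB).1 (Subtype.ext e.symm)) (hw B)
    rw [(block_blk hs hm A.2).fix_eq] at hc
    obtain ⟨x, hx, z, hz, e⟩ := AddSubgroup.mem_sup.mp hc
    exact ⟨x, hx, by rwa [← e, add_sub_cancel_left]⟩
  choose x hx hxz using h2
  refine ⟨fun A => w A + x A, fun A => add_mem (hw A) (disp_mono (block_blk hs hm A.2).leL (hx A)),
    fun A => ?_⟩
  rw [Finset.sum_add_distrib,
    ← Finset.add_sum_erase _ x (Finset.mem_univ A), sub_add_eq_sub_sub, sub_add_eq_sub_sub]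
  refine sub_mem (hxz A) (sum_mem fun B hB => ?_)
  exact disp_le_fixS_blk hs hm A.2 B.2 (fun e => (Finset.mem_erase.mp hB).1 (Subtype.ext e)) (hx B)

/-- A torus element of a block with at least three points in the field. -/
theorem exists_torus {A : Subgroup P} (hA : A ∈ offs p V (T : Subgroup P)) (hq : 3 ≤ Nat.card A) :
    ∃ h ∈ blk p V (T : Subgroup P) A, h ∈ M ∧ h ^ (Nat.card A - 1) = 1 ∧
      ∀ v : V, h • v - v ∈ fixS V (blk p V (T : Subgroup P) A) →
        v ∈ fixS V (blk p V (T : Subgroup P) A) := by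
  classical
  have d := (block_blk hs hm hA).toPairBase
  set L := blk p V (T : Subgroup P) A
  set C := fixS V A
  set Z := fixS V L
  obtain ⟨F, iF, iFt, e, ψ, hcard, hψs, hψ0, hψe⟩ := d.sl2
  obtain ⟨y, hy, hyM⟩ := SetLike.not_le_iff_exists.mp d.notM
  obtain ⟨a₀, ha₀, ha₀1⟩ := A.bot_or_exists_ne_one.resolve_left hA.1.1.1
  obtain ⟨c, hc, hcZ⟩ : ∃ c ∈ C, c ∉ Z := by
    by_contra hno
    push_neg at hno
    have h1 := AddSubgroup.card_le_of_le (hno : C ≤ Z)
    rw [d.cardC] at h1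
    have h2 : 0 < Nat.card Z := Nat.card_pos
    exact absurd h1 (not_le.mpr (lt_mul_left h2 (by omega)))
  have hyc : y • c ∉ C := fun hC => hcZ (by
    have h1 : y • c ∈ Z := d.inter_mem hy hyM hC (by rwa [inv_smul_smul])
    have := h1 y⁻¹ (inv_mem hy)
    rw [inv_smul_smul] at this
    rwa [this])
  set ea := ((e ⟨a₀, d.leL ha₀⟩ : Matrix.SpecialLinearGroup (Fin 2) F) : Matrix (Fin 2) (Fin 2) F)
  have hmem : ∀ v, v ∈ C ↔ ea.mulVec (ψ v) = ψ v := fun v => by
    rw [← hψe]
    refine ⟨fun hv => by rw [show a₀ • v = v from hv a₀ ha₀], fun h => ?_⟩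
    by_contra hv
    exact ha₀1 (d.nosing a₀ ha₀ v hv ((hψ0 _).mp (by rw [map_sub]; exact sub_eq_zero.mpr h)))
  set u₁ := ψ c with hu₁
  set u₂ := ψ (y • c) with hu₂
  have hu1 : u₁ ≠ 0 := fun h => hcZ ((hψ0 c).mp h)
  have hu2 : ∀ μ : F, u₂ ≠ μ • u₁ := fun μ h => hyc ((hmem _).mpr (by
    rw [← hu₂, h, Matrix.mulVec_smul, (hmem c).mp hc]))
  have hdet : u₁ 0 * u₂ 1 - u₂ 0 * u₁ 1 ≠ 0 := by
    intro h
    rw [sub_eq_zero] at h
    by_cases h0 : u₁ 0 = 0
    · have h1 : u₁ 1 ≠ 0 := fun h1 => hu1 (funext fun i => by fin_cases i <;> assumption)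
      refine hu2 (u₂ 1 / u₁ 1) (funext_iff.mpr (Fin.forall_fin_two.mpr ⟨?_, ?_⟩))
      · rw [h0, zero_mul, eq_comm, mul_eq_zero, or_iff_left h1] at h
        simp [h0, h]
      · simp [h1]
    · refine hu2 (u₂ 0 / u₁ 0) (funext_iff.mpr (Fin.forall_fin_two.mpr ⟨?_, ?_⟩))
      · simp [h0]
      · simp only [Pi.smul_apply, smul_eq_mul]
        rw [div_mul_eq_mul_div, eq_div_iff h0]
        linear_combination h
  set δ := u₁ 0 * u₂ 1 - u₂ 0 * u₁ 1 with hδ
  obtain ⟨l, hl0, hl1⟩ : ∃ l : F, l ≠ 0 ∧ l ≠ 1 := by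
    by_contra hno
    push_neg at hno
    have h1 : (Finset.univ : Finset F) ⊆ {0, 1} := fun l _ => by
      by_cases h : l = 0
      · simp [h]
      · simp [hno l h]
    have h2 := (Finset.card_le_card h1).trans Finset.card_le_two
    rw [Finset.card_univ, hcard] at h2
    omega
  set N : Matrix (Fin 2) (Fin 2) F :=
    !![(l * u₁ 0 * u₂ 1 - l⁻¹ * u₂ 0 * u₁ 1) / δ, (l⁻¹ - l) * u₁ 0 * u₂ 0 / δ;
       (l - l⁻¹) * u₁ 1 * u₂ 1 / δ, (l⁻¹ * u₁ 0 * u₂ 1 - l * u₂ 0 * u₁ 1) / δ] with hN
  have hN1 : N.mulVec u₁ = l • u₁ := by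
    funext i
    fin_cases i <;> simp [hN, Matrix.mulVec, dotProduct, Fin.sum_univ_two] <;> field_simp <;>
      rw [hδ] <;> ring
  have hN2 : N.mulVec u₂ = l⁻¹ • u₂ := by
    funext i
    fin_cases i <;> simp [hN, Matrix.mulVec, dotProduct, Fin.sum_univ_two] <;> field_simp <;>
      rw [hδ] <;> ring
  have hNdet : N.det = 1 := by
    rw [hN, Matrix.det_fin_two_of]
    field_simp
    rw [hδ]
    ring
  obtain ⟨Ns, hNs⟩ : ∃ Ns : Matrix.SpecialLinearGroup (Fin 2) F, (Ns : Matrix (Fin 2) (Fin 2) F) = N :=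
    ⟨⟨N, hNdet⟩, rfl⟩
  set g := e.symm Ns with hg
  have hge : ∀ v, ψ ((g : P) • v) = N.mulVec (ψ v) := fun v => by
    rw [hψe, hg, MulEquiv.apply_symm_apply, hNs]
  have hgc : (g : P) • c ∈ C := (hmem _).mpr (by
    rw [hge, ← hu₁, hN1, Matrix.mulVec_smul, (hmem c).mp hc])
  have hgM : (g : P) ∈ M := by
    by_contra hgM
    have h1 := d.inter_mem g.2 hgM hgc (by rwa [inv_smul_smul])
    have h2 := (hψ0 _).mpr h1
    rw [hge, ← hu₁, hN1, smul_eq_zero] at h2
    exact h2.elim hl0 hu1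
  have hdecomp : ∀ w : Fin 2 → F, ∃ α β : F, w = α • u₁ + β • u₂ := fun w =>
    ⟨(w 0 * u₂ 1 - u₂ 0 * w 1) / δ, (u₁ 0 * w 1 - w 0 * u₁ 1) / δ, funext fun i => by
      fin_cases i <;> simp <;> field_simp <;> rw [hδ] <;> ring⟩
  have hfpf : ∀ v : V, (g : P) • v - v ∈ Z → v ∈ Z := by
    intro v hv
    have h1 := (hψ0 _).mpr hv
    rw [map_sub, sub_eq_zero, hge] at h1
    obtain ⟨α, β, hab⟩ := hdecomp (ψ v)
    rw [hab, Matrix.mulVec_add, Matrix.mulVec_smul, Matrix.mulVec_smul, hN1, hN2] at h1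
    have h0 : ((l - 1) * α) • u₁ + ((l⁻¹ - 1) * β) • u₂ = 0 := by
      rw [← sub_eq_zero] at h1
      rw [← h1]
      simp only [smul_smul]
      module
    have hβ : β = 0 := by
      by_contra hβ
      have hl' : l⁻¹ - 1 ≠ 0 := sub_ne_zero.mpr fun h => hl1 (inv_eq_one.mp h)
      refine hu2 (-((l - 1) * α) / ((l⁻¹ - 1) * β)) ?_
      rw [div_eq_inv_mul, ← smul_smul, neg_smul, ← eq_neg_of_add_eq_zero_right h0, inv_smul_smul₀]
      exact mul_ne_zero hl' hβ
    rw [hβ, mul_zero, zero_smul, add_zero, smul_eq_zero, mul_eq_zero] at h0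
    have hα : α = 0 := (h0.resolve_right hu1).resolve_left (sub_ne_zero.mpr hl1)
    exact (hψ0 v).mp (by rw [hab, hα, hβ, zero_smul, zero_smul, add_zero])
  refine ⟨g, g.2, hgM, ?_, hfpf⟩
  have hl : l ^ (Nat.card A - 1) = 1 := by
    rw [← hcard]
    exact FiniteField.pow_card_sub_one_eq_one l hl0
  have hpow : ∀ n : ℕ, (N ^ n).mulVec u₁ = l ^ n • u₁ ∧ (N ^ n).mulVec u₂ = l⁻¹ ^ n • u₂ := by
    intro n
    induction n with
    | zero => simp
    | succ n ih =>
      rw [pow_succ, ← Matrix.mulVec_mulVec, ← Matrix.mulVec_mulVec, hN1, hN2, Matrix.mulVec_smul,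
        Matrix.mulVec_smul, ih.1, ih.2, smul_smul, smul_smul, pow_succ', pow_succ']
      exact ⟨rfl, rfl⟩
  refine d.eq_one_of_trivial (pow_mem g.2 _) fun v => (hψ0 _).mp ?_
  rw [map_sub, sub_eq_zero, show (g : P) ^ (Nat.card A - 1) = ((g ^ (Nat.card A - 1) : L) : P) from
    (SubgroupClass.coe_pow _ _).symm, hψe, map_pow, hg, MulEquiv.apply_symm_apply,
    Matrix.SpecialLinearGroup.coe_pow, hNs]
  obtain ⟨α, β, hab⟩ := hdecomp (ψ v)
  rw [hab, Matrix.mulVec_add, Matrix.mulVec_smul, Matrix.mulVec_smul, (hpow _).1, (hpow _).2, inv_pow,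
    hl, inv_one, one_smul, one_smul]

/-- If the field has more than two elements, `[V, L_A]` is fixed by the other blocks. -/
theorem dispBlk_le_of_three {A B : Subgroup P} (hA : A ∈ offs p V (T : Subgroup P))
    (hq : 3 ≤ Nat.card A) (hB : B ∈ offs p V (T : Subgroup P)) (hne : B ≠ A) :
    disp V (blk p V (T : Subgroup P) A) ≤ fixS V (blk p V (T : Subgroup P) B) := by
  classical
  set LA := blk p V (T : Subgroup P) A
  set LB := blk p V (T : Subgroup P) B
  have dA := block_blk hs hm hA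
  have dB := block_blk hs hm hB
  obtain ⟨h, hh, hhM, hord, hfpf⟩ := exists_torus hs hm hA hq
  have hqp : ∀ k : V, (Nat.card A - 1) • k = 0 → k = 0 := by
    intro k hk
    obtain ⟨m, hmq⟩ := (IsPGroup.iff_card (p := p)).mp hA.1.1.isPGroup
    have hq0 : Nat.card A • k = 0 := by
      rw [hmq, show m = (m - 1) + 1 by
        rcases m with - | m
        · rw [hmq, pow_zero] at hq; omega
        · rfl, pow_succ, mul_comm, mul_nsmul, hs.char, smul_zero]
    rw [show Nat.card A = (Nat.card A - 1) + 1 by omega, succ_nsmul, hk, zero_add] at hq0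
    exact hq0
  have hfixX : ∀ X ∈ offs p V (T : Subgroup P), cnj X h = X := by
    intro X hX
    rcases eq_or_ne X A with rfl | hXA
    · exact cnj_eq_self (dA.normB (mem_inf.mpr ⟨dA.leX hh, hhM⟩))
    · refine cnj_eq_self (mem_normalizer_iff.mpr fun x => ?_)
      constructor
      · intro hx
        rw [← blk_comm_offs hs hm hA hX hXA hh hx, mul_inv_cancel_right]
        exact hx
      · intro hx
        have := blk_comm_offs hs hm hA hX hXA hh hx
        rw [show h * x * h⁻¹ * h = h * x by group] at this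
        rw [mul_left_cancel this]
        exact hx
  have hhX : h ∈ normalizer (others p V (T : Subgroup P) B : Set P) := mem_normalizer_of_le (by
    rw [others, cnj_sSup]
    refine sSup_le ?_
    rintro _ ⟨X, hX, rfl⟩
    show cnj X h ≤ _
    rw [hfixX X hX.1]
    exact le_sSup hX)
  have hhN : h ∈ normalizer (LB : Set P) := dB.normal hhX
  have hhZ : h ∈ trivOn P (fixS V LB) := by
    intro v
    set k := h • v - v with hk
    have hkC : k ∈ fixS V B := fun b hb => by
      have hbh : b * h = h * b := blk_comm_offs hs hm hA hB hne hh hb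
      have h1 : h • (b • v - v) = b • v - v := disp_le_fixS_blk hs hm hA hB hne (mem_disp hb v) h hh
      rw [hk, smul_sub, ← mul_smul, hbh, mul_smul, sub_eq_sub_iff_sub_eq_sub, ← smul_sub]
      exact h1
    have hhk : h • k - k ∈ fixS V LB := by
      rw [dB.fix_eq] at hkC
      obtain ⟨x, hx, z, hz, e⟩ := AddSubgroup.mem_sup.mp hkC
      rw [← e, smul_add, disp_le_fixS_blk hs hm hA hB hne hx h hh, add_sub_add_left_eq_sub]
      exact sub_mem (smul_mem_fixS hhN hz) hz
    clear_value k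
    have hpw : ∀ n : ℕ, h ^ n • v - v - n • k ∈ fixS V LB := by
      intro n
      induction n with
      | zero => simp
      | succ n ih =>
        have e : h ^ (n + 1) • v - v - (n + 1) • k =
            h • (h ^ n • v - v - n • k) + n • (h • k - k) := by
          have e0 : h ^ (n + 1) • v - v = h • (h ^ n • v - v) + k := by
            rw [pow_succ', mul_smul, smul_sub, hk]
            abel
          rw [e0, smul_sub h (h ^ n • v - v), smul_comm h n k, nsmul_sub, succ_nsmul]
          abel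
        rw [e]
        exact add_mem (smul_mem_fixS hhN ih) (nsmul_mem hhk n)
    have h0 := hpw (Nat.card A - 1)
    rw [hord, one_smul, sub_self, zero_sub, neg_mem_iff] at h0
    have hZk : Nat.card A • k ∈ fixS V LB := by
      obtain ⟨m, hmq⟩ := (IsPGroup.iff_card (p := p)).mp hA.1.1.isPGroup
      rcases m with - | m
      · rw [hmq, pow_zero] at hq; omega
      · rw [hmq, pow_succ, mul_comm, mul_nsmul, hs.char, smul_zero]
        exact zero_mem _
    rw [show Nat.card A = (Nat.card A - 1) + 1 by omega, succ_nsmul] at hZk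
    simpa using sub_mem hZk h0
  have hcomm : ∀ g ∈ LB, g * h = h * g := fun g hg => dB.comm_of_trivOn hhN hhZ hg
  set U := (DistribSMul.toAddMonoidHom V h - AddMonoidHom.id V).range with hU
  have hUW : U ≤ disp V LA := by
    rintro _ ⟨v, rfl⟩
    exact mem_disp hh v
  have hUfix : U ≤ fixS V LB := by
    have hUB : U ≤ fixS V B := hUW.trans (dispBlk_le_fixS hs hm hA hB hne)
    obtain ⟨y, hy, hyM⟩ := SetLike.not_le_iff_exists.mp dB.notM
    intro x hx
    refine dB.inter_mem hy hyM (hUB hx) (hUB ?_)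
    obtain ⟨v, rfl⟩ := hx
    refine ⟨y⁻¹ • v, ?_⟩
    show h • (y⁻¹ • v) - y⁻¹ • v = y⁻¹ • (h • v - v)
    rw [smul_sub, ← mul_smul, ← hcomm _ (inv_mem hy), mul_smul]
  have hinfU : ∀ x ∈ U, x ∈ fixS V LA → x = 0 := by
    rintro _ ⟨v, rfl⟩ hx
    have h1 := nsmul_of_smul_sub (V := V) (h := h) (v := v) rfl (hx h hh) (Nat.card A - 1)
    rw [hord, one_smul, left_eq_add] at h1
    exact hqp _ h1
  have htop : U ⊔ fixS V LA = ⊤ := by
    set f := DistribSMul.toAddMonoidHom V h - AddMonoidHom.id V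
    have hker : f.ker = fixS V LA := le_antisymm
      (fun v hv => hfpf v (by rw [show h • v - v = 0 from hv]; exact zero_mem _))
      (fun v hv => show h • v - v = 0 by rw [hv h hh, sub_self])
    have e1 := AddSubgroup.card_mul_index f.ker
    rw [AddSubgroup.index_ker, hker] at e1
    have e2 := card_sup_inf_add U (fixS V LA)
    have h0 : U ⊓ fixS V LA = ⊥ := (AddSubgroup.eq_bot_iff_forall _).mpr fun x hx =>
      hinfU x (AddSubgroup.mem_inf.mp hx).1 (AddSubgroup.mem_inf.mp hx).2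
    rw [h0, AddSubgroup.card_bot, mul_one] at e2
    refine AddSubgroup.eq_top_of_card_eq _ ?_
    rw [← e2, mul_comm]
    exact e1
  intro w hw
  obtain ⟨u, hu, z, hz, rfl⟩ := AddSubgroup.mem_sup.mp (htop ▸ AddSubgroup.mem_top w)
  refine add_mem (hUfix hu) (disp_le_fixS_blk hs hm hB hA hne.symm (dA.disp_inf_fixL ?_))
  exact AddSubgroup.mem_inf.mpr ⟨by simpa using sub_mem hw (hUW hu), hz⟩

/-- Blocks with orthogonal displacements commute. -/
theorem blk_comm_of_disp_le {A B : Subgroup P} (hA : A ∈ offs p V (T : Subgroup P))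
    (h1 : disp V (blk p V (T : Subgroup P) A) ≤ fixS V (blk p V (T : Subgroup P) B))
    (h2 : disp V (blk p V (T : Subgroup P) B) ≤ fixS V (blk p V (T : Subgroup P) A)) {g g' : P}
    (hg : g ∈ blk p V (T : Subgroup P) A) (hg' : g' ∈ blk p V (T : Subgroup P) B) :
    g * g' = g' * g := by
  have dA := block_blk hs hm hA
  have key : ∀ v : V, (g * g') • v = (g' * g) • v := fun v => by
    obtain ⟨w, hw, z, hz, rfl⟩ := AddSubgroup.mem_sup.mp (dA.disp_sup_fix ▸ AddSubgroup.mem_top v)
    have hz' : g' • z ∈ fixS V (blk p V (T : Subgroup P) A) := by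
      have := add_mem (h2 (mem_disp hg' z)) hz
      rwa [sub_add_cancel] at this
    rw [mul_smul, mul_smul, smul_add, smul_add, smul_add, smul_add, hz g hg, hz' g hg, h1 hw g' hg',
      h1 (dA.smul_mem_dispL hg hw) g' hg']
  refine (inv_mul_eq_one.mp (hs.faith ((g' * g)⁻¹ * (g * g')) fun v => ?_)).symm
  rw [mul_smul, key, ← mul_smul, inv_mul_cancel, one_smul]

end family

end Cfsg.Agent.H11.PMinFF
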