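import Cfsg.Agent.H11.PMinFF.Blocks

/-!
The commutator of two elements of a block inside `M` lies in the offender.
-/

set_option autoImplicit false

namespace Cfsg.Agent.H11.PMinFF

open Subgroup Cfsg.Agent.H63 Cfsg.Agent.H31.SL2Pair

universe u v

variable {P : Type u} [Group P] {V : Type v} [AddCommGroup V] [DistribMulAction P V]
variable [Finite P] [Finite V] {p : ℕ} [Fact p.Prime] {T : Sylow p P} {M : Subgroup P}

theorem comm_mem_offender (hs : Setting p V T M) (hm : Moves p V T M) {B : Subgroup P}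
    (hB : B ∈ offs p V (T : Subgroup P)) {g h : P} (hgL : g ∈ blk p V (T : Subgroup P) B) (hgM : g ∈ M)
    (hhL : h ∈ blk p V (T : Subgroup P) B) (hhM : h ∈ M) : (h * g)⁻¹ * (g * h) ∈ B := by
  classical
  have dB := block_blk hs hm hB
  have d := dB.toPairBase
  set L := blk p V (T : Subgroup P) B
  set C := fixS V B
  set Z := fixS V L
  obtain ⟨F, iF, iFt, e, ψ, hcard, hψs, hψ0, hψe⟩ := d.sl2
  obtain ⟨c, hc, hcZ⟩ : ∃ c ∈ C, c ∉ Z := by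
    by_contra hno
    push_neg at hno
    have h1 := AddSubgroup.card_le_of_le (hno : C ≤ Z)
    rw [d.cardC] at h1
    have h2 : 0 < Nat.card Z := Nat.card_pos
    exact absurd h1 (not_le.mpr (lt_mul_left h2 (two_le hB)))
  obtain ⟨y, hy, hyM⟩ := SetLike.not_le_iff_exists.mp d.notM
  have hyc : y • c ∉ C := fun hC => hcZ (by
    have h1 : y • c ∈ Z := d.inter_mem hy hyM hC (by rwa [inv_smul_smul])
    have := h1 y⁻¹ (inv_mem hy)
    rw [inv_smul_smul] at this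
    rwa [this])
  set u₁ := ψ c
  set u₂ := ψ (y • c)
  obtain ⟨a₀, ha₀, ha₀1⟩ := B.bot_or_exists_ne_one.resolve_left hB.1.1.1
  set ea := ((e ⟨a₀, d.leL ha₀⟩ : Matrix.SpecialLinearGroup (Fin 2) F) : Matrix (Fin 2) (Fin 2) F)
  have hmem : ∀ v, v ∈ C ↔ ea.mulVec (ψ v) = ψ v := fun v => by
    rw [← hψe]
    refine ⟨fun hv => by rw [show a₀ • v = v from hv a₀ ha₀], fun h => ?_⟩
    by_contra hv
    exact ha₀1 (d.nosing a₀ ha₀ v hv ((hψ0 _).mp (by rw [map_sub]; exact sub_eq_zero.mpr h)))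
  have hea : ea.mulVec u₁ = u₁ := (hmem c).mp hc
  have hu1 : u₁ ≠ 0 := fun h => hcZ ((hψ0 c).mp h)
  have hu2 : ∀ μ : F, u₂ ≠ μ • u₁ := fun μ hμ => hyc ((hmem _).mpr (by
    show ea.mulVec u₂ = u₂
    rw [hμ, Matrix.mulVec_smul, hea]))
  have hdet : u₁ 0 * u₂ 1 - u₂ 0 * u₁ 1 ≠ 0 := by
    intro hd
    rw [sub_eq_zero] at hd
    by_cases h0 : u₁ 0 = 0
    · have h1 : u₁ 1 ≠ 0 := fun h1 => hu1 (funext_iff.mpr (Fin.forall_fin_two.mpr ⟨h0, h1⟩))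
      refine hu2 (u₂ 1 / u₁ 1) (funext_iff.mpr (Fin.forall_fin_two.mpr ⟨?_, ?_⟩))
      · rw [h0, zero_mul, eq_comm, mul_eq_zero, or_iff_left h1] at hd
        simp [h0, hd]
      · simp [h1]
    · refine hu2 (u₂ 0 / u₁ 0) (funext_iff.mpr (Fin.forall_fin_two.mpr ⟨?_, ?_⟩))
      · simp [h0]
      · simp only [Pi.smul_apply, smul_eq_mul]
        rw [div_mul_eq_mul_div, eq_div_iff h0]
        linear_combination hd
  set δ := u₁ 0 * u₂ 1 - u₂ 0 * u₁ 1 with hδ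
  have hdec : ∀ w : Fin 2 → F, ∃ α β : F, w = α • u₁ + β • u₂ := fun w =>
    ⟨(w 0 * u₂ 1 - u₂ 0 * w 1) / δ, (u₁ 0 * w 1 - w 0 * u₁ 1) / δ, funext fun i => by
      fin_cases i <;> simp <;> field_simp <;> rw [hδ] <;> ring⟩
  have hline : ∀ v ∈ C, ∃ μ : F, ψ v = μ • u₁ := fun v hv => by
    obtain ⟨α, β, hab⟩ := hdec (ψ v)
    have h1 := (hmem v).mp hv
    rw [hab, Matrix.mulVec_add, Matrix.mulVec_smul, Matrix.mulVec_smul, hea, add_right_inj] at h1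
    rcases eq_or_ne β 0 with rfl | hβ
    · exact ⟨α, by rw [hab, zero_smul, add_zero]⟩
    · exact absurd ((hmem _).mpr (smul_right_injective _ hβ h1)) hyc
  have hC : ∀ {x}, x ∈ L → x ∈ M → x • c ∈ C := fun hx hxM =>
    smul_mem_fixS (dB.normB (mem_inf.mpr ⟨dB.leX hx, hxM⟩)) hc
  obtain ⟨μ, hμ⟩ := hline _ (hC hgL hgM)
  obtain ⟨ν, hν⟩ := hline _ (hC hhL hhM)
  set k := (h * g)⁻¹ * (g * h) with hk
  have hkL : k ∈ L := mul_mem (inv_mem (mul_mem hhL hgL)) (mul_mem hgL hhL)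
  have hscal : ∀ (x : P) (hx : x ∈ L) (t : F) (w : V), ψ w = t • u₁ → ψ (x • w) = t • ψ (x • c) :=
    fun x hx t w hw => by rw [hψe ⟨x, hx⟩, hw, Matrix.mulVec_smul, ← hψe ⟨x, hx⟩]
  have hgh : ψ ((g * h) • c) = ψ ((h * g) • c) := by
    rw [mul_smul, mul_smul, hscal g hgL ν _ hν, hscal h hhL μ _ hμ, hμ, hν, smul_comm]
  have hkc : ψ (k • c) = u₁ := by
    rw [hk, mul_smul, hψe ⟨_, inv_mem (mul_mem hhL hgL)⟩, hgh,
      ← hψe ⟨(h * g)⁻¹, inv_mem (mul_mem hhL hgL)⟩, inv_smul_smul]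
  set K := ((e ⟨k, hkL⟩ : Matrix.SpecialLinearGroup (Fin 2) F) : Matrix (Fin 2) (Fin 2) F)
  have hK1 : K.mulVec u₁ = u₁ := by rw [← hψe]; exact hkc
  obtain ⟨α, β, hab⟩ := hdec (ψ (k • y • c))
  have hK2 : K.mulVec u₂ = α • u₁ + β • u₂ := by rw [← hψe]; exact hab
  have hβ : β = 1 := by
    have hdetK : K.det = 1 := (e ⟨k, hkL⟩).2
    rw [Matrix.det_fin_two] at hdetK
    have e10 := congrFun hK1 0
    have e11 := congrFun hK1 1
    have e20 := congrFun hK2 0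
    have e21 := congrFun hK2 1
    simp [Matrix.mulVec, dotProduct, Fin.sum_univ_two] at e10 e11 e20 e21
    refine mul_right_cancel₀ hdet ?_
    rw [one_mul]
    calc β * δ = u₁ 0 * (α * u₁ 1 + β * u₂ 1) - (α * u₁ 0 + β * u₂ 0) * u₁ 1 := by rw [hδ]; ring
      _ = (K 0 0 * u₁ 0 + K 0 1 * u₁ 1) * (K 1 0 * u₂ 0 + K 1 1 * u₂ 1) -
          (K 0 0 * u₂ 0 + K 0 1 * u₂ 1) * (K 1 0 * u₁ 0 + K 1 1 * u₁ 1) := by rw [e10, e11, e20, e21]
      _ = (K 0 0 * K 1 1 - K 0 1 * K 1 0) * (u₁ 0 * u₂ 1 - u₂ 0 * u₁ 1) := by ring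
      _ = δ := by rw [hdetK, one_mul]
  rw [hβ, one_smul] at hab
  have hd : k • y • c - y • c ∈ C := (hmem _).mpr (by
    rw [map_sub, hab]
    show ea.mulVec (α • u₁ + u₂ - u₂) = α • u₁ + u₂ - u₂
    rw [add_sub_cancel_right, Matrix.mulVec_smul, hea])
  obtain ⟨b, hb, hbd⟩ := d.diff_surj hyc hd
  suffices hm1 : b⁻¹ * k = 1 from inv_mul_eq_one.mp hm1 ▸ hb
  have hbL : b⁻¹ ∈ L := inv_mem (d.leL hb)
  refine d.eq_one_of_trivial (mul_mem hbL hkL) fun v => (hψ0 _).mp ?_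
  obtain ⟨α', β', hv⟩ := hdec (ψ v)
  set N := ((e ⟨b⁻¹ * k, mul_mem hbL hkL⟩ : Matrix.SpecialLinearGroup (Fin 2) F) : Matrix (Fin 2) (Fin 2) F)
  have hN1 : N.mulVec u₁ = u₁ := by
    rw [← hψe]
    show ψ ((b⁻¹ * k) • c) = _
    rw [mul_smul, hψe ⟨b⁻¹, hbL⟩, hkc, ← hψe ⟨b⁻¹, hbL⟩]
    show ψ (b⁻¹ • c) = ψ c
    rw [hc _ (inv_mem hb)]
  have hN2 : N.mulVec u₂ = u₂ := by
    rw [← hψe]
    show ψ ((b⁻¹ * k) • y • c) = _
    rw [← sub_eq_zero, ← map_sub]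
    refine (hψ0 _).mpr ?_
    have e1 : (b⁻¹ * k) • y • c - y • c = b⁻¹ • ((k • y • c - y • c) - (b • y • c - y • c)) := by
      rw [mul_smul, smul_sub, smul_sub, smul_sub, inv_smul_smul]; abel
    rw [e1, hbd b⁻¹ hbL]
    exact hbd
  rw [map_sub, hψe ⟨b⁻¹ * k, mul_mem hbL hkL⟩, hv, Matrix.mulVec_add, Matrix.mulVec_smul,
    Matrix.mulVec_smul, hN1, hN2, sub_self]

end Cfsg.Agent.H11.PMinFF
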