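import Cfsg.Agent.H11.PMinFF.Module
import Cfsg.Agent.H11.PMinFF.Torus

/-!
The fixed points of a Sylow subgroup on an FF-module of a p-minimal group are moved.
-/

set_option autoImplicit false

namespace Cfsg.Agent.H11.PMinFF

open Subgroup Cfsg.Agent.H63 Cfsg.Agent.H31.SL2Pair

universe u v

variable {P : Type u} [Group P] [Finite P] {p : ℕ} [Fact p.Prime] {T : Sylow p P} {M : Subgroup P}

theorem coprime_nsmul {V : Type v} [AddCommGroup V] (hV : ∀ v : V, p • v = 0) {n : ℕ} (hn : n.Coprime p)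
    {k : V} (h : n • k = 0) : k = 0 :=
  AddMonoid.addOrderOf_eq_one_iff.mp
    (Nat.eq_one_of_dvd_coprimes hn (addOrderOf_dvd_of_nsmul_eq_zero h) (addOrderOf_dvd_of_nsmul_eq_zero (hV k)))

/-- A lifting family: in the preimage of the offender lines, canonical vectors off the fixed spaces. -/
structure LiftFamily {V V' : Type v} [AddCommGroup V] [DistribMulAction P V] [AddCommGroup V']
    [DistribMulAction P V'] (π : V →+ V') (p : ℕ) (T : Subgroup P)
    (S : Subgroup P → AddSubgroup V) : Prop where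
  image : ∀ B ∈ offs p V' T, ∀ s ∈ S B, π s ∈ disp V' B
  sep : ∀ B ∈ offs p V' T, ∀ s ∈ S B, π s ∈ fixS V' (blk p V' T B) → s = 0
  equi : ∀ B ∈ offs p V' T, ∀ t ∈ T, ∀ s ∈ S B, t • s ∈ S (cnj B t)
  ne : ∀ B ∈ offs p V' T, ∃ s ∈ S B, s ≠ 0

variable {V V' : Type v} [AddCommGroup V] [DistribMulAction P V] [Finite V] [AddCommGroup V']
  [DistribMulAction P V'] [Finite V'] {π : V →+ V'}

theorem exists_moved_of_family (hs' : Setting p V' T M) (hm' : Moves p V' T M)
    (hV : ∀ v : V, p • v = 0) (hπ : ∀ (g : P) (v : V), π (g • v) = g • π v)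
    (hne : (offs p V' (T : Subgroup P)).Nonempty) {S : Subgroup P → AddSubgroup V}
    (hS : LiftFamily π p (T : Subgroup P) S) :
    ∃ x ∈ fixS V (T : Subgroup P), ∃ g : P, g • x ≠ x := by
  classical
  haveI : Fintype ↥(offs p V' (T : Subgroup P)) := Fintype.ofFinite _
  set SS : AddSubgroup V := ⨆ B : ↥(offs p V' (T : Subgroup P)), S B with hSS
  have hrep : ∀ x ∈ SS, ∃ s : ↥(offs p V' (T : Subgroup P)) → V, (∀ B : ↥(offs p V' (T : Subgroup P)), s B ∈ S B) ∧ x = ∑ B, s B := by
    intro x hx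
    induction hx using AddSubgroup.iSup_induction' with
    | hp B x hx =>
      refine ⟨Pi.single B x, fun B' => ?_, by simp⟩
      rcases eq_or_ne B' B with rfl | h
      · simpa using hx
      · simp [Pi.single_eq_of_ne h]
    | h1 => exact ⟨0, fun B => zero_mem _, by simp⟩
    | hadd x y _ _ hx hy =>
      obtain ⟨s, hs, rfl⟩ := hx
      obtain ⟨s', hs', rfl⟩ := hy
      exact ⟨s + s', fun B => add_mem (hs B) (hs' B), Finset.sum_add_distrib.symm⟩
  have hinv : ∀ g ∈ (T : Subgroup P), ∀ v ∈ SS, g • v ∈ SS := by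
    intro g hg v hv
    obtain ⟨s, hs, rfl⟩ := hrep v hv
    rw [Finset.smul_sum]
    exact sum_mem fun B _ => AddSubgroup.mem_iSup_of_mem
      (⟨cnj B g, cnj_mem_offs B.2 hg⟩ : ↥(offs p V' (T : Subgroup P))) (hS.equi B B.2 g hg _ (hs B))
  obtain ⟨B₀, hB₀⟩ := hne
  obtain ⟨s₀, hs₀, hs₀0⟩ := hS.ne B₀ hB₀
  obtain ⟨x, hx, hx0, hxT⟩ := exists_fixed_ne_zero T.2 hV hinv
    (AddSubgroup.mem_iSup_of_mem (⟨B₀, hB₀⟩ : ↥(offs p V' (T : Subgroup P))) hs₀) hs₀0
  refine ⟨x, hxT, ?_⟩
  by_contra hno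
  push_neg at hno
  obtain ⟨s, hs, rfl⟩ := hrep x hx
  refine hx0 (Finset.sum_eq_zero fun B _ => hS.sep B B.2 _ (hs B) ?_)
  have h1 : π (∑ B, s B) ∈ fixS V' (blk p V' (T : Subgroup P) B) := fun g _ => by rw [← hπ, hno]
  rw [map_sum, ← Finset.add_sum_erase _ _ (Finset.mem_univ B)] at h1
  have h2 : ∑ x ∈ Finset.univ.erase B, π (s x) ∈ fixS V' (blk p V' (T : Subgroup P) B) :=
    sum_mem fun X hX => disp_le_fixS_blk hs' hm' B.2 X.2
      (fun e => (Finset.mem_erase.mp hX).1 (Subtype.ext e)) (hS.image X X.2 _ (hs X))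
  simpa using sub_mem h1 h2

/-- The canonical lifts when the field has at least three elements. -/
def torusLift (π : V →+ V') (p : ℕ) (T M : Subgroup P) (B : Subgroup P) : AddSubgroup V :=
  AddSubgroup.closure {x | ∃ g, g ∈ blk p V' T B ∧ g ∈ M ∧ g ^ (Nat.card B - 1) = 1 ∧
    ∃ s : V, π s ∈ disp V' B ∧ x = g • s - s}

/-- The canonical lifts when the offenders have order two. -/
def rotLift (π : V →+ V') (p : ℕ) (T : Subgroup P) (B : Subgroup P) : AddSubgroup V :=
  AddSubgroup.closure {x | ∃ a ∈ B, ∃ g, g ∈ blk p V' T B ∧ g ^ 3 = 1 ∧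
    ∃ v : V, x = a • (g • v - v) - (g • v - v)}

theorem torus_family (hs' : Setting p V' T M) (hm' : Moves p V' T M) (hV : ∀ v : V, p • v = 0)
    (hπ : ∀ (g : P) (v : V), π (g • v) = g • π v) (hπs : Function.Surjective π)
    (hker : ∀ v : V, π v = 0 → ∀ g : P, g • v = v)
    (hfix : ∀ B ∈ offs p V' (T : Subgroup P), ∀ s : V, π s ∈ disp V' B → ∀ b ∈ B, b • s = s)
    (hq : ∀ B ∈ offs p V' (T : Subgroup P), 3 ≤ Nat.card B) :
    LiftFamily π p (T : Subgroup P) (torusLift π p (T : Subgroup P) M) := by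
  have hgen : ∀ B ∈ offs p V' (T : Subgroup P), ∀ g, g ∈ blk p V' (T : Subgroup P) B → g ∈ M →
      ∀ s : V, π s ∈ disp V' B → π (g • s) ∈ disp V' B := by
    intro B hB g hg hgM s hs
    rw [hπ]
    have dB := block_blk hs' hm' hB
    exact smul_mem_disp (dB.normB (mem_inf.mpr ⟨dB.leX hg, hgM⟩)) hs
  refine ⟨fun B hB => ?_, fun B hB => ?_, fun B hB t ht => ?_, fun B hB => ?_⟩
  · suffices h : torusLift π p (T : Subgroup P) M B ≤ (disp V' B).comap π from h
    refine (AddSubgroup.closure_le _).mpr ?_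
    rintro _ ⟨g, hg, hgM, -, s, hs, rfl⟩
    rw [SetLike.mem_coe, AddSubgroup.mem_comap, map_sub]
    exact sub_mem (hgen B hB g hg hgM s hs) hs
  · have dB := block_blk hs' hm' hB
    set L := blk p V' (T : Subgroup P) B
    set n := Nat.card B - 1
    have hn : n.Coprime p := by
      obtain ⟨m, hm⟩ := (IsPGroup.iff_card (p := p)).mp hB.1.1.isPGroup
      have h3 := hq B hB
      have hm1 : m ≠ 0 := by rintro rfl; rw [hm, pow_zero] at h3; omega
      have h1 : (Nat.card B - 1).Coprime (Nat.card B) := by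
        have : (Nat.card B - 1).Coprime ((Nat.card B - 1) + 1) :=
          Nat.coprime_self_add_right.mpr (Nat.coprime_one_right _)
        rwa [show Nat.card B - 1 + 1 = Nat.card B by omega] at this
      exact h1.coprime_dvd_right (hm ▸ dvd_pow_self p hm1)
    obtain ⟨h, hh, hhM, hord, hfpf⟩ := exists_torus hs' hm' hB (hq B hB)
    set S : AddSubgroup V := (disp V' B).comap π with hSdef
    set f : S →+ V := (DistribSMul.toAddMonoidHom V h - AddMonoidHom.id V).comp S.subtype with hf
    have hfap : ∀ s : S, f s = h • (s : V) - (s : V) := fun _ => rfl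
    have hrange : ∀ x ∈ f.range, x ∈ S := by
      rintro _ ⟨⟨s, hs⟩, rfl⟩
      rw [hfap]
      exact sub_mem (hgen B hB h hh hhM s hs) hs
    have hzero : ∀ g : P, g ^ n = 1 → ∀ v : V, g • (g • v - v) = g • v - v → g • v = v := by
      intro g hg v hv
      have h1 := nsmul_of_smul_sub (V := V) (h := g) (v := v) rfl hv n
      rw [hg, one_smul, left_eq_add] at h1
      exact sub_eq_zero.mp (coprime_nsmul hV hn h1)
    have hinter : ∀ x ∈ f.range, h • x = x → x = 0 := by
      rintro _ ⟨s, rfl⟩ hx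
      rw [hfap] at hx ⊢
      rw [hzero h hord _ hx, sub_self]
    -- elements fixed by `h` in the preimage are fixed by all torus elements
    have hfixed : ∀ g, g ∈ L → g ∈ M → g ^ n = 1 → ∀ s ∈ S, h • s = s → g • s = s := by
      intro g hg hgM hgn s hs hhs
      have h1 : π s ∈ fixS V' L := hfpf _ (by rw [← hπ, hhs, sub_self]; exact zero_mem _)
      refine hzero g hgn s (hker _ ?_ g)
      rw [map_sub, hπ, h1 g hg, sub_self]
    have hdec : ∀ s ∈ S, ∃ u ∈ f.range, h • (s - u) = s - u := by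
      intro s hs
      let φ : f.range →+ f.range := AddMonoidHom.mk'
        (fun x => ⟨h • (x : V) - x, ⟨⟨x, hrange x x.2⟩, rfl⟩⟩) fun x y => Subtype.ext (by
          show h • ((x : V) + y) - ((x : V) + y) = (h • (x : V) - x) + (h • (y : V) - y)
          rw [smul_add]; abel)
      have hφ : Function.Injective φ := (injective_iff_map_eq_zero φ).mpr fun x hx =>
        Subtype.ext (hinter x x.2 (sub_eq_zero.mp (congrArg Subtype.val hx)))
      obtain ⟨u, hu⟩ := hφ.bijective_of_finite.2 ⟨h • s - s, ⟨⟨s, hs⟩, rfl⟩⟩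
      refine ⟨u, u.2, ?_⟩
      rw [smul_sub, sub_eq_sub_iff_sub_eq_sub]
      exact (congrArg Subtype.val hu).symm
    have hsub : torusLift π p (T : Subgroup P) M B ≤ f.range := by
      refine (AddSubgroup.closure_le _).mpr ?_
      rintro _ ⟨g, hg, hgM, hgn, s, hs, rfl⟩
      obtain ⟨u, hu, hus⟩ := hdec s hs
      have hfx : g • (s - u) = s - u := hfixed g hg hgM hgn _ (sub_mem hs (hrange u hu)) hus
      have hgu : g • u ∈ f.range := by
        obtain ⟨⟨s', hmem'⟩, rfl⟩ := hu
        refine ⟨⟨g • s', hgen B hB g hg hgM s' hmem'⟩, ?_⟩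
        rw [hfap, hfap]
        show h • g • s' - g • s' = g • (h • s' - s')
        rw [smul_sub, ← mul_smul, ← mul_smul]
        congr 1
        have hk := comm_mem_offender hs' hm' hB hg hgM hh hhM
        have h1 := hfix B hB s' hmem' _ hk
        rw [mul_smul, inv_smul_eq_iff] at h1
        exact h1.symm
      have e : g • s - s = g • u - u := by
        rw [smul_sub, sub_eq_sub_iff_sub_eq_sub] at hfx
        exact hfx
      rw [SetLike.mem_coe, e]
      exact sub_mem hgu hu
    intro x hx hxZ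
    obtain ⟨s, rfl⟩ := hsub hx
    refine hinter _ ⟨s, rfl⟩ ?_
    have h1 : h • π (s : V) - π (s : V) ∈ fixS V' L := by
      rw [hfap, map_sub, hπ] at hxZ; exact hxZ
    have h2 : π (s : V) ∈ fixS V' L := hfpf _ h1
    have h3 : π (f s) = 0 := by rw [hfap, map_sub, hπ, h2 h hh, sub_self]
    exact hker _ h3 h
  · intro s hs
    suffices h : torusLift π p (T : Subgroup P) M B ≤
        (torusLift π p (T : Subgroup P) M (cnj B t)).comap (DistribSMul.toAddMonoidHom V t) from h hs
    refine (AddSubgroup.closure_le _).mpr ?_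
    rintro _ ⟨g, hg, hgM, hgn, w, hw, rfl⟩
    refine AddSubgroup.subset_closure ⟨t * g * t⁻¹, ?_,
      mul_mem (mul_mem (hs'.le ht) hgM) (inv_mem (hs'.le ht)), ?_, t • w, ?_, ?_⟩
    · rw [← cnj_blk B ht]; exact conj_mem_cnj t hg
    · rw [card_cnj, conj_pow, hgn, mul_one, mul_inv_cancel]
    · rw [hπ, disp_cnj]; exact smul_mem_tr hw
    · show t • (g • w - w) = _
      rw [smul_sub, mul_smul, mul_smul, inv_smul_smul]
  · have d := (block_blk hs' hm' hB).toPairBase
    obtain ⟨h, hh, hhM, hord, hfpf⟩ := exists_torus hs' hm' hB (hq B hB)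
    obtain ⟨w, hw, hwZ⟩ : ∃ w ∈ disp V' B, w ∉ fixS V' (blk p V' (T : Subgroup P) B) := by
      by_contra hno
      push_neg at hno
      have hCZ := d.fix_eq
      rw [sup_eq_right.mpr (show disp V' B ≤ fixS V' (blk p V' (T : Subgroup P) B) from hno)] at hCZ
      have := d.cardC
      rw [hCZ] at this
      exact (lt_mul_left (Nat.card_pos (α := fixS V' (blk p V' (T : Subgroup P) B))) (two_le hB)).ne this
    obtain ⟨s, rfl⟩ := hπs w
    refine ⟨h • s - s, AddSubgroup.subset_closure ⟨h, hh, hhM, hord, s, hw, rfl⟩, fun e => hwZ (hfpf _ ?_)⟩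
    rw [← hπ, sub_eq_zero.mp e, sub_self]
    exact zero_mem _

theorem rot_family (hs' : Setting p V' T M) (hm' : Moves p V' T M)
    (hV : ∀ v : V, p • v = 0) (hπ : ∀ (g : P) (v : V), π (g • v) = g • π v) (hπs : Function.Surjective π)
    (hker : ∀ v : V, π v = 0 → ∀ g : P, g • v = v)
    (hq : ∀ B ∈ offs p V' (T : Subgroup P), Nat.card B = 2) :
    LiftFamily π p (T : Subgroup P) (rotLift π p (T : Subgroup P)) := by
  refine ⟨fun B hB => ?_, fun B hB => ?_, fun B hB t ht => ?_, fun B hB => ?_⟩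
  · suffices h : rotLift π p (T : Subgroup P) B ≤ (disp V' B).comap π from h
    refine (AddSubgroup.closure_le _).mpr ?_
    rintro _ ⟨a, ha, g, -, -, v, rfl⟩
    rw [SetLike.mem_coe, AddSubgroup.mem_comap, map_sub, hπ]
    exact mem_disp ha _
  · obtain ⟨a, c, e, f, φ, ψ, h⟩ := exists_td hs' hm' hB (hq B hB)
    have hp := two_eq hs' hB (hq B hB)
    have hself := add_self hs' hp
    have hselfV : ∀ x : V, x + x = 0 := fun x => by rw [← two_nsmul, ← hp]; exact hV x
    have hia := h.tva.inv_eq (hself e) h.φe hs'.faith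
    have hic := h.tvc.inv_eq (hself f) h.ψf hs'.faith
    have haa : a * a = 1 := by nth_rw 2 [← hia]; exact mul_inv_cancel a
    have hcc : c * c = 1 := by nth_rw 2 [← hic]; exact mul_inv_cancel c
    set r := a * c with hr
    have hr3 : r ^ 3 = 1 := hs'.faith _ fun v => by
      rw [pow_succ, pow_two, hr]
      simp only [mul_smul]
      have hta : ∀ w, a • w = w + sm (φ w) e := h.tva
      have htc : ∀ w, c • w = w + sm (ψ w) f := h.tvc
      rcases zmod_two_cases (φ v) with h1 | h1 <;> rcases zmod_two_cases (ψ v) with h2 | h2 <;>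
        simp [hta, htc, h1, h2, h.φe, h.φf, h.ψe, h.ψf, map_add, add_assoc, hself,
          show (1 : ZMod 2) + 1 = 0 from rfl, add_left_comm _ _ v, add_comm _ v]
    have hrinv : a * r * a⁻¹ = r⁻¹ := by
      rw [hia, hr, mul_inv_rev, hia, hic, ← mul_assoc, haa, one_mul]
    have hnr : zpowers a ≤ normalizer (zpowers r : Set P) := zpowers_le.mpr (mem_normalizer_of_le (by
      rw [cnj, MonoidHom.map_zpowers]
      refine zpowers_le.mpr ?_
      show a * r * a⁻¹ ∈ zpowers r
      rw [hrinv]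
      exact inv_mem (mem_zpowers r)))
    have hmem : ∀ g ∈ blk p V' (T : Subgroup P) B, g ^ 3 = 1 → g = 1 ∨ g = r ∨ g = r⁻¹ := by
      intro g hg hg3
      have hle : blk p V' (T : Subgroup P) B ≤ zpowers a ⊔ zpowers r := by
        rw [h.gen]
        refine sup_le le_sup_left (zpowers_le.mpr ?_)
        have : a⁻¹ * r ∈ zpowers a ⊔ zpowers r :=
          mul_mem (mem_sup_left (inv_mem (mem_zpowers a))) (mem_sup_right (mem_zpowers r))
        rwa [hr, inv_mul_cancel_left] at this
      have h1 := hle hg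
      rw [sup_comm, ← SetLike.mem_coe, coe_mul_of_right_le_normalizer_left _ _ hnr, Set.mem_mul] at h1
      obtain ⟨x, hx, z, hz, rfl⟩ := h1
      obtain ⟨n, rfl⟩ := hx
      obtain ⟨m, rfl⟩ := hz
      have hrn : r ^ n = 1 ∨ r ^ n = r ∨ r ^ n = r⁻¹ := by
        have h3 : r ^ (3 : ℤ) = 1 := by exact_mod_cast hr3
        have e : r ^ n = r ^ (n % 3) := by
          conv_lhs => rw [← Int.mul_ediv_add_emod n 3, zpow_add, zpow_mul, h3, one_zpow, one_mul]
        rcases (by omega : n % 3 = 0 ∨ n % 3 = 1 ∨ n % 3 = 2) with h' | h' | h' <;> rw [e, h']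
        · exact Or.inl (zpow_zero r)
        · exact Or.inr (Or.inl (zpow_one r))
        · refine Or.inr (Or.inr (eq_inv_of_mul_eq_one_left ?_))
          rw [← zpow_add_one]; exact h3
      rcases Int.even_or_odd m with ⟨k, rfl⟩ | ⟨k, rfl⟩
      · have : a ^ (k + k) = 1 := by
          rw [← two_mul, zpow_mul, show a ^ (2 : ℤ) = 1 by rw [zpow_two, haa], one_zpow]
        simp only [this, mul_one]
        exact hrn
      · exfalso
        have hm1 : a ^ (2 * k + 1) = a := by
          rw [zpow_add_one, zpow_mul, show a ^ (2 : ℤ) = 1 by rw [zpow_two, haa], one_zpow, one_mul]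
        simp only [hm1] at hg3
        have hinv2 : a * r ^ n * a⁻¹ = (r ^ n)⁻¹ := by
          rw [← conj_zpow, hrinv, inv_zpow]
        have hsq : r ^ n * a * (r ^ n * a) = 1 := by
          calc r ^ n * a * (r ^ n * a) = r ^ n * (a * r ^ n * a⁻¹) * (a * a) := by group
            _ = 1 := by rw [hinv2, mul_inv_cancel, haa, one_mul]
        have h1 : r ^ n * a = 1 := by
          have h' := hg3
          rw [pow_succ, pow_two, hsq, one_mul] at h'
          exact h'
        have ha' : a ∈ zpowers r := by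
          rw [show a = (r ^ n)⁻¹ from (inv_eq_of_mul_eq_one_right h1).symm]
          exact inv_mem ⟨n, rfl⟩
        obtain ⟨j, hj⟩ := ha'
        have ha1 : a = 1 := by
          have h2 : a ^ 3 = 1 := by
            rw [← hj]
            show (r ^ j) ^ 3 = 1
            rw [← zpow_natCast, ← zpow_mul, mul_comm, zpow_mul, zpow_natCast, hr3,
              one_zpow]
          rwa [pow_succ, pow_two, haa, one_mul] at h2
        exact hB.1.1.1 (by rw [h.eqA, ha1, zpowers_one_eq_bot])
    set f₀ : V →+ V := DistribSMul.toAddMonoidHom V r - AddMonoidHom.id V with hf₀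
    have hf₀ap : ∀ v : V, f₀ v = r • v - v := fun _ => rfl
    have hU : ∀ g ∈ blk p V' (T : Subgroup P) B, g ^ 3 = 1 → ∀ v : V, g • v - v ∈ f₀.range := by
      intro g hg hg3 v
      rcases hmem g hg hg3 with rfl | rfl | rfl
      · rw [one_smul, sub_self]; exact zero_mem _
      · exact ⟨v, rfl⟩
      · refine ⟨-(r⁻¹ • v), ?_⟩
        rw [map_neg, hf₀ap, smul_inv_smul]; abel
    set f₁ : f₀.range →+ V := (DistribSMul.toAddMonoidHom V a - AddMonoidHom.id V).comp f₀.range.subtype
    have hsub : rotLift π p (T : Subgroup P) B ≤ f₁.range := by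
      refine (AddSubgroup.closure_le _).mpr ?_
      rintro _ ⟨a', ha', g, hg, hg3, v, rfl⟩
      rw [h.eqA] at ha'
      obtain ⟨m, rfl⟩ := ha'
      rcases Int.even_or_odd m with ⟨k, rfl⟩ | ⟨k, rfl⟩
      · show a ^ (k + k) • _ - _ ∈ f₁.range
        rw [← two_mul, zpow_mul, show a ^ (2 : ℤ) = 1 by rw [zpow_two, haa], one_zpow, one_smul, sub_self]
        exact zero_mem _
      · show a ^ (2 * k + 1) • _ - _ ∈ f₁.range
        rw [zpow_add_one, zpow_mul, show a ^ (2 : ℤ) = 1 by rw [zpow_two, haa], one_zpow, one_mul]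
        exact ⟨⟨_, hU g hg hg3 v⟩, rfl⟩
    intro x hx hxZ
    obtain ⟨u, rfl⟩ := hsub hx
    have hfu : f₁ u = a • (u : V) - u := rfl
    rw [hfu] at hxZ ⊢
    have h1 : π (a • (u : V) - u) = 0 := by
      rw [map_sub, hπ, h.tva, add_sub_cancel_left] at hxZ ⊢
      rcases zmod_two_cases (φ (π (u : V))) with h0 | h0
      · rw [h0, sm_zero]
      · rw [h0, sm_one] at hxZ
        exact absurd (h.fix_blk.mp hxZ).2 (by rw [h.ψe]; decide)
    obtain ⟨w, hw⟩ : a • (u : V) - u ∈ f₀.range := by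
      obtain ⟨v, hv⟩ := u.2
      refine sub_mem ?_ u.2
      rw [← hv, hf₀ap, smul_sub, ← mul_smul]
      refine ⟨-(r⁻¹ • (a • v)), ?_⟩
      rw [map_neg, hf₀ap, smul_inv_smul,
        show a * r = r⁻¹ * a by rw [← hrinv]; group, mul_smul]
      abel
    rw [← hw] at h1 ⊢
    have hfx := hker _ h1 r
    rw [hf₀ap] at hfx ⊢
    have h3 := nsmul_of_smul_sub (V := V) (h := r) (v := w) rfl hfx 3
    rw [hr3, one_smul, left_eq_add] at h3
    exact coprime_nsmul hV (by rw [hp]; decide) h3
  · intro s hs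
    suffices h : rotLift π p (T : Subgroup P) B ≤
        (rotLift π p (T : Subgroup P) (cnj B t)).comap (DistribSMul.toAddMonoidHom V t) from h hs
    refine (AddSubgroup.closure_le _).mpr ?_
    rintro _ ⟨a, ha, g, hg, hg3, v, rfl⟩
    refine AddSubgroup.subset_closure ⟨t * a * t⁻¹, conj_mem_cnj t ha, t * g * t⁻¹, ?_, ?_, t • v, ?_⟩
    · rw [← cnj_blk B ht]; exact conj_mem_cnj t hg
    · rw [conj_pow, hg3, mul_one, mul_inv_cancel]
    · simp only [DistribSMul.toAddMonoidHom_apply, smul_sub, mul_smul, inv_smul_smul]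
  · obtain ⟨a, c, e, f, φ, ψ, h⟩ := exists_td hs' hm' hB (hq B hB)
    have hp := two_eq hs' hB (hq B hB)
    have hself := add_self hs' hp
    obtain ⟨v, hv⟩ := hπs e
    have hr : a * c ∈ blk p V' (T : Subgroup P) B :=
      h.gen ▸ mul_mem (mem_sup_left (mem_zpowers a)) (mem_sup_right (mem_zpowers c))
    have hr3 : (a * c) ^ 3 = 1 := hs'.faith _ fun v => by
      rw [pow_succ, pow_two]
      simp only [mul_smul]
      have hta : ∀ w, a • w = w + sm (φ w) e := h.tva
      have htc : ∀ w, c • w = w + sm (ψ w) f := h.tvc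
      rcases zmod_two_cases (φ v) with h1 | h1 <;> rcases zmod_two_cases (ψ v) with h2 | h2 <;>
        simp [hta, htc, h1, h2, h.φe, h.φf, h.ψe, h.ψf, map_add, add_assoc, hself,
          show (1 : ZMod 2) + 1 = 0 from rfl, add_left_comm _ _ v, add_comm _ v]
    refine ⟨_, AddSubgroup.subset_closure
      ⟨a, h.eqA ▸ mem_zpowers a, a * c, hr, hr3, v, rfl⟩, fun e0 => ?_⟩
    have := congrArg π e0
    rw [map_zero, map_sub, hπ, map_sub, hπ, hv, h.tva, add_sub_cancel_left] at this
    have hφ : φ ((a * c) • e - e) = 1 := by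
      rw [map_sub, h.φe, sub_zero, mul_smul, h.tvc, h.ψe, sm_one, h.tva, map_add, map_add, h.φe, h.φf,
        zero_add, sm_one, h.φe, add_zero]
    rw [hφ, sm_one] at this
    exact absurd (show ψ e = 0 by rw [this, map_zero]) (by rw [h.ψe]; decide)

end Cfsg.Agent.H11.PMinFF
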