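import Cfsg.Agent.H11.PMinFF.Blocks

/-!
Every elementary abelian subgroup of `T` realises at most the order of the module, and those
realising it lie in the join of the minimal offenders.
-/

set_option autoImplicit false

namespace Cfsg.Agent.H11.PMinFF

open Subgroup Cfsg.Agent.H63 Cfsg.Agent.H31.SL2Pair

universe u v

variable {P : Type u} [Group P] {V : Type v} [AddCommGroup V] [DistribMulAction P V]
variable [Finite P] [Finite V] {p : ℕ} [Fact p.Prime] {T : Sylow p P} {M : Subgroup P}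

/-- The elements of `A` centralising `L`. -/
def centIn (A L : Subgroup P) : Subgroup P := A ⊓ centralizer (L : Set P)

section family

variable (hs : Setting p V T M) (hm : Moves p V T M)
include hs hm

theorem strip {A B : Subgroup P} (hAT : A ≤ (T : Subgroup P))
    (hcomm : ∀ a ∈ A, ∀ b ∈ A, a * b = b * a) (hB : B ∈ offs p V (T : Subgroup P)) (hBA : B ≤ A) :
    let A₁ := centIn A (blk p V (T : Subgroup P) B)
    (∀ a ∈ A, ∃ b ∈ B, b⁻¹ * a ∈ A₁) ∧ A₁ ≠ A ∧ Nat.card A ≤ Nat.card B * Nat.card A₁ ∧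
      Nat.card B * Nat.card (fixS V A) ≤ Nat.card (fixS V A₁) := by
  intro A₁
  classical
  have dB := block_blk hs hm hB
  have d := dB.toPairBase
  set L := blk p V (T : Subgroup P) B
  set C := fixS V B
  set Z := fixS V L
  set W := disp V L
  obtain ⟨c₀, hc₀, g₀, hg₀, hc₀g⟩ := hm.exists_fix hs T.2 hs.le d.notM
  have hc₀Z : c₀ ∉ Z := fun h => hc₀g (h g₀ hg₀)
  have hc₀C : c₀ ∈ C := fixS_anti hB.2 hc₀
  have hAX : A ≤ normalizer (others p V (T : Subgroup P) B : Set P) := fun a ha =>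
    mem_normalizer_of_le (by
      have haB : cnj B a = B := cnj_eq_self (mem_normalizer_iff.mpr fun x => by
        constructor
        · intro hx
          rw [hcomm a ha x (hBA hx), mul_inv_cancel_right]; exact hx
        · intro hx
          have hxA : x ∈ A := by
            have := mul_mem (mul_mem (inv_mem ha) (hBA hx)) ha
            rwa [show a⁻¹ * (a * x * a⁻¹) * a = x by group] at this
          rwa [hcomm a ha x hxA, mul_inv_cancel_right] at hx)
      rw [others, cnj_sSup]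
      refine sSup_le ?_
      rintro _ ⟨X, hX, rfl⟩
      exact le_sSup ⟨cnj_mem_offs hX.1 (hAT ha),
        fun e => hX.2 (cnj_injective a ((Set.mem_singleton_iff.mp e).trans haB.symm))⟩)
  have hAL : A ≤ normalizer (L : Set P) := fun a ha => dB.normal (hAX ha)
  have hAVC : ∀ a ∈ A, ∀ v : V, a • v - v ∈ C := by
    intro a ha v
    by_cases hv : v ∈ C
    · exact sub_mem (smul_mem_fixS (dB.normB (mem_inf.mpr ⟨hAX ha, hs.le (hAT ha)⟩)) hv) hv
    obtain ⟨b, hb, hbc⟩ := d.diff_surj hv hc₀C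
    by_contra hne
    have hb1 : b = 1 := by
      refine d.nosing b hb _ hne ?_
      have e : b • (a • v - v) - (a • v - v) = (c₀ - (b • v - v)) - a • (c₀ - (b • v - v)) := by
        rw [smul_sub, smul_sub, smul_sub, hc₀ a (hAT ha), ← mul_smul, ← mul_smul,
          hcomm b (hBA hb) a ha]
        abel
      rw [e]
      exact sub_mem hbc (smul_mem_fixS (hAL ha) hbc)
    rw [hb1, one_smul, sub_self, sub_zero] at hbc
    exact hc₀Z hbc
  obtain ⟨y, hy, hyM⟩ := SetLike.not_le_iff_exists.mp d.notM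
  have hyc : y • c₀ ∉ C := fun h => hc₀Z (by
    have h1 : y • c₀ ∈ Z := d.inter_mem hy hyM h (by rwa [inv_smul_smul])
    have h2 := h1 y⁻¹ (inv_mem hy)
    rw [inv_smul_smul] at h2
    rwa [h2])
  set v₀ := y • c₀
  have hsplit : ∀ a ∈ A, ∃ b ∈ B, b⁻¹ * a ∈ A₁ := by
    intro a ha
    obtain ⟨b, hb, hbv⟩ := d.diff_surj hyc (hAVC a ha v₀)
    refine ⟨b, hb, ?_⟩
    have ha' : b⁻¹ * a ∈ A := mul_mem (inv_mem (hBA hb)) ha
    set a' := b⁻¹ * a with ha'def
    have hv₀ : a' • v₀ - v₀ ∈ Z := by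
      have e : a' • v₀ - v₀ = b⁻¹ • ((a • v₀ - v₀) - (b • v₀ - v₀)) := by
        rw [ha'def, mul_smul, smul_sub, smul_sub, smul_sub, inv_smul_smul]; abel
      rw [e, hbv b⁻¹ (d.leL (inv_mem hb))]
      exact hbv
    have hCZ : ∀ c ∈ C, a' • c - c ∈ Z := by
      intro c hc
      obtain ⟨b', hb', hbc⟩ := d.diff_surj hyc hc
      have hfix : b' • (a' • v₀ - v₀) - (a' • v₀ - v₀) = 0 :=
        sub_eq_zero.mpr (d.fixL_le hv₀ b' hb')
      have e : a' • c - c = (a' • (c - (b' • v₀ - v₀)) - (c - (b' • v₀ - v₀))) +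
          (b' • (a' • v₀ - v₀) - (a' • v₀ - v₀)) := by
        simp only [smul_sub, ← mul_smul, hcomm b' (hBA hb') a' ha']
        abel
      rw [e, hfix, add_zero]
      exact sub_mem (smul_mem_fixS (hAL ha') hbc) hbc
    have hline : ∀ w, y⁻¹ • w ∈ C → a' • w - w ∈ Z := by
      intro w hw
      set y' := a' * y * a'⁻¹ with hy'
      have hy'L : y' ∈ L := (mem_normalizer_iff.mp (hAL ha') y).mp hy
      have hmem : y'⁻¹ * y ∈ M := by
        by_contra hn
        refine hc₀Z (d.inter_mem (mul_mem (inv_mem hy) hy'L) ?_ hc₀C ?_)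
        · exact fun h => hn (by simpa using inv_mem h)
        · have e : (y⁻¹ * y')⁻¹ • c₀ =
              a' • c₀ - y'⁻¹ • (a' • v₀ - v₀) := by
            rw [smul_sub, ← mul_smul y'⁻¹ a', hy', show (a' * y * a'⁻¹)⁻¹ * a' = a' * y⁻¹ by group,
              mul_smul a' y⁻¹, inv_smul_smul, mul_inv_rev, inv_inv, mul_smul]
            abel
          rw [e, hc₀ a' (hAT ha'), hv₀ y'⁻¹ (inv_mem hy'L)]
          exact sub_mem hc₀C (d.fixL_le hv₀)
      have hk : y'⁻¹ * y ∈ normalizer (B : Set P) :=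
        dB.normB (mem_inf.mpr ⟨dB.leX (mul_mem (inv_mem hy'L) hy), hmem⟩)
      have h1 : y⁻¹ • (a' • w) ∈ C := by
        have h2 := smul_mem_fixS (inv_mem hk)
          (smul_mem_fixS (dB.normB (mem_inf.mpr ⟨hAX ha', hs.le (hAT ha')⟩)) hw)
        rwa [← mul_smul, ← mul_smul, hy', show ((a' * y * a'⁻¹)⁻¹ * y)⁻¹ * a' * y⁻¹ = y⁻¹ * a' by group,
          mul_smul] at h2
      exact d.inter_mem hy hyM (hAVC a' ha' w) (by rw [smul_sub]; exact sub_mem h1 hw)
    have htriv : a' ∈ trivOn P Z := fun v => by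
      by_cases hv : v ∈ C
      · exact hCZ v hv
      obtain ⟨b', hb', hvb⟩ := d.cover y hy hyM v hv
      have hw : y⁻¹ • (b'⁻¹ • v) ∈ C := by
        have := mem_tr.mp hvb
        rwa [mul_inv_rev, mul_smul] at this
      have e : a' • v - v = b' • (a' • (b'⁻¹ • v) - b'⁻¹ • v) := by
        rw [smul_sub, smul_inv_smul, ← mul_smul b' a', ← mul_smul (b' * a'), hcomm b' (hBA hb') a' ha',
          mul_inv_cancel_right]
      rw [e, (hline _ hw) b' (d.leL hb')]
      exact hline _ hw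
    exact mem_inf.mpr ⟨ha', mem_centralizer_iff.mpr fun g hg => d.comm_of_trivOn (hAL ha') htriv hg⟩
  have hB1 : ∀ b ∈ B, b ∈ A₁ → b = 1 := fun b hb hb1 => by
    refine d.nosing b hb v₀ hyc ?_
    have hfx : b • v₀ = v₀ := by
      show b • y • c₀ = y • c₀
      rw [← mul_smul, ← mem_centralizer_iff.mp (mem_inf.mp hb1).2 y hy, mul_smul, hc₀C b hb]
    rw [hfx, sub_self]
    exact zero_mem _
  refine ⟨hsplit, fun e => ?_, ?_, ?_⟩
  · obtain ⟨b, hb, hb1⟩ := B.bot_or_exists_ne_one.resolve_left hB.1.1.1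
    exact hb1 (hB1 b hb (e.symm ▸ hBA hb))
  · choose b hb hba using hsplit
    rw [← Nat.card_prod]
    refine Nat.card_le_card_of_injective
      (fun a : A => ((⟨b a a.2, hb a a.2⟩ : B), (⟨(b a a.2)⁻¹ * a, hba a a.2⟩ : A₁))) fun a a' h => ?_
    have h1 : b (a : P) a.2 = b (a' : P) a'.2 := congrArg (fun q : B × A₁ => (q.1 : P)) h
    have h2 : (b (a : P) a.2)⁻¹ * a = (b (a' : P) a'.2)⁻¹ * a' := congrArg (fun q : B × A₁ => (q.2 : P)) h
    exact Subtype.ext (mul_left_cancel (h1 ▸ h2))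
  have hWA₁ : W ≤ fixS V A₁ := d.disp_le_of_invariant (fun g hg s hs' a ha => by
      rw [← mul_smul, ← mem_centralizer_iff.mp (mem_inf.mp ha).2 g hg, mul_smul, hs' a ha])
    fun hle => hc₀Z (hle (fixS_anti (inf_le_left.trans hAT) hc₀))
  have e1 := card_sup_inf_add W (fixS V B)
  have hVtop : W ⊔ fixS V B = ⊤ := eq_top_iff.mpr (d.disp_sup_fix.ge.trans (sup_le_sup_left d.fixL_le _))
  rw [hVtop, AddSubgroup.card_top, d.cardV] at e1
  have hW : Nat.card W = Nat.card B * Nat.card ↥(W ⊓ fixS V B) :=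
    Nat.eq_of_mul_eq_mul_right (Nat.card_pos (α := fixS V B)) (by rw [e1]; ring)
  have e2 := card_sup_inf_add W (fixS V A)
  rw [hW] at e2
  refine Nat.le_of_mul_le_mul_right (c := Nat.card ↥(W ⊓ fixS V B)) ?_ Nat.card_pos
  calc Nat.card B * Nat.card (fixS V A) * Nat.card ↥(W ⊓ fixS V B)
      = Nat.card ↥(W ⊔ fixS V A) * Nat.card ↥(W ⊓ fixS V A) := by rw [← e2]; ring
    _ ≤ _ := Nat.mul_le_mul (AddSubgroup.card_le_of_le (sup_le hWA₁ (fixS_anti inf_le_left)))
        (AddSubgroup.card_le_of_le (inf_le_inf_left _ (fixS_anti hBA)))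

/-- The maximum of `|A| |C_V(A)|` is the order of the module, attained inside the join of the offenders. -/
theorem mS_le_and_le_sSup {A : Subgroup P} (hAT : A ≤ (T : Subgroup P))
    (hcomm : ∀ a ∈ A, ∀ b ∈ A, a * b = b * a) (hexp : ∀ a ∈ A, a ^ p = 1) :
    mS V A ≤ Nat.card V ∧ (Nat.card V ≤ mS V A → A ≤ sSup (offs p V (T : Subgroup P))) := by
  induction hn : Nat.card A using Nat.strong_induction_on generalizing A with
  | _ n ih =>
    by_cases hA : A = ⊥
    · subst hA
      refine ⟨?_, fun _ => bot_le⟩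
      simp only [mS, Subgroup.card_bot, one_mul]
      exact Nat.card_le_card_of_injective _ Subtype.val_injective
    by_cases hoff : Nat.card V ≤ mS V A
    · obtain ⟨B, hBA, hB⟩ := exists_minOff_le (V := V) (p := p) ⟨hA, hcomm, hexp, hoff⟩
      have hBm : B ∈ offs p V (T : Subgroup P) := ⟨hB, hBA.trans hAT⟩
      obtain ⟨hsplit, hne, hc1, hc2⟩ := strip hs hm hAT hcomm hBm hBA
      set A₁ := centIn A (blk p V (T : Subgroup P) B)
      have hlt : Nat.card A₁ < n := hn ▸ lt_of_le_of_ne (Subgroup.card_le_of_le inf_le_left) fun e =>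
        hne (Subgroup.eq_of_le_of_card_ge inf_le_left e.ge)
      have hle : mS V A ≤ mS V A₁ := by
        calc mS V A ≤ Nat.card B * Nat.card A₁ * Nat.card (fixS V A) := Nat.mul_le_mul_right _ hc1
          _ = Nat.card A₁ * (Nat.card B * Nat.card (fixS V A)) := by ring
          _ ≤ _ := Nat.mul_le_mul_left _ hc2
      obtain ⟨h1, h2⟩ := ih _ hlt (A := A₁) (inf_le_left.trans hAT)
        (fun a ha b hb => hcomm a (mem_inf.mp ha).1 b (mem_inf.mp hb).1)
        (fun a ha => hexp a (mem_inf.mp ha).1) rfl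
      refine ⟨hle.trans h1, fun _ a ha => ?_⟩
      obtain ⟨b, hb, hb'⟩ := hsplit a ha
      rw [show a = b * (b⁻¹ * a) by group]
      exact mul_mem (le_sSup hBm hb) (h2 (hoff.trans hle) hb')
    · exact ⟨le_of_not_ge hoff, fun h => absurd h hoff⟩

end family

end Cfsg.Agent.H11.PMinFF
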