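import Cfsg.Agent.H11.PMinFF.Max
import Cfsg.Agent.Fusion.PResidual

/-!
Modules of a p-minimal group: actions of `O^p`, sub- and quotient modules.
-/

set_option autoImplicit false

namespace Cfsg.Agent.H11.PMinFF

open Subgroup Cfsg.Agent.H63 Cfsg.Agent.H31.SL2Pair

universe u v

variable {P : Type u} [Group P] {V : Type v} [AddCommGroup V] [DistribMulAction P V]

/-- The action on an invariant additive subgroup. -/
@[reducible] def subSmul (S : AddSubgroup V) (h : ∀ (g : P), ∀ v ∈ S, g • v ∈ S) :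
    DistribMulAction P S where
  smul g w := ⟨g • (w : V), h g w w.2⟩
  one_smul w := Subtype.ext (one_smul P (w : V))
  mul_smul g g' w := Subtype.ext (mul_smul g g' (w : V))
  smul_zero g := Subtype.ext (smul_zero g)
  smul_add g v w := Subtype.ext (smul_add g (v : V) w)

variable [Finite P] [Finite V] {p : ℕ} [Fact p.Prime] {T : Sylow p P} {M : Subgroup P}

theorem residual_not_le (hs : Setting p V T M) : ¬ Cfsg.pResidual p P ≤ M := fun h =>
  hs.coatom.1 (top_le_iff.mp ((Fusion.sylow_sup_pResidual T).ge.trans (sup_le hs.le h)))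

omit [Finite V] in
theorem residual_le_of_sup {N : Subgroup P} [N.Normal] (h : N ⊔ (T : Subgroup P) = ⊤) :
    Cfsg.pResidual p P ≤ N := by
  refine Fusion.pResidual_le_of_quotient fun x => ?_
  obtain ⟨g, rfl⟩ := QuotientGroup.mk'_surjective N x
  have hg : g ∈ N ⊔ (T : Subgroup P) := h ▸ mem_top g
  rw [← SetLike.mem_coe, Subgroup.normal_mul, Set.mem_mul] at hg
  obtain ⟨n, hn, t, ht, rfl⟩ := hg
  obtain ⟨k, hk⟩ := T.2 ⟨t, ht⟩
  refine ⟨k, ?_⟩
  have hk' : t ^ p ^ k = 1 := congrArg Subtype.val hk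
  rw [map_mul, show QuotientGroup.mk' N n = 1 from (QuotientGroup.eq_one_iff n).mpr hn, one_mul,
    ← map_pow, hk', map_one]

omit [Finite V] in
theorem residual_le_stabilizer (hV : ∀ v : V, p • v = 0) {D : AddSubgroup V}
    (hD : ∀ g ∈ Cfsg.pResidual p P, ∀ v ∈ D, g • v = v) {v : V}
    (hv : ∀ g ∈ Cfsg.pResidual p P, g • v - v ∈ D) {g : P} (hg : g ∈ Cfsg.pResidual p P) :
    g • v = v := by
  set H := Cfsg.pResidual p P
  let f : H →* Multiplicative V := MonoidHom.mk' (fun h => Multiplicative.ofAdd ((h : P) • v - v))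
    fun h h' => by
      show Multiplicative.ofAdd _ = Multiplicative.ofAdd _ * Multiplicative.ofAdd _
      rw [← ofAdd_add, Subgroup.coe_mul]
      congr 1
      have e := hD _ h.2 _ (hv _ h'.2)
      rw [smul_sub, sub_eq_iff_eq_add] at e
      rw [mul_smul, e]
      abel
  have hp : IsPGroup p (Multiplicative V) := fun x => ⟨1, by
    rw [pow_one]; exact Multiplicative.toAdd.injective (by rw [toAdd_pow, hV, toAdd_one])⟩
  have h1 : (⟨g, hg⟩ : H) ∈ f.ker :=
    Fusion.pResidual_le_ker hp f (Fusion.pResidual_pResidual_eq_top (G := P) ▸ mem_top _)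
  exact sub_eq_zero.mp (congrArg Multiplicative.toAdd (MonoidHom.mem_ker.mp h1))

omit [Finite P] [Finite V] in
theorem isPGroup_series (hV : ∀ v : V, p • v = 0) (hfaith : ∀ g : P, (∀ v : V, g • v = v) → g = 1)
    (S : AddSubgroup V) : IsPGroup p ↥(fixOf P S ⊓ trivOn P S) := fun x => by
  refine ⟨1, Subtype.ext (hfaith _ fun v => ?_)⟩
  obtain ⟨h1, h2⟩ := mem_inf.mp x.2
  rw [pow_one, SubgroupClass.coe_pow, nsmul_of_smul_sub rfl (h1 _ (h2 v)) p, hV, add_zero]

omit [Finite P] [Finite V] [Fact p.Prime] in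
theorem normal_fixOf {S : AddSubgroup V} (h : ∀ (g : P), ∀ v ∈ S, g • v ∈ S) : (fixOf P S).Normal :=
  ⟨fun k hk g v hv => by rw [mul_smul, mul_smul, hk _ (h g⁻¹ v hv), smul_inv_smul]⟩

omit [Finite P] [Finite V] [Fact p.Prime] in
theorem normal_trivOn {S : AddSubgroup V} (h : ∀ (g : P), ∀ v ∈ S, g • v ∈ S) : (trivOn P S).Normal :=
  ⟨fun k hk g v => by
    rw [mul_smul, mul_smul, show g • k • g⁻¹ • v - v = g • (k • g⁻¹ • v - g⁻¹ • v) by
      rw [smul_sub, smul_inv_smul]]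
    exact h g _ (hk _)⟩

omit [Finite P] [Finite V] [Fact p.Prime] in
theorem smul_mem_disp_normal {N : Subgroup P} (hN : N.Normal) (g : P) {v : V} (hv : v ∈ disp V N) :
    g • v ∈ disp V N := smul_mem_disp (by rw [normalizer_eq_top_iff.mpr hN]; exact mem_top g) hv

omit [Finite P] [Finite V] [Fact p.Prime] in
theorem smul_mem_fixS_normal {N : Subgroup P} (hN : N.Normal) (g : P) {v : V} (hv : v ∈ fixS V N) :
    g • v ∈ fixS V N := smul_mem_fixS (by rw [normalizer_eq_top_iff.mpr hN]; exact mem_top g) hv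

theorem faith_sub (hs : Setting p V T M) {g : P}
    (h : ∀ v ∈ disp V (Cfsg.pResidual p P), g • v = v) : g = 1 := by
  set H := Cfsg.pResidual p P
  set S := disp V H
  have hinv : ∀ (g : P), ∀ v ∈ S, g • v ∈ S := fun g v hv => smul_mem_disp_normal inferInstance g hv
  haveI := normal_fixOf hinv
  haveI := normal_trivOn hinv
  have h0 : ∀ x ∈ fixOf P S, x ∈ H → x = 1 := fun x hx hxH => by
    have := (Cores.le_pCore (isPGroup_series hs.char hs.faith S)).trans_eq hs.core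
    exact Subgroup.mem_bot.mp (this (mem_inf.mpr ⟨hx, le_trivOn_disp H hxH⟩))
  have hK : IsPGroup p (fixOf P S) := fun x => by
    obtain ⟨k, hk⟩ := Fusion.exists_pow_mem_pResidual (p := p) (x : P)
    exact ⟨k, Subtype.ext (by rw [SubgroupClass.coe_pow]; exact h0 _ (pow_mem x.2 _) hk)⟩
  exact Subgroup.mem_bot.mp ((Cores.le_pCore hK).trans_eq hs.core (h : g ∈ fixOf P S))

theorem disp_disp_residual (hV : ∀ v : V, p • v = 0) :
    ∀ v ∈ disp V (Cfsg.pResidual p P), v ∈ AddSubgroup.closure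
      {x | ∃ g ∈ Cfsg.pResidual p P, ∃ u ∈ disp V (Cfsg.pResidual p P), x = g • u - u} := by
  set H := Cfsg.pResidual p P
  set U := AddSubgroup.closure {x | ∃ g ∈ H, ∃ u ∈ disp V H, x = g • u - u}
  refine fun v hv => disp_le.mpr (fun g hg w => ?_) hv
  let f : H →* Multiplicative (V ⧸ U) :=
    MonoidHom.mk' (fun h => Multiplicative.ofAdd (QuotientAddGroup.mk ((h : P) • w - w) : V ⧸ U)) fun h h' => by
      show Multiplicative.ofAdd _ = Multiplicative.ofAdd _ * Multiplicative.ofAdd _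
      rw [← ofAdd_add, ← QuotientAddGroup.mk_add, Subgroup.coe_mul]
      congr 1
      rw [QuotientAddGroup.eq_iff_sub_mem]
      have e : ((h : P) * (h' : P)) • w - w - ((h : P) • w - w + ((h' : P) • w - w)) =
          (h : P) • ((h' : P) • w - w) - ((h' : P) • w - w) := by
        rw [mul_smul, smul_sub]; abel
      rw [e]
      exact AddSubgroup.subset_closure ⟨_, h.2, _, mem_disp h'.2 w, rfl⟩
  have hp : IsPGroup p (Multiplicative (V ⧸ U)) := fun x => ⟨1, by
    rw [pow_one]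
    refine Multiplicative.toAdd.injective ?_
    rw [toAdd_pow, toAdd_one]
    obtain ⟨z, hz⟩ := QuotientAddGroup.mk_surjective (Multiplicative.toAdd x)
    rw [← hz, ← QuotientAddGroup.mk_nsmul, hV, QuotientAddGroup.mk_zero]⟩
  have h1 : (⟨g, hg⟩ : H) ∈ f.ker :=
    Fusion.pResidual_le_ker hp f (Fusion.pResidual_pResidual_eq_top (G := P) ▸ mem_top _)
  exact (QuotientAddGroup.eq_zero_iff _).mp (congrArg Multiplicative.toAdd (MonoidHom.mem_ker.mp h1))

omit [Fact p.Prime] in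
theorem card_quot (Z : AddSubgroup V) : Nat.card V = Nat.card (V ⧸ Z) * Nat.card Z :=
  AddSubgroup.card_eq_card_quotient_mul_card_addSubgroup Z

theorem exists_offs_of_isOff {A : Subgroup P} (hA : IsOff p V A) :
    (offs p V (T : Subgroup P)).Nonempty := by
  obtain ⟨B, -, hB⟩ := exists_minOff_le hA
  obtain ⟨R, hR⟩ := hB.1.isPGroup.exists_le_sylow
  obtain ⟨g, hg⟩ := MulAction.exists_smul_eq P T R
  refine ⟨cnj B g⁻¹, hB.cnj g⁻¹, ?_⟩
  rw [cnj_le_iff, inv_inv]
  rw [← hg, Sylow.coe_subgroup_smul] at hR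
  exact hR

omit [Finite P] in
theorem eq_top_of_disp_sup {R : Subgroup P} (hR : IsPGroup p R) (hV : ∀ v : V, p • v = 0) {D : AddSubgroup V}
    (hD : ∀ g ∈ R, ∀ v ∈ D, g • v ∈ D) (h : disp V R ⊔ D = ⊤) : D = ⊤ := by
  classical
  by_contra hne
  haveI : Fintype (AddSubgroup V) := Fintype.ofFinite _
  obtain ⟨U, hU, hmax⟩ := Finset.exists_max_image
    (Finset.univ.filter fun U : AddSubgroup V => D ≤ U ∧ U ≠ ⊤ ∧ ∀ g ∈ R, ∀ v ∈ U, g • v ∈ U)
    (fun U => Nat.card U) ⟨D, Finset.mem_filter.mpr ⟨Finset.mem_univ _, le_rfl, hne, hD⟩⟩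
  obtain ⟨-, hDU, hUt, hUi⟩ := Finset.mem_filter.mp hU
  letI : DistribMulAction R (V ⧸ U) := quotSmul U fun g v hv => hUi g g.2 v hv
  have hdvd : p ∣ Nat.card (V ⧸ U) := by
    obtain ⟨x, hx⟩ : ∃ x : V, x ∉ U := by
      by_contra hno
      push_neg at hno
      exact hUt (eq_top_iff.mpr fun v _ => hno v)
    have h1 : addOrderOf (QuotientAddGroup.mk x : V ⧸ U) = p :=
      addOrderOf_eq_prime (by rw [← QuotientAddGroup.mk_nsmul, hV, QuotientAddGroup.mk_zero])
        fun e => hx ((QuotientAddGroup.eq_zero_iff x).mp e)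
    exact h1 ▸ addOrderOf_dvd_natCard _
  obtain ⟨x, hx, hx0⟩ := hR.exists_fixed_point_of_prime_dvd_card_of_fixed_point (V ⧸ U) hdvd
    (a := 0) (fun g => smul_zero g)
  obtain ⟨w, rfl⟩ := QuotientAddGroup.mk_surjective x
  have hwU : w ∉ U := fun e => hx0 ((QuotientAddGroup.eq_zero_iff w).mpr e).symm
  set U' := U ⊔ AddSubgroup.zmultiples w with hU'
  have hfix : ∀ g ∈ R, g • w - w ∈ U := fun g hg => QuotientAddGroup.eq_iff_sub_mem.mp (hx ⟨g, hg⟩)
  have hU'i : ∀ g ∈ R, ∀ v ∈ U', g • v ∈ U' := by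
    intro g hg v hv
    obtain ⟨u, hu, z, hz, rfl⟩ := AddSubgroup.mem_sup.mp hv
    obtain ⟨n, rfl⟩ := AddSubgroup.mem_zmultiples_iff.mp hz
    rw [smul_add, smul_comm g n w, show g • w = (g • w - w) + w by abel, zsmul_add, ← add_assoc]
    exact AddSubgroup.add_mem_sup (add_mem (hUi g hg u hu) (zsmul_mem (hfix g hg) n))
      (AddSubgroup.zsmul_mem_zmultiples w n)
  have htop : U' = ⊤ := by
    by_contra hne'
    have := hmax U' (Finset.mem_filter.mpr ⟨Finset.mem_univ _, hDU.trans le_sup_left, hne', hU'i⟩)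
    exact hwU ((AddSubgroup.eq_of_le_of_card_ge le_sup_left this).ge
      (AddSubgroup.mem_sup_right (AddSubgroup.mem_zmultiples w)))
  refine hUt (top_le_iff.mp (h.ge.trans (sup_le (disp_le.mpr fun g hg v => ?_) hDU)))
  obtain ⟨u, hu, z, hz, rfl⟩ := AddSubgroup.mem_sup.mp (htop ▸ AddSubgroup.mem_top v)
  obtain ⟨n, rfl⟩ := AddSubgroup.mem_zmultiples_iff.mp hz
  rw [smul_add, smul_comm g n w, add_sub_add_comm, ← zsmul_sub]
  exact add_mem (sub_mem (hUi g hg u hu) hu) (zsmul_mem (hfix g hg) n)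

omit [Finite P] in
theorem exists_fixed_ne_zero {R : Subgroup P} (hR : IsPGroup p R) (hV : ∀ v : V, p • v = 0)
    {S : AddSubgroup V} (hS : ∀ g ∈ R, ∀ v ∈ S, g • v ∈ S) {s : V} (hs : s ∈ S) (hs0 : s ≠ 0) :
    ∃ z ∈ S, z ≠ 0 ∧ ∀ g ∈ R, g • z = z := by
  letI : DistribMulAction R S := subSmul S fun g v hv => hS g g.2 v hv
  have h1 : addOrderOf (⟨s, hs⟩ : S) = p :=
    addOrderOf_eq_prime (Subtype.ext (hV s)) fun e => hs0 (congrArg Subtype.val e)
  obtain ⟨z, hz, hz0⟩ := hR.exists_fixed_point_of_prime_dvd_card_of_fixed_point S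
    (h1 ▸ addOrderOf_dvd_natCard _) (a := 0) (fun g => smul_zero g)
  exact ⟨z, z.2, fun e => hz0 (Subtype.ext e).symm, fun g hg => congrArg Subtype.val (hz ⟨g, hg⟩)⟩

/-- `C_P(V / [V,T]) ≤ M` when `V = [V, O^p(P)] + C_V(O^p(P))`. -/
theorem disp_moves (hs : Setting p V T M)
    (h : disp V (Cfsg.pResidual p P) ⊔ fixS V (Cfsg.pResidual p P) = ⊤) :
    trivOn P (disp V (T : Subgroup P)) ≤ M := by
  by_contra hne
  have htop : trivOn P (disp V (T : Subgroup P)) = ⊤ :=
    by_contra fun h' => hne (hs.above _ (le_trivOn_disp _) h')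
  have hle : disp V (Cfsg.pResidual p P) ≤ disp V (T : Subgroup P) :=
    disp_le.mpr (le_top.trans htop.ge)
  have hD : fixS V (Cfsg.pResidual p P) = ⊤ := eq_top_of_disp_sup T.2 hs.char
    (fun g _ v hv => smul_mem_fixS_normal inferInstance g hv)
    (top_le_iff.mp (h.ge.trans (sup_le_sup_right hle _)))
  exact residual_not_le hs fun g hg => by
    rw [hs.faith g fun v => (hD ▸ AddSubgroup.mem_top v : v ∈ fixS V (Cfsg.pResidual p P)) g hg]
    exact one_mem M

end Cfsg.Agent.H11.PMinFF
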