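import Cfsg.Agent.H11.PMinFF.PairLemmas

/-!
In the normalizer of `Q`, the offender `B` is normal in the part inside `M`, and the group it
generates with a conjugate is normal.
-/

set_option autoImplicit false

namespace Cfsg.Agent.H11.PMinFF

open Subgroup Cfsg.Agent.H63 Cfsg.Agent.H31.SL2Pair

universe u v

variable {P : Type u} [Group P] {V : Type v} [AddCommGroup V] [DistribMulAction P V]

/-- The elements of `normalizer Q ⊓ M` staying in `M` under conjugation by `normalizer Q`. -/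
def kern (M Q : Subgroup P) : Subgroup P where
  carrier := {g | g ∈ normalizer (Q : Set P) ∧ ∀ x ∈ normalizer (Q : Set P), x⁻¹ * g * x ∈ M}
  one_mem' := ⟨one_mem _, fun x _ => by simp⟩
  mul_mem' := fun {g h} hg hh => ⟨mul_mem hg.1 hh.1, fun x hx => by
    rw [show x⁻¹ * (g * h) * x = (x⁻¹ * g * x) * (x⁻¹ * h * x) by group]
    exact mul_mem (hg.2 x hx) (hh.2 x hx)⟩
  inv_mem' := fun {g} hg => ⟨inv_mem hg.1, fun x hx => by
    rw [show x⁻¹ * g⁻¹ * x = (x⁻¹ * g * x)⁻¹ by group]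
    exact inv_mem (hg.2 x hx)⟩

theorem kern_le (M Q : Subgroup P) : kern M Q ≤ normalizer (Q : Set P) ⊓ M := fun g hg =>
  mem_inf.mpr ⟨hg.1, by simpa using hg.2 1 (one_mem _)⟩

theorem le_normalizer_kern (M Q : Subgroup P) :
    normalizer (Q : Set P) ≤ normalizer (kern M Q : Set P) := by
  have key : ∀ x ∈ normalizer (Q : Set P), ∀ g ∈ kern M Q, x * g * x⁻¹ ∈ kern M Q := fun x hx g hg =>
    ⟨mul_mem (mul_mem hx hg.1) (inv_mem hx), fun z hz => by
      rw [show z⁻¹ * (x * g * x⁻¹) * z = (x⁻¹ * z)⁻¹ * g * (x⁻¹ * z) by group]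
      exact hg.2 _ (mul_mem (inv_mem hx) hz)⟩
  intro x hx
  refine mem_normalizer_iff.mpr fun g => ⟨key x hx g, fun h => ?_⟩
  have := key x⁻¹ (inv_mem hx) _ h
  rwa [show x⁻¹ * (x * g * x⁻¹) * x⁻¹⁻¹ = g by group] at this

variable {p : ℕ}

theorem le_rx_of_normal_kern [Finite P] [Fact p.Prime] {M Q R : Subgroup P} (hR : IsPGroup p R)
    (hle : R ≤ kern M Q) (hn : kern M Q ≤ normalizer (R : Set P)) : R ≤ rx p Q := by
  set X := normalizer (Q : Set P) with hX
  have hKX : kern M Q ≤ X := fun g hg => hg.1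
  have hRX : R ≤ X := hle.trans hKX
  haveI : ((kern M Q).subgroupOf X).Normal :=
    (normal_subgroupOf_iff_le_normalizer hKX).mpr (le_normalizer_kern M Q)
  haveI : ((R.subgroupOf X).subgroupOf ((kern M Q).subgroupOf X)).Normal := by
    refine ⟨fun r hr g => ?_⟩
    exact (mem_normalizer_iff.mp (hn g.2) _).mp hr
  have hsub : (R.subgroupOf X).IsSubnormal :=
    .step (R.subgroupOf X) ((kern M Q).subgroupOf X) (fun x hx => hle hx)
      (Subgroup.Normal.isSubnormal inferInstance) inferInstance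
  calc R = (R.subgroupOf X).map X.subtype := by rw [subgroupOf_map_subtype, inf_eq_left.mpr hRX]
    _ ≤ _ := map_mono (Cores.le_pCore_of_isSubnormal hsub hR.comap_subtype)

variable [Finite P] [Finite V] [Fact p.Prime] {T : Sylow p P} {M Q B : Subgroup P}

theorem IsPair.rx_sup_le (h : IsPair p V T M Q B) (hs : Setting p V T M) : rx p Q ⊔ B ≤ M :=
  h.only.pgroup_le hs
    ((isPGroup_rx Q).to_sup_of_normal_left' h.min.1.isPGroup (h.norm.trans (normalizer_le_normalizer_rx Q)))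
    (sup_le (h.Q_le_rx.trans le_sup_left) le_sup_right)

theorem IsPair.not_le_rx (h : IsPair p V T M Q B) (hs : Setting p V T M) : ¬ B ≤ rx p Q := fun hle => by
  obtain ⟨x, hx, hxM⟩ := SetLike.not_le_iff_exists.mp h.out
  refine h.cnj_not_le hs hx hxM ((cnj_mono hle x).trans ?_)
  rw [cnj_eq_self (normalizer_le_normalizer_rx Q hx)]
  exact le_sup_left.trans (h.rx_sup_le hs)

/-- The structure of a pair. -/
structure Block (p : ℕ) (V : Type v) [AddCommGroup V] [DistribMulAction P V]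
    (M Q B L : Subgroup P) : Prop extends PairBase p V M B L where
  leX : L ≤ normalizer (Q : Set P)
  normal : normalizer (Q : Set P) ≤ normalizer (L : Set P)
  normB : normalizer (Q : Set P) ⊓ M ≤ normalizer (B : Set P)
  gen_all : ∀ x ∈ normalizer (Q : Set P), x ∉ M → B ⊔ cnj B x = L
  rx_disp : disp V (rx p Q) ≤ fixS V L
  rx_fix : disp V L ≤ fixS V (rx p Q)
  rx_comm : ∀ r ∈ rx p Q, ∀ g ∈ L, r * g = g * r
  lines : ∀ x ∈ normalizer (Q : Set P), x ∉ M → ∀ y ∈ L, y ∉ M → ∃ a ∈ B, x⁻¹ * (a * y) ∈ M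
  eq_or_le : ∀ A : Subgroup P, IsMinOff p V A → A ≤ B ⊔ rx p Q → A ≤ rx p Q ∨ A = B

theorem IsPair.exists_block (h : IsPair p V T M Q B) (hs : Setting p V T M) (hm : Moves p V T M) :
    ∃ L, Block p V M Q B L := by
  classical
  set X := normalizer (Q : Set P) with hXdef
  obtain ⟨y₁, hy₁X, hy₁M⟩ := SetLike.not_le_iff_exists.mp h.out
  obtain ⟨y, hy, -⟩ := h.exists_minElt hs hy₁X hy₁M
  set L := B ⊔ cnj B y with hL
  have d := h.pairBase hs hm hy
  have hyL : y ∈ L := hy.2.2.1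
  have hyM : y ∉ M := hy.2.1
  have hBM : B ≤ M := d.leM
  have hLX : L ≤ X := sup_cnj_le h.norm hy.1
  set C := fixS V B with hC
  -- no singular elements for any pair
  have hpair : ∀ g ∈ X, g ∉ M → ∀ a ∈ B, ∀ v : V, v ∉ C → g⁻¹ • (a • v - v) ∈ C → a = 1 := by
    intro g hg hgM a ha v hv hva
    obtain ⟨x, hx, hxg⟩ := h.exists_minElt hs hg hgM
    refine (h.pairBase hs hm hx).nosing a ha v hv (fixS_anti hxg ?_)
    rw [fixS_sup, fixS_cnj]
    exact AddSubgroup.mem_inf.mpr ⟨d.quad a ha v, mem_tr.mpr hva⟩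
  have hay : ∀ {a}, a ∈ B → a * y ∈ X ∧ a * y ∉ M := fun {a} ha =>
    ⟨mul_mem (h.norm ha) hy.1, fun e => hyM (by simpa using mul_mem (inv_mem (hBM ha)) e)⟩
  obtain ⟨v₀, hv₀⟩ : ∃ v, v ∉ C := by
    by_contra hno
    push_neg at hno
    exact h.min.1.1 ((Subgroup.eq_bot_iff_forall _).mpr fun a ha => hs.faith a fun v => hno v a ha)
  obtain ⟨a₀, ha₀, ha₀1⟩ := B.bot_or_exists_ne_one.resolve_left h.min.1.1
  have hlines : ∀ x ∈ X, x ∉ M → ∃ a ∈ B, x⁻¹ * (a * y) ∈ M := by
    intro x hx hxM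
    by_contra hne
    push_neg at hne
    refine ha₀1 ?_
    by_cases hw : x • (a₀ • v₀ - v₀) ∈ C
    · exact hpair x⁻¹ (inv_mem hx) (fun e => hxM (inv_mem_iff.mp e)) a₀ ha₀ v₀ hv₀ (by rwa [inv_inv])
    · obtain ⟨a, ha, hva⟩ := d.cover y hyL hyM _ hw
      refine hpair _ (mul_mem (inv_mem hx) (hay ha).1) (hne a ha) a₀ ha₀ v₀ hv₀ ?_
      rw [mul_inv_rev, inv_inv, mul_smul]
      exact mem_tr.mp hva
  set Y := X ⊓ M with hY
  have hBY : B ≤ Y := le_inf h.norm hBM
  have hin : ∀ m ∈ Y, ∀ a ∈ B, ∀ v : V, m • (a • v - v) ∈ C := by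
    intro m hm' a ha v
    by_contra hw
    obtain ⟨c, hc, hwc⟩ := d.cover y hyL hyM _ hw
    by_cases hvC : v ∈ C
    · rw [hvC a ha, sub_self, smul_zero] at hw
      exact hw (zero_mem _)
    have hg : m⁻¹ * (c * y) ∉ M := fun e => (hay hc).2 (by simpa using mul_mem (mem_inf.mp hm').2 e)
    have := hpair _ (mul_mem (inv_mem (mem_inf.mp hm').1) (hay hc).1) hg a ha v hvC (by
      rw [mul_inv_rev, inv_inv, mul_smul]; exact mem_tr.mp hwc)
    rw [this, one_smul, sub_self, smul_zero] at hw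
    exact hw (zero_mem _)
  -- conjugates of `B` under `Y` commute
  have hcomm : ∀ m ∈ Y, ∀ b ∈ B, ∀ a ∈ B, m * b * m⁻¹ * a = a * (m * b * m⁻¹) := by
    intro m hm' b hb a ha
    set c := m * b * m⁻¹ with hcdef
    have hcv : ∀ v : V, c • v - v = m • (b • (m⁻¹ • v) - m⁻¹ • v) := fun v => by
      rw [smul_sub, smul_inv_smul]
      simp only [c, mul_smul]
    refine (inv_mul_eq_one.mp (hs.faith ((a * c)⁻¹ * (c * a)) fun v => ?_)).symm
    have h1 : a • (c • v) = a • v + (c • v - v) := by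
      conv_lhs => rw [show c • v = v + (c • v - v) by abel, smul_add,
        (hcv v ▸ hin m hm' b hb _ : c • v - v ∈ C) a ha]
    have h2 : c • (a • v - v) = a • v - v := by
      have h3 := hin m⁻¹ (inv_mem hm') a ha v b hb
      show (m * b * m⁻¹) • (a • v - v) = _
      rw [mul_smul, mul_smul, h3, smul_inv_smul]
    have h4 : c • (a • v) = a • (c • v) := by
      rw [h1]
      rw [smul_sub, sub_eq_iff_eq_add] at h2
      rw [h2]; abel
    rw [mul_smul (a * c)⁻¹ (c * a) v, mul_smul c a v, h4, ← mul_smul a c v, inv_smul_smul]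
  set S : Set P := {x | ∃ m ∈ Y, ∃ b ∈ B, x = m * b * m⁻¹} with hS
  set N := Subgroup.closure S with hN
  have hBN : B ≤ N := fun b hb => subset_closure ⟨1, one_mem _, b, hb, by simp⟩
  have hNY : N ≤ Y := (closure_le _).mpr (by
    rintro _ ⟨m, hm', b, hb, rfl⟩; exact mul_mem (mul_mem hm' (hBY hb)) (inv_mem hm'))
  have hNconj : ∀ g ∈ Y, ∀ n ∈ N, g * n * g⁻¹ ∈ N := by
    intro g hg n hn
    have : N.map (MulAut.conj g).toMonoidHom ≤ N := by
      rw [hN, MonoidHom.map_closure]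
      refine closure_mono ?_
      rintro _ ⟨_, ⟨m, hm', b, hb, rfl⟩, rfl⟩
      exact ⟨g * m, mul_mem hg hm', b, hb, show g * (m * b * m⁻¹) * g⁻¹ = _ by group⟩
    exact this ⟨n, hn, rfl⟩
  have hNab : ∀ x ∈ N, ∀ z ∈ N, x * z = z * x := by
    have h1 : ∀ x ∈ S, ∀ z ∈ S, x * z = z * x := by
      rintro _ ⟨m, hm', b, hb, rfl⟩ _ ⟨m', hm'', b', hb', rfl⟩
      have := hcomm (m'⁻¹ * m) (mul_mem (inv_mem hm'') hm') b hb b' hb'
      calc m * b * m⁻¹ * (m' * b' * m'⁻¹)
          = m' * ((m'⁻¹ * m) * b * (m'⁻¹ * m)⁻¹ * b') * m'⁻¹ := by group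
        _ = m' * (b' * ((m'⁻¹ * m) * b * (m'⁻¹ * m)⁻¹)) * m'⁻¹ := by rw [this]
        _ = _ := by group
    have h2 : N ≤ centralizer S := (closure_le _).mpr fun x hx z hz => h1 z hz x hx
    have h3 : N ≤ centralizer (N : Set P) := by
      rw [le_centralizer_iff]
      exact (closure_le _).mpr fun z hz x hx => (h2 hx z hz).symm
    exact fun x hx z hz => (h3 hz x hx)
  have hNp : IsPGroup p N := by
    have : ∀ x ∈ N, x ^ p = 1 := by
      intro x hx
      induction hx using Subgroup.closure_induction with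
      | mem z hz =>
        obtain ⟨m, -, b, hb, rfl⟩ := hz
        rw [conj_pow, h.min.1.2.2.1 b hb, mul_one, mul_inv_cancel]
      | one => exact one_pow p
      | mul a b ha hb h1 h2 => rw [Commute.mul_pow (hNab a ha b hb), h1, h2, one_mul]
      | inv a _ h1 => rw [inv_pow, h1, inv_one]
    exact fun x => ⟨1, Subtype.ext (by rw [pow_one, SubgroupClass.coe_pow]; exact this x x.2)⟩
  have hRrx : N ⊓ kern M Q ≤ rx p Q :=
    le_rx_of_normal_kern (hNp.to_le inf_le_left) inf_le_right fun g hg =>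
      mem_normalizer_iff.mpr fun n => by
        have hgY : g ∈ Y := kern_le M Q hg
        refine ⟨fun hn => mem_inf.mpr ⟨hNconj g hgY n (mem_inf.mp hn).1,
          mul_mem (mul_mem hg (mem_inf.mp hn).2) (inv_mem hg)⟩, fun hn => ?_⟩
        have h1 := hNconj g⁻¹ (inv_mem hgY) _ (mem_inf.mp hn).1
        have h2 := mul_mem (mul_mem (inv_mem hg) (mem_inf.mp hn).2) hg
        rw [show g⁻¹ * (g * n * g⁻¹) * g⁻¹⁻¹ = n by group] at h1
        rw [show g⁻¹ * (g * n * g⁻¹) * g = n by group] at h2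
        exact mem_inf.mpr ⟨h1, h2⟩
  have hNle : N ≤ B ⊔ rx p Q := by
    intro n hn
    have hnY := hNY hn
    have hny : n * y ∉ M := fun e => hyM (by simpa using mul_mem (inv_mem (mem_inf.mp hnY).2) e)
    obtain ⟨a, ha, hm'⟩ := hlines _ (mul_mem (mem_inf.mp hnY).1 hy.1) hny
    set r := n⁻¹ * a with hr
    have hrN : r ∈ N := mul_mem (inv_mem hn) (hBN ha)
    have hry : y⁻¹ * r * y ∈ M := by
      rwa [show y⁻¹ * r * y = (n * y)⁻¹ * (a * y) by rw [hr]; group]
    have hrK : r ∈ kern M Q := by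
      refine ⟨(mem_inf.mp (hNY hrN)).1, fun x hx => ?_⟩
      by_cases hxM : x ∈ M
      · exact mul_mem (mul_mem (inv_mem hxM) (mem_inf.mp (hNY hrN)).2) hxM
      obtain ⟨c, hc, hmm⟩ := hlines x hx hxM
      set k := x⁻¹ * (c * y) with hk
      have e : x⁻¹ * r * x = k * (y⁻¹ * (c⁻¹ * r * c) * y) * k⁻¹ := by rw [hk]; group
      rw [e, show c⁻¹ * r * c = r by rw [mul_assoc, hNab r hrN c (hBN hc), inv_mul_cancel_left]]
      exact mul_mem (mul_mem hmm hry) (inv_mem hmm)
    rw [show n = a * r⁻¹ by rw [hr]; group]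
    exact mul_mem_sup ha (inv_mem (hRrx (mem_inf.mpr ⟨hrN, hrK⟩)))
  -- the group `rx`
  obtain ⟨hrd, hrf, hrc⟩ := d.pgroup_normalised hs hm (isPGroup_rx Q)
    (hLX.trans (normalizer_le_normalizer_rx Q)) (h.rx_sup_le hs) h.min.1.isPGroup
  have heq : ∀ A : Subgroup P, IsMinOff p V A → A ≤ B ⊔ rx p Q → A ≤ rx p Q ∨ A = B := by
    intro A hA hAle
    by_cases hAR : A ≤ rx p Q
    · exact Or.inl hAR
    right
    have hdec : ∀ a ∈ A, ∃ b ∈ B, ∃ r ∈ rx p Q, a = b * r := fun a ha => by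
      have := hAle ha
      rw [← SetLike.mem_coe, coe_mul_of_left_le_normalizer_right B (rx p Q)
        (h.norm.trans (normalizer_le_normalizer_rx Q)), Set.mem_mul] at this
      obtain ⟨b, hb, r, hr, e⟩ := this
      exact ⟨b, hb, r, hr, e.symm⟩
    have hCA : fixS V A ≤ C := by
      intro v hv
      obtain ⟨a, ha, hna⟩ := SetLike.not_le_iff_exists.mp hAR
      obtain ⟨b, hb, r, hr, rfl⟩ := hdec a ha
      obtain ⟨w, hw, z, hz, rfl⟩ := AddSubgroup.mem_sup.mp (d.disp_sup_fix ▸ AddSubgroup.mem_top v)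
      have hz' : r • z ∈ fixS V L := by
        have := add_mem (hrd (mem_disp hr z)) hz
        rwa [sub_add_cancel] at this
      have e0 := hv _ ha
      rw [mul_smul, smul_add, hrf hw r hr, smul_add, hz' b (d.leL hb)] at e0
      have hbw : b • w - w = -(r • z - z) := by
        rw [neg_sub, sub_eq_sub_iff_add_eq_add, add_comm z w, e0]
      refine add_mem (by_contra fun hwC => hna ?_) (d.fixL_le hz)
      rw [d.nosing b hb w hwC (by rw [hbw]; exact neg_mem (hrd (mem_disp hr z))), one_mul]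
      exact hr
    set A₀ := A ⊓ rx p Q
    have h1 : Nat.card B * Nat.card (fixS V A) ≤ Nat.card ↥(disp V L ⊔ fixS V A) := by
      have e1 := card_sup_inf_add (disp V L) (fixS V B)
      have e2 := card_sup_inf_add (disp V L) (fixS V A)
      have hVtop : disp V L ⊔ fixS V B = ⊤ :=
        eq_top_iff.mpr (d.disp_sup_fix.ge.trans (sup_le_sup_left d.fixL_le _))
      rw [hVtop, AddSubgroup.card_top, d.cardV] at e1
      have hW : Nat.card (disp V L) = Nat.card B * Nat.card ↥(disp V L ⊓ fixS V B) :=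
        Nat.eq_of_mul_eq_mul_right (Nat.card_pos (α := fixS V B)) (by rw [e1]; ring)
      rw [hW] at e2
      refine Nat.le_of_mul_le_mul_right (c := Nat.card ↥(disp V L ⊓ fixS V B)) ?_ Nat.card_pos
      calc Nat.card B * Nat.card (fixS V A) * Nat.card ↥(disp V L ⊓ fixS V B)
          = Nat.card ↥(disp V L ⊔ fixS V A) * Nat.card ↥(disp V L ⊓ fixS V A) := by rw [← e2]; ring
        _ ≤ _ := Nat.mul_le_mul_left _ (AddSubgroup.card_le_of_le (inf_le_inf_left _ hCA))
    have h2 : Nat.card A ≤ Nat.card B * Nat.card A₀ := by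
      have e1 := card_mul_le_sup_inf A (rx p Q)
      have e2 : Nat.card ↥(B ⊔ rx p Q) ≤ Nat.card B * Nat.card (rx p Q) := by
        rw [← Nat.card_prod]
        refine Nat.card_le_card_of_surjective
          (fun q : B × rx p Q => (⟨q.1 * q.2, mul_mem_sup q.1.2 q.2.2⟩ : ↥(B ⊔ rx p Q))) fun z => ?_
        have := z.2
        rw [← SetLike.mem_coe, coe_mul_of_left_le_normalizer_right B (rx p Q)
          (h.norm.trans (normalizer_le_normalizer_rx Q)), Set.mem_mul] at this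
        obtain ⟨b, hb, r, hr, e⟩ := this
        exact ⟨(⟨b, hb⟩, ⟨r, hr⟩), Subtype.ext e⟩
      refine Nat.le_of_mul_le_mul_right (c := Nat.card (rx p Q)) (e1.trans ?_) Nat.card_pos
      calc Nat.card ↥(A ⊔ rx p Q) * Nat.card A₀
          ≤ Nat.card ↥(B ⊔ rx p Q) * Nat.card A₀ :=
            Nat.mul_le_mul_right _ (Subgroup.card_le_of_le (sup_le hAle le_sup_right))
        _ ≤ Nat.card B * Nat.card (rx p Q) * Nat.card A₀ := Nat.mul_le_mul_right _ e2
        _ = _ := by ring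
    have hA0 : A₀ = ⊥ := by
      by_contra h0
      have hlt := hA.2 A₀ inf_le_left h0 fun e => hAR (inf_eq_left.mp e)
      refine hlt.not_ge ?_
      have h3 : disp V L ⊔ fixS V A ≤ fixS V A₀ :=
        sup_le (hrf.trans (fixS_anti inf_le_right)) (fixS_anti inf_le_left)
      calc mS V A ≤ Nat.card B * Nat.card A₀ * Nat.card (fixS V A) := Nat.mul_le_mul_right _ h2
        _ = Nat.card A₀ * (Nat.card B * Nat.card (fixS V A)) := by ring
        _ ≤ _ := Nat.mul_le_mul_left _ (h1.trans (AddSubgroup.card_le_of_le h3))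
    rw [hA0, Subgroup.card_bot, mul_one] at h2
    have hoff := hA.1.2.2.2
    rw [d.cardV] at hoff
    have hCeq : fixS V A = C := by
      refine AddSubgroup.eq_of_le_of_card_ge hCA
        (Nat.le_of_mul_le_mul_left (hoff.trans (Nat.mul_le_mul_right _ h2)) Nat.card_pos)
    have hAB : A ≤ B := by
      intro a ha
      obtain ⟨b, hb, r, hr, rfl⟩ := hdec a ha
      have hrC : ∀ c ∈ C, r • c = c := fun c hc => by
        have e0 : (b * r) • c = c := (hCeq ▸ hc : c ∈ fixS V A) _ ha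
        rw [mul_smul, smul_eq_iff_eq_inv_smul, hc _ (inv_mem hb)] at e0
        exact e0
      rw [show r = 1 from hs.faith r fun v => by
        obtain ⟨w, hw, z, hz, rfl⟩ := AddSubgroup.mem_sup.mp (d.disp_sup_fix ▸ AddSubgroup.mem_top v)
        rw [smul_add, hrf hw r hr, hrC z (d.fixL_le hz)], mul_one]
      exact hb
    refine Subgroup.eq_of_le_of_card_ge hAB ?_
    unfold mS at hoff
    rw [hCeq] at hoff
    exact Nat.le_of_mul_le_mul_right hoff Nat.card_pos
  have hBY' : Y ≤ normalizer (B : Set P) := fun m hm' => by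
    refine mem_normalizer_of_cnj ((heq _ (h.min.cnj m) ?_).resolve_left fun hle => ?_)
    · rintro _ ⟨b, hb, rfl⟩
      exact hNle (subset_closure ⟨m, hm', b, hb, rfl⟩)
    · refine h.not_le_rx hs ?_
      have := cnj_mono hle m⁻¹
      rwa [cnj_inv_cnj, cnj_eq_self (inv_mem (normalizer_le_normalizer_rx Q (mem_inf.mp hm').1))] at this
  have hgen : ∀ x ∈ X, x ∉ M → B ⊔ cnj B x = L := by
    intro x hx hxM
    obtain ⟨a, ha, hmm⟩ := hlines x hx hxM
    set k := x⁻¹ * (a * y) with hk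
    have hkY : k ∈ Y := mem_inf.mpr ⟨mul_mem (inv_mem hx) (hay ha).1, hmm⟩
    rw [show x = (a * y) * k⁻¹ by rw [hk]; group, ← cnj_cnj, cnj_eq_self (inv_mem (hBY' hkY))]
    exact d.gen _ (mul_mem (d.leL ha) hyL) (hay ha).2
  have hcnjL : ∀ x ∈ X, cnj B x ≤ L := fun x hx => by
    by_cases hxM : x ∈ M
    · exact (cnj_eq_self (hBY' (mem_inf.mpr ⟨hx, hxM⟩))).le.trans d.leL
    · exact le_sup_right.trans (hgen x hx hxM).le
  refine ⟨L, ⟨d, hLX, fun g hg => mem_normalizer_of_le ?_, hBY', hgen, hrd, hrf, hrc, ?_, heq⟩⟩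
  · rw [hL, cnj_sup, cnj_cnj]
    exact sup_le (hcnjL g hg) (hcnjL _ (mul_mem hg hy.1))
  · intro x hx hxM z hz hzM
    obtain ⟨a, ha, hmm⟩ := hlines x hx hxM
    obtain ⟨c, hc, hmm'⟩ := hlines z (hLX hz) hzM
    refine ⟨a * c⁻¹, mul_mem ha (inv_mem hc), ?_⟩
    rw [show x⁻¹ * (a * c⁻¹ * z) = (x⁻¹ * (a * y)) * (z⁻¹ * (c * y))⁻¹ by group]
    exact mul_mem hmm (inv_mem hmm')

/-- There is only one offender completing `Q` to a pair. -/
theorem IsPair.unique {A : Subgroup P} (hB : IsPair p V T M Q B) (hA : IsPair p V T M Q A)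
    (hs : Setting p V T M) (hm : Moves p V T M) : A = B := by
  obtain ⟨L, dB⟩ := hB.exists_block hs hm
  obtain ⟨L', dA⟩ := hA.exists_block hs hm
  have hAY : A ≤ normalizer (Q : Set P) ⊓ M := le_inf hA.norm (hA.B_le.trans hs.le)
  have hBY : B ≤ normalizer (Q : Set P) ⊓ M := le_inf hB.norm (hB.B_le.trans hs.le)
  have hcomm : ∀ a ∈ A, ∀ b ∈ B, a * b = b * a := by
    by_cases hAB : A ⊓ B = ⊥
    · intro a ha b hb
      rw [← commutatorElement_eq_one_iff_mul_comm, ← Subgroup.mem_bot, ← hAB]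
      refine mem_inf.mpr ⟨?_, ?_⟩
      · rw [commutatorElement_def, show a * b * a⁻¹ * b⁻¹ = a * (b * a⁻¹ * b⁻¹) by group]
        exact mul_mem ha ((mem_normalizer_iff.mp (dA.normB (hBY hb)) _).mp (inv_mem ha))
      · rw [commutatorElement_def]
        exact mul_mem ((mem_normalizer_iff.mp (dB.normB (hAY ha)) _).mp hb) (inv_mem hb)
    · obtain ⟨c, hc, hc1⟩ := (A ⊓ B).bot_or_exists_ne_one.resolve_left hAB
      obtain ⟨hcA, hcB⟩ := mem_inf.mp hc
      have h1 : fixS V A ≤ fixS V B := fun v hv => by_contra fun hn =>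
        hc1 (dB.nosing c hcB v hn (by rw [hv c hcA, sub_self]; exact zero_mem _))
      have h2 : fixS V B ≤ fixS V A := fun v hv => by_contra fun hn =>
        hc1 (dA.nosing c hcA v hn (by rw [hv c hcB, sub_self]; exact zero_mem _))
      intro a ha b hb
      refine (inv_mul_eq_one.mp (hs.faith ((b * a)⁻¹ * (a * b)) fun v => ?_)).symm
      have e1 : a • (b • v - v) = b • v - v := h2 (dB.quad b hb v) a ha
      have e2 : b • (a • v - v) = a • v - v := h1 (dA.quad a ha v) b hb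
      rw [smul_sub, sub_eq_iff_eq_add] at e1 e2
      rw [mul_smul (b * a)⁻¹, mul_smul a b, e1, show b • v - v + a • v = a • v - v + b • v by abel,
        ← e2, ← mul_smul b a, inv_smul_smul]
  have hAle : A ≤ B ⊔ rx p Q := by
    have hAB : (A ⊔ B) ≤ normalizer (Q : Set P) ⊓ M := sup_le hAY hBY
    have hR : (A ⊔ B) ⊓ kern M Q ≤ rx p Q := by
      refine le_rx_of_normal_kern (T.2.to_le (inf_le_left.trans (sup_le hA.B_le hB.B_le)))
        inf_le_right ?_
      intro g hg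
      have hgY := kern_le M Q hg
      refine mem_normalizer_of_le ?_
      refine le_inf ((cnj_mono inf_le_left g).trans ?_) ((cnj_mono inf_le_right g).trans ?_)
      · rw [cnj_sup, cnj_eq_self (dA.normB hgY), cnj_eq_self (dB.normB hgY)]
      · exact (cnj_eq_self (le_normalizer hg)).le
    intro a ha
    obtain ⟨y, hy, hyM⟩ := SetLike.not_le_iff_exists.mp dB.notM
    have hay : a * y ∉ M := fun e =>
      hyM (by simpa using mul_mem (inv_mem (mem_inf.mp (hAY ha)).2) e)
    obtain ⟨b, hb, hmm⟩ := dB.lines _ (mul_mem (hA.norm ha) (dB.leX hy)) hay y hy hyM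
    set r := a⁻¹ * b with hr
    have hrAB : r ∈ A ⊔ B := mul_mem (inv_mem (mem_sup_left ha)) (mem_sup_right hb)
    have hry : y⁻¹ * r * y ∈ M := by
      rwa [show y⁻¹ * r * y = (a * y)⁻¹ * (b * y) by rw [hr]; group]
    have hrK : r ∈ kern M Q := by
      refine ⟨(mem_inf.mp (hAB hrAB)).1, fun x hx => ?_⟩
      by_cases hxM : x ∈ M
      · exact mul_mem (mul_mem (inv_mem hxM) (mem_inf.mp (hAB hrAB)).2) hxM
      obtain ⟨c, hc, hkk⟩ := dB.lines x hx hxM y hy hyM
      set k := x⁻¹ * (c * y) with hk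
      have e : x⁻¹ * r * x = k * (y⁻¹ * (c⁻¹ * r * c) * y) * k⁻¹ := by rw [hk]; group
      have hrc : r * c = c * r := by
        rw [hr, mul_assoc, hB.min.1.2.1 b hb c hc, ← mul_assoc, hcomm a⁻¹ (inv_mem ha) c hc, mul_assoc]
      rw [e, show c⁻¹ * r * c = r by rw [mul_assoc, hrc, inv_mul_cancel_left]]
      exact mul_mem (mul_mem hkk hry) (inv_mem hkk)
    rw [show a = b * r⁻¹ by
      have hab : a * b = b * a := hcomm a ha b hb
      rw [hr, mul_inv_rev, inv_inv, ← mul_assoc, eq_comm, mul_assoc, show b * (b⁻¹ * a) = a by group]]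
    exact mul_mem_sup hb (inv_mem (hR (mem_inf.mpr ⟨hrAB, hrK⟩)))
  exact (dB.eq_or_le A hA.min hAle).resolve_left (hA.not_le_rx hs)

end Cfsg.Agent.H11.PMinFF
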