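import Cfsg.Agent.H11.PMinFF.Normal
import Cfsg.Agent.FusionSys.StronglyEmbedded

/-!
All minimal offenders in a Sylow subgroup commute and are conjugate under it; each of them has a
special linear group of dimension two centralised by all the others.
-/

set_option autoImplicit false

namespace Cfsg.Agent.H11.PMinFF

open Subgroup Cfsg.Agent.H63 Cfsg.Agent.H31.SL2Pair

universe u v

variable {P : Type u} [Group P] {p : ℕ}

/-- The minimal offenders in `T`. -/
def offs (p : ℕ) (V : Type v) [AddCommGroup V] [DistribMulAction P V] (T : Subgroup P) :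
    Set (Subgroup P) :=
  {A | IsMinOff p V A ∧ A ≤ T}

/-- The join of the other minimal offenders in `T`. -/
def others (p : ℕ) (V : Type v) [AddCommGroup V] [DistribMulAction P V] (T A : Subgroup P) :
    Subgroup P :=
  sSup (offs p V T \ {A})

/-- The group generated by the conjugates of `A` under the normalizer of the others. -/
def blk (p : ℕ) (V : Type v) [AddCommGroup V] [DistribMulAction P V] (T A : Subgroup P) : Subgroup P :=
  ⨆ x : normalizer (others p V T A : Set P), cnj A x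

variable {V : Type v} [AddCommGroup V] [DistribMulAction P V]

theorem sSup_offs_le (T : Subgroup P) {S : Set (Subgroup P)} (hS : S ⊆ offs p V T) : sSup S ≤ T :=
  sSup_le fun _ hA => (hS hA).2

theorem cnj_mem_offs {T A : Subgroup P} (h : A ∈ offs p V T) {t : P} (ht : t ∈ T) :
    cnj A t ∈ offs p V T :=
  ⟨h.1.cnj t, (cnj_mono h.2 t).trans (cnj_eq_self (le_normalizer ht)).le⟩

theorem cnj_others {T A : Subgroup P} {t : P} (ht : t ∈ T) :
    cnj (others p V T A) t = others p V T (cnj A t) := by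
  rw [others, others, cnj_sSup]
  refine congrArg sSup (Set.ext fun X => ⟨?_, fun hX => ?_⟩)
  · rintro ⟨Y, hY, rfl⟩
    exact ⟨cnj_mem_offs hY.1 ht, fun e => hY.2 (cnj_injective t (Set.mem_singleton_iff.mp e))⟩
  · refine ⟨cnj X t⁻¹, ⟨cnj_mem_offs hX.1 (inv_mem ht), fun e => hX.2 ?_⟩, cnj_cnj_inv X t⟩
    rw [Set.mem_singleton_iff] at e ⊢
    rw [← cnj_cnj_inv X t, e]

theorem cnj_normalizer (Q : Subgroup P) (t : P) :
    cnj (normalizer (Q : Set P)) t = normalizer (cnj Q t : Set P) :=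
  map_equiv_normalizer_eq Q (MulAut.conj t)

variable [Finite P] [Finite V] [Fact p.Prime] {T : Sylow p P} {M : Subgroup P}

omit [Finite V] in
theorem IsPair.cnj {Q B : Subgroup P} (h : IsPair p V T M Q B) (hs : Setting p V T M) {t : P}
    (ht : t ∈ (T : Subgroup P)) : IsPair p V T M (PMinFF.cnj Q t) (PMinFF.cnj B t) where
  min := h.min.cnj t
  le := by
    rw [← cnj_sup]
    exact (cnj_mono h.le t).trans (cnj_eq_self (le_normalizer ht)).le
  norm := by
    rw [← cnj_normalizer]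
    exact cnj_mono h.norm t
  only := by
    rw [← cnj_sup]
    exact h.only.cnj (hs.le ht)
  out := fun hle => by
    rw [← cnj_normalizer, cnj_le_iff, cnj_eq_self (inv_mem (le_normalizer (hs.le ht)))] at hle
    exact h.out hle

omit [Finite V] in
theorem only_sSup_offs (hs : Setting p V T M) (hne : (offs p V (T : Subgroup P)).Nonempty) :
    Only M (sSup (offs p V (T : Subgroup P))) := by
  set J := sSup (offs p V (T : Subgroup P)) with hJdef
  have hJT : J ≤ (T : Subgroup P) := sSup_offs_le _ le_rfl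
  have hTN : (T : Subgroup P) ≤ normalizer (J : Set P) := fun t ht => mem_normalizer_of_le (by
    rw [hJdef, cnj_sSup]
    exact sSup_le (by rintro _ ⟨A, hA, rfl⟩; exact le_sSup (cnj_mem_offs hA ht)))
  have hN : normalizer (J : Set P) ≠ ⊤ := fun h => by
    haveI : J.Normal := normalizer_eq_top_iff.mp h
    obtain ⟨A, hA⟩ := hne
    refine hA.1.1.1 (le_bot_iff.mp ((le_sSup hA : A ≤ J).trans ?_))
    rw [← hs.core]
    exact Cores.le_pCore (T.2.to_le hJT)
  intro g hg
  obtain ⟨m, hm, hmT⟩ := hs.exists_conj (isPGroup_cnj (T.2.to_le hJT) g) hg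
  rw [cnj_cnj] at hmT
  have : m * g ∈ normalizer (J : Set P) := mem_normalizer_of_le (by
    conv_lhs => rw [hJdef, cnj_sSup]
    refine sSup_le ?_
    rintro _ ⟨A, hA, rfl⟩
    exact le_sSup ⟨hA.1.cnj _, (cnj_mono (le_sSup hA) _).trans hmT⟩)
  simpa using mul_mem (inv_mem hm) (hs.above _ hTN hN this)

omit [Finite V] in
theorem exists_normalising (T : Sylow p P) {S : Set (Subgroup P)} (hS : S ⊆ offs p V (T : Subgroup P))
    (hne : ∃ A ∈ offs p V (T : Subgroup P), ¬ A ≤ sSup S) :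
    ∃ B ∈ offs p V (T : Subgroup P), ¬ B ≤ sSup S ∧ B ≤ normalizer ((sSup S : Subgroup P) : Set P) := by
  by_contra hno
  push_neg at hno
  set Q := sSup S with hQ
  set J := sSup (offs p V (T : Subgroup P)) with hJ
  have hJN : ¬ J ≤ normalizer (Q : Set P) := fun h => by
    obtain ⟨A, hA, hAQ⟩ := hne
    exact hno A hA hAQ ((le_sSup hA).trans h)
  have hlt : J ⊓ normalizer (Q : Set P) < J :=
    lt_of_le_of_ne inf_le_left fun e => hJN (inf_eq_left.mp e)
  obtain ⟨g, hg, hgN⟩ := SetLike.exists_of_lt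
    (FusionSys.lt_inf_normalizer_of_lt (T.2.to_le (sSup_offs_le _ le_rfl)) hlt)
  obtain ⟨hgJ, hgNN⟩ := mem_inf.mp hg
  refine hgN (mem_inf.mpr ⟨hgJ, mem_normalizer_of_le ?_⟩)
  rw [hQ, cnj_sSup]
  refine sSup_le ?_
  rintro _ ⟨A, hA, rfl⟩
  have hAN : A ≤ J ⊓ normalizer (Q : Set P) := le_inf (le_sSup (hS hA)) ((le_sSup hA).trans le_normalizer)
  refine by_contra fun hnle => hno _ (cnj_mem_offs (hS hA) (sSup_offs_le _ le_rfl hgJ)) hnle ?_
  exact ((cnj_mono hAN g).trans (cnj_eq_self hgNN).le).trans inf_le_right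

/-- A subgroup generated by minimal offenders in `T` of largest order lying in two conjugates. -/
structure IsMax (p : ℕ) (V : Type v) [AddCommGroup V] [DistribMulAction P V] (T M Q : Subgroup P) :
    Prop where
  gen : ∃ S ⊆ offs p V T, Q = sSup S
  notOnly : ¬ Only M Q
  max : ∀ S ⊆ offs p V T, ¬ Only M (sSup S) → Nat.card ↥(sSup S) ≤ Nat.card Q

omit [Finite V] [Fact p.Prime] in
theorem exists_isMax (hM : M ≠ ⊤) (T : Subgroup P) : ∃ Q, IsMax p V T M Q := by
  classical
  haveI : Fintype P := Fintype.ofFinite P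
  obtain ⟨Q, hQ, hmax⟩ := Finset.exists_max_image
    (Finset.univ.filter fun Q : Subgroup P => (∃ S ⊆ offs p V T, Q = sSup S) ∧ ¬ Only M Q)
    (fun Q => Nat.card Q)
    ⟨⊥, Finset.mem_filter.mpr ⟨Finset.mem_univ _, ⟨∅, Set.empty_subset _, sSup_empty.symm⟩, fun h =>
      hM (eq_top_iff.mpr fun g _ => h g (by rw [cnj_bot]; exact bot_le))⟩⟩
  obtain ⟨-, hgen, hno⟩ := Finset.mem_filter.mp hQ
  exact ⟨Q, hgen, hno, fun S hS h =>
    hmax _ (Finset.mem_filter.mpr ⟨Finset.mem_univ _, ⟨S, hS, rfl⟩, h⟩)⟩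

omit [Finite V] in
theorem IsMax.isPair {Q A : Subgroup P} (hQ : IsMax p V (T : Subgroup P) M Q) (hs : Setting p V T M)
    (hA : A ∈ offs p V (T : Subgroup P)) (hAQ : ¬ A ≤ Q) (hAn : A ≤ normalizer (Q : Set P)) :
    IsPair p V T M Q A := by
  obtain ⟨S, hS, rfl⟩ := hQ.gen
  have hQT := sSup_offs_le _ hS
  refine ⟨hA.1, sup_le hQT hA.2, hAn, ?_, fun hle => ?_⟩
  · by_contra h
    have e : sSup (insert A S) = sSup S ⊔ A := by rw [sSup_insert, sup_comm]
    have hcard := hQ.max _ (Set.insert_subset hA hS) (by rwa [e])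
    rw [e] at hcard
    exact hAQ (le_sup_right.trans (Subgroup.eq_of_le_of_card_ge le_sup_left hcard).ge)
  have hno : ∃ g, PMinFF.cnj (sSup S) g ≤ M ∧ g ∉ M := by
    by_contra h
    push_neg at h
    exact hQ.notOnly h
  obtain ⟨g, hgM, hgnM⟩ := hno
  obtain ⟨m, hm, hmT⟩ := hs.exists_conj (isPGroup_cnj (T.2.to_le hQT) g) hgM
  rw [cnj_cnj] at hmT
  set k := m * g
  have hk : k ∉ M := fun h => hgnM (by simpa [k] using mul_mem (inv_mem hm) h)
  have hk' : k⁻¹ ∉ M := fun h => hk (inv_mem_iff.mp h)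
  set S' : Set (Subgroup P) := (fun X => PMinFF.cnj X k) '' S with hS'def
  have hS' : S' ⊆ offs p V (T : Subgroup P) := by
    rintro _ ⟨X, hX, rfl⟩
    exact ⟨(hS hX).1.cnj k, (cnj_mono (le_sSup hX) k).trans hmT⟩
  have hQ' : sSup S' = PMinFF.cnj (sSup S) k := (cnj_sSup S k).symm
  have hback : PMinFF.cnj (sSup S') k⁻¹ ≤ M := by
    rw [hQ', cnj_inv_cnj]
    exact hQT.trans hs.le
  obtain ⟨A', hA', hA'Q, hA'n⟩ := exists_normalising T hS' (by
    by_contra h
    push_neg at h
    exact hk' ((only_sSup_offs hs ⟨A, hA⟩).mono (sSup_le h) _ hback))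
  have hA''n : PMinFF.cnj A' k⁻¹ ≤ normalizer ((sSup S : Subgroup P) : Set P) := by
    refine (cnj_mono hA'n k⁻¹).trans ?_
    rw [cnj_normalizer, hQ', cnj_inv_cnj]
  have h1 : ¬ Only M (sSup S' ⊔ A') := fun h => hk' (h _ (by
    rw [cnj_sup]
    exact sup_le hback (hA''n.trans hle)))
  have e : sSup (insert A' S') = sSup S' ⊔ A' := by rw [sSup_insert, sup_comm]
  have hcard := hQ.max _ (Set.insert_subset hA' hS') (by rwa [e])
  rw [e, ← card_cnj (sSup S) k, ← hQ'] at hcard
  exact hA'Q (le_sup_right.trans (Subgroup.eq_of_le_of_card_ge le_sup_left hcard).ge)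

/-- An offender normalising `QB` fixes `B`. -/
theorem mem_normalizer_of_normalises_sup {Q B A L : Subgroup P} (hs : Setting p V T M)
    (hm : Moves p V T M) (d : Block p V M Q B L) (hQrx : Q ≤ rx p Q) (hQT : Q ≤ (T : Subgroup P))
    (hA : A ∈ offs p V (T : Subgroup P))
    (hmove : ∀ a ∈ A, cnj B a = B ∨ cnj B a ≤ Q)
    (hstab : ∀ a ∈ A, a ∈ normalizer (B : Set P) → a ∈ normalizer (Q : Set P)) :
    A ≤ normalizer (B : Set P) := by
  classical
  by_contra hne
  obtain ⟨a₀, ha₀, ha₀B⟩ := SetLike.not_le_iff_exists.mp hne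
  set A₁ := A ⊓ normalizer (B : Set P) with hA₁
  have hout : ∀ a ∈ A, a ∉ A₁ → cnj B a ≤ Q := fun a ha hn =>
    (hmove a ha).resolve_left fun e => hn (mem_inf.mpr ⟨ha, mem_normalizer_of_cnj e⟩)
  set W := disp V L
  set Z := fixS V L
  set D := disp V B
  have hDZ : ∀ a ∈ A, a ∉ A₁ → ∀ x ∈ D, a • x ∈ Z := fun a ha hn x hx =>
    d.rx_disp (disp_mono ((hout a ha hn).trans hQrx) (by rw [disp_cnj]; exact smul_mem_tr hx))
  have hq : 1 < Nat.card B := by
    obtain ⟨y, hy, hyM⟩ := SetLike.not_le_iff_exists.mp d.notM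
    refine B.one_lt_card_iff_ne_bot.mpr fun e => hyM ?_
    have := d.gen y hy hyM
    rw [e, cnj_bot, bot_sup_eq] at this
    rw [← this] at hy
    rw [Subgroup.mem_bot.mp hy]
    exact one_mem M
  obtain ⟨w, hwD, hwZ⟩ : ∃ w ∈ D, w ∉ Z := by
    by_contra hno
    push_neg at hno
    have hCZ := d.fix_eq
    rw [sup_eq_right.mpr (show disp V B ≤ fixS V L from hno)] at hCZ
    have := d.cardC
    rw [hCZ] at this
    exact (lt_mul_left (Nat.card_pos (α := fixS V L)) hq).ne this
  have hquad := hA.1.quad hs.char hs.faith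
  have htwo : ∀ a ∈ A, a ∉ A₁ → ∀ a' ∈ A, a' ∉ A₁ → a' * a ∈ A₁ := by
    intro a ha hn a' ha' hn'
    by_contra hn''
    refine hwZ ?_
    have h1 := hquad a ha w a' ha'
    rw [smul_sub, ← mul_smul] at h1
    have e : w = a • w + a' • w - (a' * a) • w := by
      rw [eq_sub_iff_add_eq, sub_eq_iff_eq_add.mp h1]
      abel
    rw [e]
    exact sub_mem (add_mem (hDZ a ha hn w hwD) (hDZ a' ha' hn' w hwD))
      (hDZ _ (mul_mem ha' ha) hn'' w hwD)
  have ha₀1 : a₀ ∉ A₁ := fun h => ha₀B (mem_inf.mp h).2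
  have hcard : Nat.card A ≤ 2 * Nat.card A₁ := by
    have : Nat.card (A₁ × Bool) = 2 * Nat.card A₁ := by
      rw [Nat.card_prod, mul_comm, Nat.card_eq_fintype_card (α := Bool), Fintype.card_bool]
    rw [← this]
    refine Nat.card_le_card_of_injective (fun a : A =>
      if h : (a : P) ∈ A₁ then ((⟨a, h⟩ : A₁), false)
      else ((⟨(a : P) * a₀, htwo a₀ ha₀ ha₀1 a a.2 h⟩ : A₁), true)) fun a a' e => ?_
    dsimp only at e
    split_ifs at e with h h' h'
    all_goals
      first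
        | (have := congrArg (fun q : A₁ × Bool => (q.1 : P)) e
           exact Subtype.ext (by simpa using this))
        | (simp at e)
  have hWaW : ∀ x ∈ W, a₀⁻¹ • x ∈ W → x ∈ Z := by
    intro x hx hax
    have hC : a₀⁻¹ • x ∈ fixS V B := fun b hb => by
      have h1 := d.rx_fix hx (a₀ * b * a₀⁻¹) (hQrx (hout a₀ ha₀ ha₀1 (conj_mem_cnj a₀ hb)))
      rw [mul_smul, mul_smul, smul_eq_iff_eq_inv_smul] at h1
      exact h1
    have hD : a₀⁻¹ • x ∈ D := d.disp_inf_fix.le (AddSubgroup.mem_inf.mpr ⟨hax, hC⟩)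
    simpa using hDZ a₀ ha₀ ha₀1 _ hD
  have hA₁X : A₁ ≤ normalizer (L : Set P) := fun a ha =>
    d.normal (hstab a (mem_inf.mp ha).1 (mem_inf.mp ha).2)
  have hfixa : ∀ x : V, a₀ • x = x → a₀⁻¹ • x = x := fun x h => inv_smul_eq_iff.mpr h.symm
  have hA₁Z : A₁ ≤ trivOn P Z := by
    intro a ha v
    obtain ⟨w, hw, z, hz, rfl⟩ := AddSubgroup.mem_sup.mp (d.disp_sup_fix ▸ AddSubgroup.mem_top v)
    rw [smul_add, add_sub_add_comm]
    refine add_mem (hWaW _ ?_ ?_) (sub_mem (smul_mem_fixS (hA₁X ha) hz) hz)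
    · exact sub_mem (smul_mem_disp (hA₁X ha) hw) hw
    · rw [hfixa _ (hquad a (mem_inf.mp ha).1 w a₀ ha₀)]
      exact sub_mem (smul_mem_disp (hA₁X ha) hw) hw
  have hA₁L : L ≤ normalizer (A₁ : Set P) := by
    have key : ∀ g ∈ L, ∀ a ∈ A₁, g * a * g⁻¹ = a := by
      intro g hg a ha
      have h1 : g * a * g⁻¹ * a⁻¹ ∈ trivOn P Z := by
        refine mul_mem (fun v => ?_) (inv_mem (hA₁Z ha))
        rw [mul_smul, mul_smul, show g • a • g⁻¹ • v - v = g • (a • g⁻¹ • v - g⁻¹ • v) by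
          rw [smul_sub, smul_inv_smul]]
        rw [(hA₁Z ha (g⁻¹ • v)) g hg]
        exact hA₁Z ha _
      have h2 : g * a * g⁻¹ * a⁻¹ ∈ L := by
        rw [show g * a * g⁻¹ * a⁻¹ = g * (a * g⁻¹ * a⁻¹) by group]
        exact mul_mem hg ((mem_normalizer_iff.mp (hA₁X ha) _).mp (inv_mem hg))
      exact mul_inv_eq_one.mp (d.eq_one_of_trivial h2 h1)
    refine fun g hg => mem_normalizer_iff.mpr fun a => ⟨fun ha => by rwa [key g hg a ha], fun ha => ?_⟩
    have := key g⁻¹ (inv_mem hg) _ ha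
    rw [show g⁻¹ * (g * a * g⁻¹) * g⁻¹⁻¹ = a by group] at this
    rwa [this]
  have hWA₁ : W ≤ fixS V A₁ := d.disp_le_of_invariant (fun g hg s hs => smul_mem_fixS (hA₁L hg) hs) fun hle => by
    obtain ⟨v, hv, g, hg, hgv⟩ := hm.exists_fix hs T.2 hs.le d.notM
    exact hgv (hle (fixS_anti (inf_le_left.trans hA.2) hv) g hg)
  have hWC : W ⊓ fixS V A ≤ W ⊓ Z := by
    intro x hx
    obtain ⟨hxW, hxA⟩ := AddSubgroup.mem_inf.mp hx
    exact AddSubgroup.mem_inf.mpr ⟨hxW, hWaW x hxW (by rw [hxA _ (inv_mem ha₀)]; exact hxW)⟩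
  have hbig : Nat.card B * Nat.card B * Nat.card (fixS V A) ≤ Nat.card (fixS V A₁) := by
    have e1 := card_sup_inf_add W Z
    rw [d.disp_sup_fix, AddSubgroup.card_top, d.cardV, d.cardC] at e1
    have hW : Nat.card W = Nat.card B * Nat.card B * Nat.card ↥(W ⊓ Z) :=
      Nat.eq_of_mul_eq_mul_right (Nat.card_pos (α := Z)) (by rw [e1]; ring)
    have e2 := card_sup_inf_add W (fixS V A)
    rw [hW] at e2
    refine Nat.le_of_mul_le_mul_right (c := Nat.card ↥(W ⊓ Z)) ?_ Nat.card_pos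
    calc Nat.card B * Nat.card B * Nat.card (fixS V A) * Nat.card ↥(W ⊓ Z)
        = Nat.card ↥(W ⊔ fixS V A) * Nat.card ↥(W ⊓ fixS V A) := by rw [← e2]; ring
      _ ≤ _ := Nat.mul_le_mul (AddSubgroup.card_le_of_le (sup_le hWA₁ (fixS_anti inf_le_left)))
          (AddSubgroup.card_le_of_le hWC)
  have hle : mS V A₁ ≤ mS V A := by
    rcases eq_or_ne A₁ ⊥ with h | h
    · rw [h]
      refine le_trans ?_ hA.1.1.2.2.2
      simp only [mS, Subgroup.card_bot, one_mul]
      exact Nat.card_le_card_of_injective _ Subtype.val_injective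
    · exact (hA.1.2 A₁ inf_le_left h fun e => ha₀1 (e ▸ ha₀)).le
  have h4 : 4 ≤ Nat.card B * Nat.card B := Nat.mul_le_mul hq hq
  have hpos : 0 < mS V A := Nat.mul_pos Nat.card_pos Nat.card_pos
  have hgt : 2 * mS V A ≤ mS V A₁ := by
    calc 2 * mS V A = 2 * Nat.card A * Nat.card (fixS V A) := by rw [mS]; ring
      _ ≤ 4 * Nat.card A₁ * Nat.card (fixS V A) := Nat.mul_le_mul_right _ (by omega)
      _ = Nat.card A₁ * (4 * Nat.card (fixS V A)) := by ring
      _ ≤ _ := Nat.mul_le_mul_left _ ((Nat.mul_le_mul_right _ h4).trans hbig)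
  omega

/-- A pair whose complement contains every other offender. -/
theorem exists_pair (hs : Setting p V T M) (hm : Moves p V T M)
    (hne : (offs p V (T : Subgroup P)).Nonempty) :
    ∃ B ∈ offs p V (T : Subgroup P), IsPair p V T M (others p V (T : Subgroup P) B) B := by
  obtain ⟨Q, hQ⟩ := exists_isMax (p := p) (V := V) hs.coatom.1 (T : Subgroup P)
  obtain ⟨S, hS, hQS⟩ := id hQ.gen
  have hQT : Q ≤ (T : Subgroup P) := hQS ▸ sSup_offs_le _ hS
  obtain ⟨B, hB, hBQ, hBn⟩ := exists_normalising T hS (by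
    by_contra h
    push_neg at h
    exact hQ.notOnly (hQS ▸ (only_sSup_offs hs hne).mono (sSup_le h)))
  rw [← hQS] at hBQ hBn
  have hpair := hQ.isPair hs hB hBQ hBn
  obtain ⟨L, d⟩ := hpair.exists_block hs hm
  have huniq : ∀ X ∈ offs p V (T : Subgroup P), X ≤ normalizer (Q : Set P) → X ≤ Q ∨ X = B :=
    fun X hX hXn => (em (X ≤ Q)).imp_right fun hXQ => hpair.unique (hQ.isPair hs hX hXQ hXn) hs hm
  have hmem : ∀ A ∈ offs p V (T : Subgroup P), A ≤ normalizer ((Q ⊔ B : Subgroup P) : Set P) →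
      A ≤ Q ⊔ B := by
    intro A hA hAn
    have hconj : ∀ a ∈ A, ∀ X ∈ offs p V (T : Subgroup P), X ≤ Q ⊔ B →
        cnj X a ≤ Q ∨ cnj X a = B := fun a ha X hX hXle =>
      huniq _ (cnj_mem_offs hX (hA.2 ha))
        (((cnj_mono hXle a).trans (cnj_eq_self (hAn ha)).le).trans (sup_le le_normalizer hBn))
    have hstab : ∀ a ∈ A, a ∈ normalizer (B : Set P) → a ∈ normalizer (Q : Set P) := fun a ha haB =>
      mem_normalizer_of_le (by
        conv_lhs => rw [hQS, cnj_sSup]
        refine sSup_le ?_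
        rintro _ ⟨X, hX, rfl⟩
        have hXQ : X ≤ Q := hQS ▸ le_sSup hX
        exact (hconj a ha X (hS hX) (hXQ.trans le_sup_left)).resolve_right fun e =>
          hBQ (cnj_injective a (e.trans (cnj_eq_self haB).symm) ▸ hXQ))
    have hfix := mem_normalizer_of_normalises_sup hs hm d hpair.Q_le_rx hQT hA
      (fun a ha => (hconj a ha B hB le_sup_right).symm) hstab
    exact (huniq A hA fun a ha => hstab a ha (hfix ha)).elim (fun h => h.trans le_sup_left)
      fun h => h ▸ le_sup_right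
  have e : sSup (insert B S) = Q ⊔ B := by rw [sSup_insert, sup_comm, ← hQS]
  have hall : ∀ A ∈ offs p V (T : Subgroup P), A ≤ Q ⊔ B := by
    by_contra h
    push_neg at h
    obtain ⟨A, hA, hAle, hAn⟩ := exists_normalising T (Set.insert_subset hB hS) (by rw [e]; exact h)
    rw [e] at hAle hAn
    exact hAle (hmem A hA hAn)
  have hothers : others p V (T : Subgroup P) B = Q := by
    refine le_antisymm (sSup_le ?_) (hQS ▸ sSup_le_sSup fun X hX => ⟨hS hX, fun e => hBQ ?_⟩)
    · rintro A ⟨hA, hAB⟩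
      exact (huniq A hA ((hall A hA).trans (sup_le le_normalizer hBn))).resolve_right fun e => hAB e
    · rw [Set.mem_singleton_iff] at e
      exact e ▸ hQS ▸ le_sSup hX
  exact ⟨B, hB, hothers.symm ▸ hpair⟩

/-- The minimal offenders in `T` are conjugate under `T`. -/
theorem exists_conj_offs (hs : Setting p V T M) (hm : Moves p V T M) {B : Subgroup P}
    (hB : B ∈ offs p V (T : Subgroup P)) (hpair : IsPair p V T M (others p V (T : Subgroup P) B) B)
    {A : Subgroup P} (hA : A ∈ offs p V (T : Subgroup P)) : ∃ t ∈ (T : Subgroup P), A = cnj B t := by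
  by_contra hno
  push_neg at hno
  obtain ⟨L, d⟩ := hpair.exists_block hs hm
  set U := ⨆ t : (T : Subgroup P), cnj A (t : P) with hU
  have hUT : U ≤ (T : Subgroup P) := iSup_le fun t => (cnj_mem_offs hA t.2).2
  have hTU : (T : Subgroup P) ≤ normalizer (U : Set P) := fun t ht => mem_normalizer_of_le (by
    rw [cnj_le_iff, hU]
    refine iSup_le fun s => ?_
    rw [← cnj_le_iff, cnj_cnj]
    exact le_iSup (fun t : (T : Subgroup P) => cnj A (t : P)) ⟨t * s, mul_mem ht s.2⟩)
  have hUQ : U ≤ others p V (T : Subgroup P) B := iSup_le fun t =>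
    le_sSup ⟨cnj_mem_offs hA t.2, fun e => hno _ (inv_mem t.2) (by
      rw [← Set.mem_singleton_iff.mp e, cnj_inv_cnj])⟩
  have hLU : L ≤ normalizer (U : Set P) := fun g hg => mem_normalizer_iff.mpr fun x => by
    have key : ∀ y ∈ U, g * y * g⁻¹ = y := fun y hy => by
      rw [← d.rx_comm y (hpair.Q_le_rx (hUQ hy)) g hg, mul_inv_cancel_right]
    refine ⟨fun hx => by rwa [key x hx], fun hx => ?_⟩
    have h1 : g * (g * x * g⁻¹) * g⁻¹ = g * x * g⁻¹ := key _ hx
    have h2 : g * x * g⁻¹ = x := mul_left_cancel (mul_right_cancel h1)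
    rwa [h2] at hx
  have htop : normalizer (U : Set P) = ⊤ := by
    by_contra hne
    exact d.notM (hLU.trans (hs.above _ hTU hne))
  haveI : U.Normal := normalizer_eq_top_iff.mp htop
  refine hA.1.1.1 (le_bot_iff.mp ((?_ : A ≤ U).trans ?_))
  · have := le_iSup (fun t : (T : Subgroup P) => cnj A (t : P)) 1
    rwa [OneMemClass.coe_one, cnj_one] at this
  · rw [← hs.core]
    exact Cores.le_pCore (T.2.to_le hUT)

theorem isPair_others (hs : Setting p V T M) (hm : Moves p V T M) {A : Subgroup P}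
    (hA : A ∈ offs p V (T : Subgroup P)) : IsPair p V T M (others p V (T : Subgroup P) A) A := by
  obtain ⟨B, hB, hpair⟩ := exists_pair hs hm ⟨A, hA⟩
  obtain ⟨t, ht, rfl⟩ := exists_conj_offs hs hm hB hpair hA
  rw [← cnj_others ht]
  exact hpair.cnj hs ht

theorem offs_conj (hs : Setting p V T M) (hm : Moves p V T M) {A B : Subgroup P}
    (hA : A ∈ offs p V (T : Subgroup P)) (hB : B ∈ offs p V (T : Subgroup P)) :
    ∃ t ∈ (T : Subgroup P), A = cnj B t :=
  exists_conj_offs hs hm hB (isPair_others hs hm hB) hA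

theorem block_blk (hs : Setting p V T M) (hm : Moves p V T M) {A : Subgroup P}
    (hA : A ∈ offs p V (T : Subgroup P)) :
    Block p V M (others p V (T : Subgroup P) A) A (blk p V (T : Subgroup P) A) := by
  obtain ⟨L, d⟩ := (isPair_others hs hm hA).exists_block hs hm
  suffices h : blk p V (T : Subgroup P) A = L from h ▸ d
  refine le_antisymm (iSup_le fun x => ?_) ?_
  · exact (cnj_mono d.leL (x : P)).trans (cnj_eq_self (d.normal x.2)).le
  · obtain ⟨y, hy, hyM⟩ := SetLike.not_le_iff_exists.mp d.notM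
    rw [← d.gen y hy hyM]
    refine sup_le ?_ (le_iSup (fun x : normalizer (others p V (T : Subgroup P) A : Set P) => cnj A (x : P))
      ⟨y, d.leX hy⟩)
    have := le_iSup (fun x : normalizer (others p V (T : Subgroup P) A : Set P) => cnj A (x : P)) 1
    rwa [OneMemClass.coe_one, cnj_one] at this

theorem le_others {A B : Subgroup P} (hB : B ∈ offs p V (T : Subgroup P)) (hne : B ≠ A) :
    B ≤ others p V (T : Subgroup P) A := le_sSup ⟨hB, hne⟩

theorem offs_comm (hs : Setting p V T M) (hm : Moves p V T M) {A B : Subgroup P}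
    (hA : A ∈ offs p V (T : Subgroup P)) (hB : B ∈ offs p V (T : Subgroup P)) {a b : P} (ha : a ∈ A)
    (hb : b ∈ B) : a * b = b * a := by
  rcases eq_or_ne B A with rfl | hne
  · exact hA.1.1.2.1 a ha b hb
  · exact ((block_blk hs hm hA).rx_comm b ((isPair_others hs hm hA).Q_le_rx (le_others hB hne hb)) a
      ((block_blk hs hm hA).leL ha)).symm

end Cfsg.Agent.H11.PMinFF
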