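import Cfsg.Agent.H11.PMinFF.Basic

/-!
A minimal offender `B` and a subgroup `Q` such that `QB` lies in only one conjugate of `M` while
`N(Q)` is not in `M`: the special linear group of dimension two inside `N(Q)`.
-/

set_option autoImplicit false

namespace Cfsg.Agent.H11.PMinFF

open Subgroup Cfsg.Agent.H63 Cfsg.Agent.H31.SL2Pair

universe u v

variable {P : Type u} [Group P] {V : Type v} [AddCommGroup V] [DistribMulAction P V]
variable {p : ℕ}

/-- A pair `(Q, B)`. -/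
structure IsPair (p : ℕ) (V : Type v) [AddCommGroup V] [DistribMulAction P V] (T : Sylow p P)
    (M Q B : Subgroup P) : Prop where
  min : IsMinOff p V B
  le : Q ⊔ B ≤ (T : Subgroup P)
  norm : B ≤ normalizer (Q : Set P)
  only : Only M (Q ⊔ B)
  out : ¬ normalizer (Q : Set P) ≤ M

/-- The largest normal p-subgroup of the normalizer of `Q`. -/
def rx (p : ℕ) (Q : Subgroup P) : Subgroup P :=
  (Cfsg.pCore p ↥(normalizer (Q : Set P))).map (normalizer (Q : Set P)).subtype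

theorem rx_le (Q : Subgroup P) : rx p Q ≤ normalizer (Q : Set P) := map_subtype_le _

theorem isPGroup_rx (Q : Subgroup P) : IsPGroup p (rx p Q) := Cores.pCore_isPGroup.map _

theorem le_rx {Q R : Subgroup P} (hR : IsPGroup p R) (hle : R ≤ normalizer (Q : Set P))
    (hn : normalizer (Q : Set P) ≤ normalizer (R : Set P)) : R ≤ rx p Q := by
  set X := normalizer (Q : Set P)
  haveI : (R.subgroupOf X).Normal := (normal_subgroupOf_iff_le_normalizer hle).mpr hn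
  calc R = (R.subgroupOf X).map X.subtype := by rw [subgroupOf_map_subtype, inf_eq_left.mpr hle]
    _ ≤ _ := map_mono (Cores.le_pCore hR.comap_subtype)

theorem normalizer_le_normalizer_rx (Q : Subgroup P) :
    normalizer (Q : Set P) ≤ normalizer (rx p Q : Set P) := fun g hg =>
  mem_normalizer_iff.mpr fun x => by
    constructor
    · rintro ⟨r, hr, rfl⟩
      exact ⟨⟨g, hg⟩ * r * ⟨g, hg⟩⁻¹,
        (Cfsg.pCore_normal p ↥(normalizer (Q : Set P))).conj_mem r hr ⟨g, hg⟩, rfl⟩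
    · rintro ⟨r, hr, e⟩
      refine ⟨⟨g, hg⟩⁻¹ * r * ⟨g, hg⟩, ?_, ?_⟩
      · simpa using (Cfsg.pCore_normal p ↥(normalizer (Q : Set P))).conj_mem r hr ⟨g, hg⟩⁻¹
      · show g⁻¹ * (r : P) * g = x
        rw [show (r : P) = g * x * g⁻¹ from e]; group

/-- Minimality of `x` for the pair. -/
def IsMinElt (M Q B : Subgroup P) (x : P) : Prop :=
  x ∈ normalizer (Q : Set P) ∧ x ∉ M ∧ x ∈ B ⊔ cnj B x ∧
    ∀ z ∈ B ⊔ cnj B x, z ∉ M → Nat.card ↥(B ⊔ cnj B x) ≤ Nat.card ↥(B ⊔ cnj B z)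

theorem sup_cnj_le {A L : Subgroup P} {x : P} (hA : A ≤ L) (hx : x ∈ L) : A ⊔ cnj A x ≤ L := by
  refine sup_le hA ?_
  rintro _ ⟨a, ha, rfl⟩
  exact mul_mem (mul_mem hx (hA ha)) (inv_mem hx)

variable [Finite P] [Fact p.Prime] {T : Sylow p P} {M Q B : Subgroup P}

theorem IsPair.Q_le (h : IsPair p V T M Q B) : Q ≤ (T : Subgroup P) := le_sup_left.trans h.le

theorem IsPair.B_le (h : IsPair p V T M Q B) : B ≤ (T : Subgroup P) := le_sup_right.trans h.le

theorem IsPair.Q_le_rx (h : IsPair p V T M Q B) : Q ≤ rx p Q :=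
  le_rx (T.2.to_le h.Q_le) le_normalizer le_rfl

theorem IsPair.cnj_not_le (h : IsPair p V T M Q B) (hs : Setting p V T M) {x : P}
    (hx : x ∈ normalizer (Q : Set P)) (hxM : x ∉ M) : ¬ cnj B x ≤ M := fun hle =>
  hxM (h.only x (by
    rw [cnj_sup, cnj_eq_self hx]
    exact sup_le (h.Q_le.trans hs.le) hle))

theorem IsPair.exists_minElt (h : IsPair p V T M Q B) (hs : Setting p V T M) {y : P}
    (hy : y ∈ normalizer (Q : Set P)) (hyM : y ∉ M) :
    ∃ x, IsMinElt M Q B x ∧ B ⊔ cnj B x ≤ B ⊔ cnj B y := by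
  classical
  haveI : Fintype P := Fintype.ofFinite P
  have hX : ∀ {z}, z ∈ normalizer (Q : Set P) → B ⊔ cnj B z ≤ normalizer (Q : Set P) := fun hz =>
    sup_cnj_le h.norm hz
  have hnot : ∀ {z}, z ∈ normalizer (Q : Set P) → z ∉ M → ∃ w ∈ B ⊔ cnj B z, w ∉ M := fun hz hzM =>
    SetLike.not_le_iff_exists.mp fun hle => h.cnj_not_le hs hz hzM (le_sup_right.trans hle)
  obtain ⟨z₀, hz₀, hz₀M⟩ := hnot hy hyM
  obtain ⟨y', hy', hmin⟩ := Finset.exists_min_image
    (Finset.univ.filter fun x : P => x ∈ B ⊔ cnj B y ∧ x ∉ M) (fun x => Nat.card ↥(B ⊔ cnj B x))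
    ⟨z₀, Finset.mem_filter.mpr ⟨Finset.mem_univ _, hz₀, hz₀M⟩⟩
  simp only [Finset.mem_filter, Finset.mem_univ, true_and] at hy' hmin
  obtain ⟨x, hx, hxM⟩ := hnot (hX hy hy'.1) hy'.2
  have hle : B ⊔ cnj B y' ≤ B ⊔ cnj B y := sup_cnj_le le_sup_left hy'.1
  have e : B ⊔ cnj B x = B ⊔ cnj B y' :=
    Subgroup.eq_of_le_of_card_ge (sup_cnj_le le_sup_left hx) (hmin x ⟨hle hx, hxM⟩)
  exact ⟨x, ⟨hX hy (hle hx), hxM, e ▸ hx, fun z hz hzM => e ▸ hmin z ⟨hle (e ▸ hz), hzM⟩⟩, e ▸ hle⟩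

/-- The properties of the group generated by `B` and a minimal conjugate. -/
structure PairData (p : ℕ) (V : Type v) [AddCommGroup V] [DistribMulAction P V]
    (M B L : Subgroup P) : Prop where
  gen : ∀ z ∈ L, z ∉ M → B ⊔ cnj B z = L
  sl2 : ∃ (F : Type) (_ : Field F) (_ : Fintype F) (e : L ≃* Matrix.SpecialLinearGroup (Fin 2) F)
      (ψ : V →+ (Fin 2 → F)), Fintype.card F = Nat.card B ∧ Function.Surjective ψ ∧
      (∀ v, ψ v = 0 ↔ v ∈ fixS V L) ∧
      (∀ (g : L) (v : V), ψ ((g : P) • v) =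
        ((e g : Matrix.SpecialLinearGroup (Fin 2) F) : Matrix (Fin 2) (Fin 2) F).mulVec (ψ v))
  gen_fix : ∀ c ∈ fixS V B, ∃ a ∈ B, ∃ v : V, c - (a • v - v) ∈ fixS V L
  cardC : Nat.card (fixS V B) = Nat.card B * Nat.card (fixS V L)
  cardV : Nat.card V = Nat.card B * Nat.card (fixS V B)
  nosing : ∀ a ∈ B, ∀ v : V, v ∉ fixS V B → a • v - v ∈ fixS V L → a = 1
  cover : ∀ x ∈ L, x ∉ M → ∀ v : V, v ∉ fixS V B → ∃ a ∈ B, v ∈ tr (a * x) (fixS V B)

theorem IsPair.pairData [Finite V] (h : IsPair p V T M Q B) (hs : Setting p V T M)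
    (hm : Moves p V T M) {y : P} (hy : IsMinElt M Q B y) : PairData p V M B (B ⊔ cnj B y) := by
  classical
  obtain ⟨hyX, hyM, hyy, hmin⟩ := hy
  set L := B ⊔ cnj B y with hL
  have hBL : B ≤ L := le_sup_left
  have hLX : L ≤ normalizer (Q : Set P) := sup_cnj_le h.norm hyX
  have hnotM : ¬ L ≤ M := fun hle => hyM (hle hyy)
  have hBM : B ≤ M := h.B_le.trans hs.le
  have hgen : ∀ x ∈ L, x ∉ M → B ⊔ cnj B x = L := fun x hx hxM =>
    Subgroup.eq_of_le_of_card_ge (sup_cnj_le hBL hx) (hmin x hx hxM)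
  have hBp : IsPGroup p B := h.min.1.isPGroup
  obtain ⟨R, hR⟩ := (hBp.of_equiv (subgroupOfEquivOfLe hBL).symm).exists_le_sylow
  set TL := (R : Subgroup L).map L.subtype with hTL
  have hBTL : B ≤ TL := fun b hb => ⟨⟨b, hBL hb⟩, hR (show (⟨b, hBL hb⟩ : L) ∈ B.subgroupOf L from hb), rfl⟩
  have hTLL : TL ≤ L := map_subtype_le _
  set H := rx p Q ⊔ TL
  have hHp : IsPGroup p H := (isPGroup_rx Q).to_sup_of_normal_left' (R.2.map _)
    ((hTLL.trans hLX).trans (normalizer_le_normalizer_rx Q))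
  have hHM : H ≤ M := h.only.pgroup_le hs hHp (sup_le (h.Q_le_rx.trans le_sup_left) (hBTL.trans le_sup_right))
  have hTLM : TL ≤ M := le_sup_right.trans hHM
  set M' := M.subgroupOf L
  have htop : ∀ N : Subgroup L, B.subgroupOf L ≤ N → ∀ x ∈ N, x ∉ M' → N = ⊤ := by
    intro N hBN x hxN hxM
    refine eq_top_iff.mpr fun z _ => ?_
    have h1 : B ⊔ cnj B (x : P) ≤ N.map L.subtype :=
      sup_cnj_le (fun b hb => ⟨⟨b, hBL hb⟩, hBN hb, rfl⟩) ⟨x, hxN, rfl⟩
    rw [hgen x x.2 hxM] at h1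
    obtain ⟨w, hw, e⟩ := h1 z.2
    rwa [← Subtype.ext e]
  have hM : IsCoatom M' := ⟨fun h => hnotM (Subgroup.subgroupOf_eq_top.mp h), fun N hN => by
    obtain ⟨x, hxN, hxM⟩ := SetLike.exists_of_lt hN
    exact htop N (le_trans (fun b hb => hBM hb) hN.le) x hxN hxM⟩
  have hTM : (R : Subgroup L) ≤ M' := fun t ht => hTLM ⟨t, ht, rfl⟩
  have huniq : ∀ N, IsCoatom N → (R : Subgroup L) ≤ N → N = M' := by
    intro N hN hRN
    by_contra hne
    have hle : ¬ N ≤ M' := fun h => by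
      rcases h.lt_or_eq with h1 | h1
      · exact hM.1 (hN.2 _ h1)
      · exact hne h1
    obtain ⟨x, hxN, hxM⟩ := SetLike.not_le_iff_exists.mp hle
    exact hN.1 (htop N (hR.trans hRN) x hxN hxM)
  have hTn : ¬ (R : Subgroup L).Normal := fun hn => by
    refine h.cnj_not_le hs hyX hyM ?_
    rintro _ ⟨b, hb, rfl⟩
    exact hTM (hn.conj_mem _ (hR (show (⟨b, hBL hb⟩ : L) ∈ B.subgroupOf L from hb)) ⟨y, hyy⟩)
  have hmS : ∀ A : Subgroup L, mS V A = mS V (A.map L.subtype) := fun A => by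
    unfold mS
    rw [Subgroup.card_map_of_injective L.subtype_injective]
    refine congrArg (Nat.card A * ·) (congrArg (fun D : AddSubgroup V => Nat.card D) ?_)
    exact AddSubgroup.ext fun v => ⟨fun hv => by rintro _ ⟨g, hg, rfl⟩; exact hv g hg,
      fun hv g hg => hv _ ⟨g, hg, rfl⟩⟩
  have hfixB : fixS V (B.subgroupOf L) = fixS V B :=
    AddSubgroup.ext fun _ => ⟨fun hv a ha => hv ⟨a, hBL ha⟩ ha, fun hv a ha => hv (a : P) ha⟩
  have hfixL : fixS V (⊤ : Subgroup L) = fixS V L :=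
    AddSubgroup.ext fun _ => ⟨fun hv a ha => hv ⟨a, ha⟩ trivial, fun hv a _ => hv (a : P) a.2⟩
  have hmapB : (B.subgroupOf L).map L.subtype = B := by
    rw [Subgroup.subgroupOf_map_subtype, inf_eq_left.mpr hBL]
  obtain ⟨v, hv, g, hgL, hgv⟩ := hm.exists_fix hs hHp hHM hnotM
  obtain ⟨⟨hB1, hcomm, hexp, hoff⟩, hstrict⟩ := h.min
  obtain ⟨F, iF, iFt, e, ψ, hcard, hψs, hψ0, hψe, -, hC, hCZ, hVC, hnos, hcov⟩ :=
    sl2_of_offender (P := L) hs.char (fun g hg => Subtype.ext (hs.faith g hg)) R hTn M' hM hTM huniq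
      (B.subgroupOf L) hR (fun a ha b hb => Subtype.ext (hcomm _ ha _ hb))
      (fun a ha => Subtype.ext (by rw [SubgroupClass.coe_pow]; exact hexp _ ha))
      (by rw [hmS, hmapB]; exact hoff)
      (fun A₀ h0 h1 h2 => by
        rw [hmS, hmS, hmapB]
        refine hstrict _ ?_ ?_ ?_
        · rw [← hmapB]; exact Subgroup.map_mono h0
        · rwa [ne_eq, Subgroup.map_eq_bot_iff_of_injective _ L.subtype_injective]
        · rw [← hmapB]; exact fun h => h2 (Subgroup.map_injective L.subtype_injective h))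
      ⟨v, fun a ha => hv a (le_sup_right (a := rx p Q) (hBTL ha)),
        fun r hr => hv r (le_sup_right (a := rx p Q) ⟨r, (Subgroup.mem_inf.mp hr).1, rfl⟩),
        ⟨g, hgL⟩, hgv⟩
      (fun x hx => by
        apply Subgroup.map_injective L.subtype_injective
        rw [Subgroup.map_sup, hmapB, Subgroup.map_map, ← MonoidHom.range_eq_map, Subgroup.range_subtype]
        refine Eq.trans (congrArg (B ⊔ ·) ?_) (hgen x x.2 hx)
        show _ = cnj B (x : P)
        conv_rhs => rw [← hmapB]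
        rw [cnj, Subgroup.map_map]
        rfl)
  have hcardB : Nat.card (B.subgroupOf L) = Nat.card B := Nat.card_congr (subgroupOfEquivOfLe hBL).toEquiv
  rw [hfixB, hfixL] at hCZ hnos
  rw [hfixB] at hVC hC hcov
  rw [hcardB] at hcard hCZ hVC
  refine ⟨hgen, ⟨F, iF, iFt, e, ψ, hcard, hψs, fun v => (hψ0 v).trans
    ⟨fun h g hg => h ⟨g, hg⟩, fun h g => h g g.2⟩, hψe⟩, fun c hc => ?_, hCZ, hVC, ?_, ?_⟩
  · obtain ⟨a, ha, w, hw⟩ := hC c hc
    exact ⟨a, ha, w, fun g hg => hw ⟨g, hg⟩⟩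
  · exact fun a ha v hv h => congrArg Subtype.val (hnos ⟨a, hBL ha⟩ ha v hv h)
  · intro x hx hxM v hv
    obtain ⟨a, ha, hva⟩ := hcov ⟨x, hx⟩ hxM v hv
    exact ⟨a, ha, mem_tr.mpr (mem_tr.mp hva)⟩

end Cfsg.Agent.H11.PMinFF
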