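import Cfsg.Agent.H11.PMinFF.Pair

/-!
Consequences of the structure of a pair.
-/

set_option autoImplicit false

namespace Cfsg.Agent.H11.PMinFF

open Subgroup Cfsg.Agent.H63 Cfsg.Agent.H31.SL2Pair

universe u v

variable {P : Type u} [Group P] {V : Type v} [AddCommGroup V] [DistribMulAction P V] [Finite V]
variable {p : ℕ} {M B L : Subgroup P}

/-- The extra facts about `B` and `L` used with `PairData`. -/
structure PairBase (p : ℕ) (V : Type v) [AddCommGroup V] [DistribMulAction P V]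
    (M B L : Subgroup P) : Prop extends PairData p V M B L where
  leL : B ≤ L
  leM : B ≤ M
  notM : ¬ L ≤ M
  quad : ∀ a ∈ B, ∀ v : V, a • v - v ∈ fixS V B

namespace PairBase

variable (d : PairBase p V M B L)
include d

omit [Finite V]

theorem fixL_le : fixS V L ≤ fixS V B := fixS_anti d.leL

theorem disp_le_fix : disp V B ≤ fixS V B := disp_le.mpr fun a ha v => d.quad a ha v

theorem inter {z : P} (hz : z ∈ L) (hzM : z ∉ M) :
    fixS V B ⊓ tr z (fixS V B) = fixS V L := by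
  conv_rhs => rw [← d.gen z hz hzM, fixS_sup, fixS_cnj]

theorem inter_mem {z : P} (hz : z ∈ L) (hzM : z ∉ M) {v : V} (h1 : v ∈ fixS V B)
    (h2 : z⁻¹ • v ∈ fixS V B) : v ∈ fixS V L :=
  d.inter hz hzM ▸ AddSubgroup.mem_inf.mpr ⟨h1, mem_tr.mpr h2⟩

theorem smul_sub_add {a : P} (ha : a ∈ B) {b : P} (hb : b ∈ B) (v : V) :
    (a * b) • v - v = (a • v - v) + (b • v - v) := by
  have : (a * b) • v - v = a • (b • v - v) + (a • v - v) := by rw [smul_sub, mul_smul]; abel
  rw [this, (d.quad b hb v) a ha]; abel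

theorem fix_eq : fixS V B = disp V B ⊔ fixS V L := by
  refine le_antisymm (fun c hc => ?_) (sup_le d.disp_le_fix d.fixL_le)
  obtain ⟨a, ha, v, hv⟩ := d.gen_fix c hc
  rw [show c = (a • v - v) + (c - (a • v - v)) by abel]
  exact AddSubgroup.add_mem_sup (mem_disp ha v) hv

variable [Finite V]

theorem diff_surj [Finite P] {v : V} (hv : v ∉ fixS V B) {c : V} (hc : c ∈ fixS V B) :
    ∃ a ∈ B, c - (a • v - v) ∈ fixS V L := by
  let Φ : B × fixS V L → fixS V B := fun q =>
    ⟨((q.1 : P) • v - v) + (q.2 : V), add_mem (d.quad _ q.1.2 v) (d.fixL_le q.2.2)⟩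
  have hinj : Function.Injective Φ := by
    intro q q' h
    have h' : ((q.1 : P) • v - v) + (q.2 : V) = ((q'.1 : P) • v - v) + q'.2 := congrArg Subtype.val h
    have e : ((q'.1⁻¹ * q.1 : B) : P) = 1 := by
      refine d.nosing _ (q'.1⁻¹ * q.1).2 v hv ?_
      have h1 := d.smul_sub_add q'.1.2 (q'.1⁻¹ * q.1).2 v
      rw [Subgroup.coe_mul, Subgroup.coe_inv, mul_inv_cancel_left] at h1
      rw [Subgroup.coe_mul, Subgroup.coe_inv]
      rw [h1, add_assoc, add_right_inj] at h'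
      rw [eq_sub_of_add_eq h']
      exact sub_mem q'.2.2 q.2.2
    have e1 : q.1 = q'.1 := (inv_mul_eq_one.mp (Subtype.ext e : q'.1⁻¹ * q.1 = 1)).symm
    refine Prod.ext e1 (Subtype.ext ?_)
    rwa [e1, add_right_inj] at h'
  have hbij : Function.Bijective Φ := hinj.bijective_of_nat_card_le (by rw [Nat.card_prod, d.cardC])
  obtain ⟨q, hq⟩ := hbij.2 ⟨c, hc⟩
  refine ⟨q.1, q.1.2, ?_⟩
  rw [show c = ((q.1 : P) • v - v) + q.2 from (congrArg Subtype.val hq).symm, add_sub_cancel_left]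
  exact q.2.2

/-- An invariant subspace not fixed pointwise, together with the fixed points, is everything. -/
theorem sup_fix_eq_top [Finite P] {S : AddSubgroup V} (hS : ∀ g ∈ L, ∀ s ∈ S, g • s ∈ S)
    (hne : ¬ S ≤ fixS V L) : S ⊔ fixS V L = ⊤ := by
  obtain ⟨y, hy, hyM⟩ := SetLike.not_le_iff_exists.mp d.notM
  obtain ⟨s, hs, hsC⟩ : ∃ s ∈ S, s ∉ fixS V B := by
    by_contra hno
    push_neg at hno
    exact hne fun s hs => d.inter_mem hy hyM (hno s hs) (hno _ (hS _ (inv_mem hy) s hs))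
  have hC : fixS V B ≤ S ⊔ fixS V L := fun c hc => by
    obtain ⟨a, ha, h⟩ := d.diff_surj hsC hc
    rw [show c = (a • s - s) + (c - (a • s - s)) by abel]
    exact AddSubgroup.add_mem_sup (sub_mem (hS a (d.leL ha) s hs) hs) h
  have hinv : ∀ g ∈ L, ∀ v ∈ S ⊔ fixS V L, g • v ∈ S ⊔ fixS V L := by
    intro g hg v hv
    obtain ⟨s, hs, z, hz, rfl⟩ := AddSubgroup.mem_sup.mp hv
    rw [smul_add, hz g hg]
    exact AddSubgroup.add_mem_sup (hS g hg s hs) hz
  refine eq_top_iff.mpr fun v _ => ?_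
  by_cases hv : v ∈ fixS V B
  · exact hC hv
  obtain ⟨a, ha, hva⟩ := d.cover y hy hyM v hv
  have := hinv (a * y) (mul_mem (d.leL ha) hy) _ (hC (mem_tr.mp hva))
  rwa [smul_inv_smul] at this

omit [Finite V] in
theorem smul_mem_dispL {g : P} (hg : g ∈ L) {x : V} (hx : x ∈ disp V L) : g • x ∈ disp V L :=
  smul_mem_of_trivOn (le_trivOn_disp L hg) hx

omit [Finite V] in
theorem not_disp_le : ¬ disp V L ≤ fixS V L := by
  intro hle
  obtain ⟨F, iF, iFt, e, ψ, hcard, hψs, hψ0, hψe⟩ := d.sl2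
  have h1 : ∀ g : L, e g = 1 := fun g => Subtype.ext <| by
    refine Matrix.ext_iff_mulVec.mpr fun w => ?_
    obtain ⟨v, rfl⟩ := hψs w
    rw [← hψe, Matrix.SpecialLinearGroup.coe_one, Matrix.one_mulVec]
    have := (hψ0 _).mpr (hle (mem_disp g.2 v))
    rwa [map_sub, sub_eq_zero] at this
  refine d.notM fun g hg => ?_
  have : (⟨g, hg⟩ : L) = 1 := e.injective ((h1 _).trans (map_one e).symm)
  rw [show g = ((1 : L) : P) from congrArg Subtype.val this]
  exact one_mem M

theorem disp_sup_fix [Finite P] : disp V L ⊔ fixS V L = ⊤ :=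
  d.sup_fix_eq_top (fun _ hg _ hs => d.smul_mem_dispL hg hs) d.not_disp_le

theorem disp_le_of_invariant [Finite P] {S : AddSubgroup V} (hS : ∀ g ∈ L, ∀ s ∈ S, g • s ∈ S)
    (hne : ¬ S ≤ fixS V L) : disp V L ≤ S := disp_le.mpr fun g hg v => by
  obtain ⟨s, hs, z, hz, rfl⟩ :=
    AddSubgroup.mem_sup.mp ((d.sup_fix_eq_top hS hne) ▸ AddSubgroup.mem_top v)
  rw [smul_add, hz g hg, add_sub_add_right_eq_sub]
  exact sub_mem (hS g hg s hs) hs

omit [Finite V] in
theorem eq_one_of_trivial {g : P} (hg : g ∈ L) (h : ∀ v : V, g • v - v ∈ fixS V L) : g = 1 := by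
  obtain ⟨F, iF, iFt, e, ψ, hcard, hψs, hψ0, hψe⟩ := d.sl2
  have h1 : e ⟨g, hg⟩ = 1 := Subtype.ext <| by
    refine Matrix.ext_iff_mulVec.mpr fun w => ?_
    obtain ⟨v, rfl⟩ := hψs w
    rw [← hψe, Matrix.SpecialLinearGroup.coe_one, Matrix.one_mulVec]
    have := (hψ0 _).mpr (h v)
    rwa [map_sub, sub_eq_zero] at this
  exact congrArg Subtype.val (e.injective (h1.trans (map_one e).symm))

omit [Finite V] in
theorem dispL_eq {y : P} (hy : y ∈ L) (hyM : y ∉ M) : disp V L = disp V B ⊔ tr y (disp V B) := by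
  conv_lhs => rw [← d.gen y hy hyM, disp_sup, disp_cnj]

omit [Finite V] in
theorem disp_inf_fix : disp V L ⊓ fixS V B = disp V B := by
  refine le_antisymm (fun w hw => ?_) (le_inf (disp_mono d.leL) d.disp_le_fix)
  obtain ⟨y, hy, hyM⟩ := SetLike.not_le_iff_exists.mp d.notM
  obtain ⟨hwL, hwC⟩ := AddSubgroup.mem_inf.mp hw
  rw [d.dispL_eq hy hyM] at hwL
  obtain ⟨x, hx, x', hx', rfl⟩ := AddSubgroup.mem_sup.mp hwL
  have hx'C : x' ∈ fixS V B := by
    have := sub_mem hwC (d.disp_le_fix hx)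
    rwa [add_sub_cancel_left] at this
  have hz : x' ∈ fixS V L := d.inter_mem hy hyM hx'C (d.disp_le_fix (mem_tr.mp hx'))
  have : x' ∈ disp V B := by
    have h2 := mem_tr.mp hx'
    rwa [hz _ (inv_mem hy)] at h2
  exact add_mem hx this

omit [Finite V] in
theorem disp_inf_fixL : disp V L ⊓ fixS V L ≤ disp V B :=
  (inf_le_inf_left _ d.fixL_le).trans d.disp_inf_fix.le

/-- A p-group normalised by `L` and lying with `B` in `M` centralises `L`. -/
theorem pgroup_normalised [Finite P] [Fact p.Prime] {T : Sylow p P} (hs : Setting p V T M)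
    (hm : Moves p V T M) {R : Subgroup P} (hR : IsPGroup p R) (hn : L ≤ normalizer (R : Set P))
    (hRB : R ⊔ B ≤ M) (hBp : IsPGroup p B) :
    disp V R ≤ fixS V L ∧ disp V L ≤ fixS V R ∧ ∀ r ∈ R, ∀ g ∈ L, r * g = g * r := by
  have h1 : disp V R ≤ fixS V L := by
    by_contra hne
    refine hm.not_trivOn hs hR (le_sup_left.trans hRB) d.notM ((le_trivOn_disp (V := V) L).trans ?_)
    exact fun g hg v => d.disp_le_of_invariant (fun g hg s hs => smul_mem_disp (hn hg) hs) hne (hg v)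
  have h2 : disp V L ≤ fixS V R := by
    refine d.disp_le_of_invariant (fun g hg s hs => smul_mem_fixS (hn hg) hs) fun hle => ?_
    have hp : IsPGroup p ↥(R ⊔ B) := hR.to_sup_of_normal_left' hBp (d.leL.trans hn)
    obtain ⟨v, hv, g, hg, hgv⟩ := hm.exists_fix hs hp hRB d.notM
    exact hgv (hle (fixS_anti le_sup_left hv) g hg)
  refine ⟨h1, h2, fun r hr g hg => ?_⟩
  have key : ∀ v : V, (r * g) • v = (g * r) • v := fun v => by
    obtain ⟨w, hw, z, hz, rfl⟩ := AddSubgroup.mem_sup.mp (d.disp_sup_fix ▸ AddSubgroup.mem_top v)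
    have hrz : g • (r • z) = r • z := by
      have := add_mem (h1 (mem_disp hr z)) hz
      rw [sub_add_cancel] at this
      exact this g hg
    rw [mul_smul, mul_smul, smul_add, smul_add, smul_add, smul_add, hz g hg, hrz,
      h2 (d.smul_mem_dispL hg hw) r hr, h2 hw r hr]
  refine (inv_mul_eq_one.mp (hs.faith _ fun v => ?_)).symm
  rw [mul_smul, key v, ← mul_smul, inv_mul_cancel, one_smul]

end PairBase

theorem IsPair.pairBase [Finite P] [Fact p.Prime] {T : Sylow p P} {Q : Subgroup P}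
    (h : IsPair p V T M Q B) (hs : Setting p V T M) (hm : Moves p V T M) {y : P}
    (hy : IsMinElt M Q B y) : PairBase p V M B (B ⊔ cnj B y) :=
  ⟨h.pairData hs hm hy, le_sup_left, h.B_le.trans hs.le, fun hle => hy.2.1 (hle hy.2.2.1),
    h.min.quad hs.char hs.faith⟩

end Cfsg.Agent.H11.PMinFF
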