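import Cfsg.Agent.H11.PMinFF.Graph
import Mathlib.GroupTheory.Perm.ClosureSwap

/-!
Pairs of transvections, pairwise adjacent, generate the symmetric group of degree `2 r + 1` on its
even-weight module.
-/

set_option autoImplicit false

namespace Cfsg.Agent.H11.PMinFF

open Subgroup Cfsg.Agent.H63

universe u v

variable {P : Type u} [Group P] {V : Type v} [AddCommGroup V] [DistribMulAction P V]

/-- The data of pairwise adjacent pairs of transvections. -/
structure Star (p : ℕ) {ι : Type*} (a c : ι → P) (e f : ι → V) (φ ψ : ι → (V →+ ZMod 2)) : Prop where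
  tva : ∀ i, IsTv (a i) (e i) (φ i)
  tvc : ∀ i, IsTv (c i) (f i) (ψ i)
  φe : ∀ i j, φ j (e i) = 0
  φf : ∀ i, φ i (f i) = 1
  φf' : ∀ i j, i ≠ j → φ j (f i) = 0
  ψe : ∀ i, ψ i (e i) = 1
  ψe' : ∀ i j, i ≠ j → ψ j (e i) = 0
  ψf : ∀ i, ψ i (f i) = 0
  ψf' : ∀ i j, i ≠ j → ψ j (f i) = 1

variable {p : ℕ} {ι : Type*} {a c : ι → P} {e f : ι → V} {φ ψ : ι → (V →+ ZMod 2)}

theorem closure_eq_of_swaps {α : Type*} [DecidableEq α] [Finite α] (o : α) (G : Subgroup (Equiv.Perm α))
    (h : ∀ x, Equiv.swap o x ∈ G) : G = ⊤ := by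
  have h2 : ∀ x y, Equiv.swap x y ∈ G := fun x y => by
    by_cases hx : x = o
    · exact hx ▸ h y
    by_cases hy : y = o
    · exact hy ▸ Equiv.swap_comm x o ▸ h x
    by_cases hxy : x = y
    · rw [hxy, Equiv.swap_self]; exact one_mem G
    have e : Equiv.swap x y = Equiv.swap o x * Equiv.swap o y * Equiv.swap o x := by
      conv_rhs => arg 2; rw [← Equiv.swap_inv]
      rw [← Equiv.swap_apply_apply]
      simp [Equiv.swap_apply_of_ne_of_ne hy (fun e => hxy e.symm)]
    rw [e]
    exact mul_mem (mul_mem (h x) (h y)) (h x)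
  refine eq_top_iff.mpr fun σ hσ => ?_
  clear hσ
  induction σ using Equiv.Perm.swap_induction_on with
  | one => exact one_mem G
  | swap_mul σ x y _ ih => exact mul_mem (h2 x y) ih

theorem perm_eq_of_even {α : Type*} [DecidableEq α] [Fintype α] (h3 : 3 ≤ Fintype.card α)
    {σ τ : Equiv.Perm α}
    (h : ∀ u : α → ZMod 2, ∑ i, u i = 0 → u ∘ σ.symm = u ∘ τ.symm) : σ = τ := by
  have key : ∀ i, σ.symm i = τ.symm i := by
    intro i
    by_contra hne
    obtain ⟨z, -, hz⟩ : ∃ z ∈ (Finset.univ : Finset α), z ∉ ({σ.symm i, τ.symm i} : Finset α) :=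
      Finset.exists_mem_notMem_of_card_lt_card (by
        rw [Finset.card_univ]
        exact lt_of_le_of_lt Finset.card_le_two h3)
    simp only [Finset.mem_insert, Finset.mem_singleton, not_or] at hz
    have hu : ∑ k, (Pi.single (σ.symm i) (1 : ZMod 2) + Pi.single z 1 : α → ZMod 2) k = 0 := by
      simp [Finset.sum_add_distrib, Finset.sum_pi_single', show (1 : ZMod 2) + 1 = 0 from rfl]
    have := congrFun (h _ hu) i
    simp [Function.comp_apply, Pi.add_apply, Ne.symm hz.1, Ne.symm hz.2, Ne.symm hne] at this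
  exact Equiv.ext fun x => by
    have := key (σ x)
    rw [Equiv.symm_apply_apply] at this
    conv_rhs => rw [this, Equiv.apply_symm_apply]

theorem comp_swap {α : Type*} [DecidableEq α] (u : α → ZMod 2) (x y : α) (hxy : x ≠ y) (z : α) :
    u (Equiv.swap x y z) = u z + (u x + u y) * ((if z = x then 1 else 0) + (if z = y then 1 else 0)) := by
  have h2 : ∀ s t : ZMod 2, s + (s + t) = t := by decide
  have h3 : ∀ s t : ZMod 2, t + (s + t) = s := by decide
  rcases eq_or_ne z x with rfl | hx
  · simp [hxy, h2]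
  rcases eq_or_ne z y with rfl | hy
  · simp [hxy.symm, h3]
  simp [Equiv.swap_apply_of_ne_of_ne hx hy, hx, hy]

section star

variable (h : Star p a c e f φ ψ) [Fintype ι] [DecidableEq ι]

/-- The coordinates: the point `none`, and two points for every index. -/
def coord (φ ψ : ι → (V →+ ZMod 2)) : V →+ (Option (ι × Bool) → ZMod 2) :=
  AddMonoidHom.mk' (fun v => fun o => match o with
    | none => ∑ i, φ i v
    | some (i, true) => ψ i v + ∑ j, φ j v
    | some (i, false) => φ i v + ψ i v + ∑ j, φ j v) fun v w => funext fun o => by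
      match o with
      | none => simp [Finset.sum_add_distrib]
      | some (i, true) => simp [Finset.sum_add_distrib]; ring
      | some (i, false) => simp [Finset.sum_add_distrib]; ring

omit [DecidableEq ι] in
theorem coord_none (v : V) : coord φ ψ v none = ∑ i, φ i v := rfl

omit [DecidableEq ι] in
theorem coord_true (i : ι) (v : V) : coord φ ψ v (some (i, true)) = ψ i v + ∑ j, φ j v := rfl

omit [DecidableEq ι] in
theorem coord_false (i : ι) (v : V) : coord φ ψ v (some (i, false)) = φ i v + ψ i v + ∑ j, φ j v := rfl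

omit [DecidableEq ι] in
theorem coord_even (v : V) : ∑ o, coord φ ψ v o = 0 := by
  rw [Fintype.sum_option, Fintype.sum_prod_type, coord_none]
  simp only [Fintype.sum_bool, coord_true, coord_false]
  have h2 : ∀ x y s : ZMod 2, y + s + (x + y + s) = x := by decide
  simp [h2, CharTwo.add_self_eq_zero]

include h

omit [DecidableEq ι] in
theorem coord_eq_zero {v : V} : coord φ ψ v = 0 ↔ ∀ i, φ i v = 0 ∧ ψ i v = 0 := by
  constructor
  · intro h0 i
    have h1 : ∑ j, φ j v = 0 := congrFun h0 none
    have h2 := congrFun h0 (some (i, true))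
    have h3 := congrFun h0 (some (i, false))
    rw [coord_true, h1, add_zero] at h2
    rw [coord_false, h1, add_zero] at h3
    simp only [Pi.zero_apply] at h2 h3
    rw [h2, add_zero] at h3
    exact ⟨h3, h2⟩
  · intro h0
    funext o
    match o with
    | none => simp [coord_none, h0]
    | some (i, true) => simp [coord_true, h0]
    | some (i, false) => simp [coord_false, h0]

theorem coord_e (k : ι) (o : Option (ι × Bool)) :
    coord φ ψ (e k) o = (if o = some (k, false) then 1 else 0) + (if o = some (k, true) then 1 else 0) := by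
  match o with
  | none => simp [coord_none, h.φe]
  | some (i, true) =>
    rw [coord_true]
    rcases eq_or_ne i k with rfl | hne
    · simp [h.φe, h.ψe]
    · simp [h.φe, h.ψe' k i hne.symm, hne]
  | some (i, false) =>
    rw [coord_false]
    rcases eq_or_ne i k with rfl | hne
    · simp [h.φe, h.ψe]
    · simp [h.φe, h.ψe' k i hne.symm, hne]

theorem coord_f (k : ι) (o : Option (ι × Bool)) :
    coord φ ψ (f k) o = (if o = some (k, true) then 1 else 0) + (if o = none then 1 else 0) := by
  have hsum : ∑ j, φ j (f k) = 1 := by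
    rw [Finset.sum_eq_single k (fun j _ hj => h.φf' k j hj.symm) (fun hk => absurd (Finset.mem_univ k) hk),
      h.φf]
  have h11 : (1 : ZMod 2) + 1 = 0 := rfl
  match o with
  | none => simp [coord_none, hsum]
  | some (i, true) =>
    rw [coord_true, hsum]
    rcases eq_or_ne i k with rfl | hne
    · simp [h.ψf]
    · simp [h.ψf' k i hne.symm, hne, h11]
  | some (i, false) =>
    rw [coord_false, hsum]
    rcases eq_or_ne i k with rfl | hne
    · simp [h.φf, h.ψf, h11]
    · simp [h.φf' k i hne.symm, h.ψf' k i hne.symm, h11]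

theorem coord_a (k : ι) (v : V) :
    coord φ ψ (a k • v) = coord φ ψ v ∘ ⇑(Equiv.swap (some (k, false)) (some (k, true))) := by
  funext o
  rw [Function.comp_apply, comp_swap (coord φ ψ v) _ _ (by simp) o, h.tva k v, map_add, Pi.add_apply,
    coord_false, coord_true]
  have h2 : ∀ x y s : ZMod 2, x + y + s + (y + s) = x := by decide
  rw [h2]
  congr 1
  rcases zmod_two_cases (φ k v) with e0 | e0
  · simp [e0]
  · rw [e0, sm_one, one_mul, coord_e h]

theorem coord_c (k : ι) (v : V) :
    coord φ ψ (c k • v) = coord φ ψ v ∘ ⇑(Equiv.swap (some (k, true)) none) := by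
  funext o
  rw [Function.comp_apply, comp_swap (coord φ ψ v) _ _ (by simp) o, h.tvc k v, map_add, Pi.add_apply,
    coord_none, coord_true]
  have h2 : ∀ y s : ZMod 2, y + s + s = y := by decide
  rw [h2]
  congr 1
  rcases zmod_two_cases (ψ k v) with e0 | e0
  · simp [e0]
  · rw [e0, sm_one, one_mul, coord_f h]

theorem span_surjective (hadd : ∀ x : V, x + x = 0) (u : Option (ι × Bool) → ZMod 2) (hu : ∑ o, u o = 0) :
    ∃ v ∈ AddSubgroup.closure (Set.range e ∪ Set.range f), coord φ ψ v = u := by
  let al : ι → ZMod 2 := fun i => u (some (i, false))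
  let be : ι → ZMod 2 := fun i => u (some (i, false)) + u (some (i, true))
  refine ⟨∑ i, (sm (al i) (e i) + sm (be i) (f i)), sum_mem fun i _ => add_mem ?_ ?_, ?_⟩
  · exact nsmul_mem (AddSubgroup.subset_closure (k := Set.range e ∪ Set.range f) (Or.inl ⟨i, rfl⟩)) _
  · exact nsmul_mem (AddSubgroup.subset_closure (k := Set.range e ∪ Set.range f) (Or.inr ⟨i, rfl⟩)) _
  have hsm : ∀ (x : ZMod 2) (w : V), coord φ ψ (sm x w) = fun o => x * coord φ ψ w o := fun x w => by
    rcases zmod_two_cases x with rfl | rfl <;> funext o <;> simp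
  funext o
  rw [map_sum, Finset.sum_apply]
  simp only [map_add, Pi.add_apply, hsm, coord_e h, coord_f h]
  match o with
  | none =>
    rw [Fintype.sum_option, Fintype.sum_prod_type] at hu
    simp only [Fintype.sum_bool] at hu
    simp only [reduceCtorEq, if_false, add_zero, mul_zero, zero_add, if_true, mul_one, be]
    rw [eq_comm, ← sub_eq_zero, CharTwo.sub_eq_add]
    rw [show ∑ i, (u (some (i, false)) + u (some (i, true))) = ∑ i, (u (some (i, true)) + u (some (i, false))) from
      Finset.sum_congr rfl fun i _ => add_comm _ _]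
    exact hu
  | some (i, true) =>
    simp only [reduceCtorEq, if_false, add_zero, Option.some.injEq, Prod.mk.injEq, and_true, and_false,
      zero_add, mul_ite, mul_one, mul_zero, Finset.sum_add_distrib, Finset.sum_ite_eq, Finset.mem_univ,
      if_true, al, be]
    rw [← add_assoc, CharTwo.add_self_eq_zero, zero_add]
  | some (i, false) =>
    simp [al]

omit [DecidableEq ι] in
theorem eq_zero_of_span (hadd : ∀ x : V, x + x = 0) {v : V}
    (hv : v ∈ AddSubgroup.closure (Set.range e ∪ Set.range f)) (h0 : coord φ ψ v = 0) : v = 0 := by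
  classical
  have hrep : ∃ al be : ι → ZMod 2, v = ∑ i, (sm (al i) (e i) + sm (be i) (f i)) := by
    clear h0
    induction hv using AddSubgroup.closure_induction with
    | mem x hx =>
      rcases hx with ⟨k, rfl⟩ | ⟨k, rfl⟩
      · refine ⟨Pi.single k 1, 0, ?_⟩
        rw [Finset.sum_eq_single k (fun i _ hi => by simp [Pi.single_eq_of_ne hi])
          (fun hk => absurd (Finset.mem_univ k) hk)]
        simp
      · refine ⟨0, Pi.single k 1, ?_⟩
        rw [Finset.sum_eq_single k (fun i _ hi => by simp [Pi.single_eq_of_ne hi])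
          (fun hk => absurd (Finset.mem_univ k) hk)]
        simp
    | zero => exact ⟨0, 0, by simp⟩
    | add x y _ _ hx hy =>
      obtain ⟨al, be, rfl⟩ := hx
      obtain ⟨al', be', rfl⟩ := hy
      refine ⟨al + al', be + be', ?_⟩
      rw [← Finset.sum_add_distrib]
      refine Finset.sum_congr rfl fun i _ => ?_
      rw [Pi.add_apply, Pi.add_apply, sm_add (hadd _), sm_add (hadd _)]
      abel
    | neg x _ hx =>
      rw [show -x = x from neg_eq_of_add_eq_zero_left (hadd x)]
      exact hx
  obtain ⟨al, be, rfl⟩ := hrep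
  have hc := (coord_eq_zero h).mp h0
  have hsm : ∀ (x : ZMod 2) (w : V) (g : V →+ ZMod 2), g (sm x w) = x * g w := fun x w g => by
    rcases zmod_two_cases x with rfl | rfl <;> simp
  have hbe : ∀ j, be j = 0 := fun j => by
    have := (hc j).1
    rw [map_sum, Finset.sum_eq_single j (fun i _ hi => by simp [hsm, h.φe, h.φf' i j hi])
      (fun hk => absurd (Finset.mem_univ j) hk)] at this
    simpa [hsm, h.φe, h.φf] using this
  have hal : ∀ j, al j = 0 := fun j => by
    have := (hc j).2
    rw [map_sum, Finset.sum_eq_single j (fun i _ hi => by simp [hsm, hbe, h.ψe' i j hi])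
      (fun hk => absurd (Finset.mem_univ j) hk)] at this
    simpa [hsm, hbe, h.ψe] using this
  simp [hal, hbe]

theorem sym_of_star [Finite P] (hfaith : ∀ x : P, (∀ v : V, x • v = v) → x = 1)
    (hadd : ∀ x : V, x + x = 0) (hι : Nonempty ι) {E : Subgroup P}
    (hE : E = Subgroup.closure (Set.range a ∪ Set.range c)) :
    ∃ (ρ : E ≃* Equiv.Perm (Option (ι × Bool))),
      (∀ (g : E) (v : V), coord φ ψ ((g : P) • v) = coord φ ψ v ∘ ⇑(ρ g).symm) ∧
      (∀ v, coord φ ψ v = 0 ↔ v ∈ fixS V E) ∧
      ∀ u : Option (ι × Bool) → ZMod 2, ∑ o, u o = 0 → ∃ v ∈ disp V E, coord φ ψ v = u := by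
  classical
  have haE : ∀ i, a i ∈ E := fun i => hE ▸ subset_closure (Or.inl ⟨i, rfl⟩)
  have hcE : ∀ i, c i ∈ E := fun i => hE ▸ subset_closure (Or.inr ⟨i, rfl⟩)
  set U := AddSubgroup.closure (Set.range e ∪ Set.range f)
  have hUdisp : U ≤ disp V E := by
    refine (AddSubgroup.closure_le _).mpr ?_
    rintro _ (⟨i, rfl⟩ | ⟨i, rfl⟩)
    · have := mem_disp (V := V) (haE i) (f i)
      rwa [h.tva i, h.φf, sm_one, add_sub_cancel_left] at this
    · have := mem_disp (V := V) (hcE i) (e i)
      rwa [h.tvc i, h.ψe, sm_one, add_sub_cancel_left] at this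
  have hEU : E ≤ trivOn P U := hE ▸ (closure_le _).mpr (by
    rintro _ (⟨i, rfl⟩ | ⟨i, rfl⟩) v
    · rw [h.tva i, add_sub_cancel_left]
      exact nsmul_mem (AddSubgroup.subset_closure (k := Set.range e ∪ Set.range f) (Or.inl ⟨i, rfl⟩)) _
    · rw [h.tvc i, add_sub_cancel_left]
      exact nsmul_mem (AddSubgroup.subset_closure (k := Set.range e ∪ Set.range f) (Or.inr ⟨i, rfl⟩)) _)
  have hsurj := fun u hu => span_surjective h hadd u hu
  have h3 : 3 ≤ Fintype.card (Option (ι × Bool)) := by
    rw [Fintype.card_option, Fintype.card_prod, Fintype.card_bool]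
    have : 0 < Fintype.card ι := Fintype.card_pos
    omega
  -- the graph of the homomorphism
  let G : Subgroup (P × Equiv.Perm (Option (ι × Bool))) :=
    { carrier := {q | ∀ v, coord φ ψ (q.1 • v) = coord φ ψ v ∘ ⇑q.2.symm}
      one_mem' := fun v => by rw [Prod.fst_one, one_smul]; rfl
      mul_mem' := fun {q q'} hq hq' v => by
        show coord φ ψ ((q.1 * q'.1) • v) = _
        rw [mul_smul, hq, hq']
        rfl
      inv_mem' := fun {q} hq v => by
        have := hq (q.1⁻¹ • v)
        rw [smul_inv_smul] at this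
        show coord φ ψ (q.1⁻¹ • v) = coord φ ψ v ∘ ⇑(q.2⁻¹).symm
        rw [this]
        funext o
        simp [Equiv.Perm.inv_def] }
  have hGmem : ∀ {q}, q ∈ G ↔ ∀ v, coord φ ψ (q.1 • v) = coord φ ψ v ∘ ⇑q.2.symm := Iff.rfl
  have huniq : ∀ g σ τ, (g, σ) ∈ G → (g, τ) ∈ G → σ = τ := fun g σ τ hσ hτ =>
    perm_eq_of_even h3 fun u hu => by
      obtain ⟨v, -, rfl⟩ := hsurj u hu
      rw [← hGmem.mp hσ v, ← hGmem.mp hτ v]
  have hex : ∀ g ∈ E, ∃ σ, (g, σ) ∈ G := by
    intro g hg
    rw [hE] at hg
    induction hg using Subgroup.closure_induction with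
    | mem x hx =>
      rcases hx with ⟨i, rfl⟩ | ⟨i, rfl⟩
      · exact ⟨_, fun v => by rw [coord_a h i v, Equiv.symm_swap]⟩
      · exact ⟨_, fun v => by rw [coord_c h i v, Equiv.symm_swap]⟩
    | one => exact ⟨1, one_mem G⟩
    | mul x y _ _ hx hy =>
      obtain ⟨σ, hσ⟩ := hx
      obtain ⟨τ, hτ⟩ := hy
      exact ⟨σ * τ, mul_mem hσ hτ⟩
    | inv x _ hx =>
      obtain ⟨σ, hσ⟩ := hx
      exact ⟨σ⁻¹, inv_mem hσ⟩
  choose ρ₀ hρ₀ using hex
  let ρ : E →* Equiv.Perm (Option (ι × Bool)) := MonoidHom.mk' (fun g => ρ₀ g g.2) fun g g' =>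
    huniq _ _ _ (hρ₀ _ (g * g').2) (mul_mem (hρ₀ _ g.2) (hρ₀ _ g'.2))
  have hρ : ∀ (g : E) v, coord φ ψ ((g : P) • v) = coord φ ψ v ∘ ⇑(ρ g).symm := fun g v => hρ₀ g g.2 v
  have hfixE : ∀ v, coord φ ψ v = 0 ↔ v ∈ fixS V E := by
    intro v
    rw [coord_eq_zero h]
    constructor
    · intro h0
      have : E ≤ MulAction.stabilizer P v := hE ▸ (closure_le _).mpr (by
        rintro _ (⟨i, rfl⟩ | ⟨i, rfl⟩)
        · show a i • v = v
          rw [h.tva i, (h0 i).1, sm_zero, add_zero]
        · show c i • v = v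
          rw [h.tvc i, (h0 i).2, sm_zero, add_zero])
      exact fun g hg => this hg
    · intro hv i
      refine ⟨((h.tva i).fixed_iff fun e0 => ?_).mp (hv _ (haE i)), ((h.tvc i).fixed_iff fun e0 => ?_).mp (hv _ (hcE i))⟩
      · simpa [e0] using h.ψe i
      · simpa [e0] using h.φf i
  have hinj : Function.Injective ρ := (injective_iff_map_eq_one ρ).mpr fun g hg => Subtype.ext (hfaith g fun v => by
    have hco : ∀ v, coord φ ψ ((g : P) • v) = coord φ ψ v := fun v => by rw [hρ, hg]; rfl
    obtain ⟨w, hw, hwv⟩ := hsurj (coord φ ψ v) (coord_even v)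
    have hz : v - w ∈ fixS V E := (hfixE _).mp (by rw [map_sub, hwv, sub_self])
    rw [show v = w + (v - w) by abel, smul_add, hz g g.2, add_left_inj]
    have hd : (g : P) • w - w ∈ U := hEU g.2 w
    have hd0 : coord φ ψ ((g : P) • w - w) = 0 := by rw [map_sub, hco, sub_self]
    rw [← sub_eq_zero]
    exact eq_zero_of_span h hadd hd hd0)
  have hsur : Function.Surjective ρ := MonoidHom.range_eq_top.mp (closure_eq_of_swaps none _ fun x => by
    have hswc : ∀ i, Equiv.swap none (some (i, true)) ∈ ρ.range := fun i =>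
      ⟨⟨c i, hcE i⟩, huniq _ _ _ (fun v => hρ ⟨c i, hcE i⟩ v)
        (fun v => by rw [coord_c h i v, Equiv.symm_swap, Equiv.swap_comm])⟩
    match x with
    | none => rw [Equiv.swap_self]; exact one_mem _
    | some (i, true) => exact hswc i
    | some (i, false) =>
      have hswa : Equiv.swap (some (i, false)) (some (i, true)) ∈ ρ.range :=
        ⟨⟨a i, haE i⟩, huniq _ _ _ (fun v => hρ ⟨a i, haE i⟩ v)
          (fun v => by rw [coord_a h i v, Equiv.symm_swap])⟩
      have := mul_mem (mul_mem hswa (hswc i)) hswa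
      rwa [show Equiv.swap (some (i, false)) (some (i, true)) * Equiv.swap none (some (i, true)) *
          Equiv.swap (some (i, false)) (some (i, true)) = Equiv.swap none (some (i, false)) by
        conv_lhs => arg 2; rw [← Equiv.swap_inv]
        rw [← Equiv.swap_apply_apply]
        simp [Equiv.swap_apply_of_ne_of_ne]] at this)
  exact ⟨MulEquiv.ofBijective ρ ⟨hinj, hsur⟩, hρ, hfixE, fun u hu => by
    obtain ⟨v, hv, e⟩ := hsurj u hu
    exact ⟨v, hUdisp hv, e⟩⟩

end star

end Cfsg.Agent.H11.PMinFF
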